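import Mathlib

set_option autoImplicit false
universe u

namespace Groth.Agent.Lib.Helper14.ARHom

section AR
variable {A : Type*} [CommRing A] [IsNoetherianRing A] (I : Ideal A)
variable {P Q : Type*} [AddCommGroup P] [Module A P] [AddCommGroup Q] [Module A Q]

theorem exists_lift_of_map_mem [Module.Finite A Q] (T : P →ₗ[A] Q) :
    ∃ c : ℕ, ∀ n : ℕ, ∀ x : P, T x ∈ (I ^ (n + c) • ⊤ : Submodule A Q) →
      ∃ z ∈ (I ^ n • ⊤ : Submodule A P), T z = T x := by
  obtain ⟨c, hc⟩ := Ideal.exists_pow_inf_eq_pow_smul I (LinearMap.range T)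
  refine ⟨c, fun n x hx => ?_⟩
  have h1 : T x ∈ (I ^ (n + c) • ⊤ : Submodule A Q) ⊓ LinearMap.range T := ⟨hx, ⟨x, rfl⟩⟩
  rw [hc (n + c) (Nat.le_add_left _ _), Nat.add_sub_cancel] at h1
  have h2 : (I ^ n • ((I ^ c • ⊤ : Submodule A Q) ⊓ LinearMap.range T) : Submodule A Q) ≤
      Submodule.map T (I ^ n • ⊤) := by
    rw [Submodule.map_smul'', Submodule.map_top]
    exact Submodule.smul_mono le_rfl inf_le_right
  obtain ⟨z, hz, hzx⟩ := h2 h1
  exact ⟨z, hz, hzx⟩

theorem exists_smul_mem_pow_smul [Module.Finite A P] (H : Submodule A P) :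
    ∃ c : ℕ, ∀ n : ℕ, ∀ x : P, x ∈ H → x ∈ (I ^ n • ⊤ : Submodule A P) →
      ∀ a ∈ I ^ c, a • x ∈ (I ^ n • H : Submodule A P) := by
  obtain ⟨c, hc⟩ := Ideal.exists_pow_inf_eq_pow_smul I H
  refine ⟨c, fun n x hxH hxn a ha => ?_⟩
  by_cases hnc : c ≤ n
  · have h1 : x ∈ (I ^ n • ⊤ : Submodule A P) ⊓ H := ⟨hxn, hxH⟩
    rw [hc n hnc] at h1
    have h2 : x ∈ (I ^ (n - c) • H : Submodule A P) :=
      Submodule.smul_mono le_rfl inf_le_right h1
    have h3 : a • x ∈ (I ^ c • (I ^ (n - c) • H) : Submodule A P) :=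
      Submodule.smul_mem_smul ha h2
    rwa [← Submodule.mul_smul, ← pow_add, Nat.add_sub_cancel' hnc] at h3
  · push Not at hnc
    exact Submodule.smul_mem_smul (Ideal.pow_le_pow_right hnc.le ha) hxH

end AR


section Pres
variable {A : Type*} [CommRing A] {M : Type*} [AddCommGroup M] [Module A M]
variable {r s : ℕ} (m : Fin r → M) (ρ : Fin s → (Fin r → A))

theorem exists_presentation [IsNoetherianRing A] [Module.Finite A M] :
    ∃ (r s : ℕ) (m : Fin r → M) (ρ : Fin s → (Fin r → A)),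
      Submodule.span A (Set.range m) = ⊤ ∧
      LinearMap.ker (Fintype.linearCombination A m) = Submodule.span A (Set.range ρ) := by
  obtain ⟨r, m, hm⟩ := Module.Finite.exists_fin (R := A) (M := M)
  have hfg : (LinearMap.ker (Fintype.linearCombination A m)).FG :=
    IsNoetherian.noetherian _
  obtain ⟨s, ρ, hρ⟩ := Submodule.fg_iff_exists_fin_generating_family.1 hfg
  exact ⟨r, s, m, ρ, hm, hρ.symm⟩

variable (P : Type*) [AddCommGroup P] [Module A P]

def relMap : (Fin r → P) →ₗ[A] (Fin s → P) :=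
  LinearMap.pi fun j => ∑ i, (ρ j i) • (LinearMap.proj i : (Fin r → P) →ₗ[A] P)

theorem relMap_apply (x : Fin r → P) (j : Fin s) : relMap ρ P x j = ∑ i, ρ j i • x i := by
  simp [relMap]

variable (A) in
def ev : (M →ₗ[A] P) →ₗ[A] (Fin r → P) where
  toFun φ i := φ (m i)
  map_add' _ _ := rfl
  map_smul' _ _ := rfl

theorem ev_apply (φ : M →ₗ[A] P) (i : Fin r) : ev A m P φ i = φ (m i) := rfl

variable {P}

theorem ev_injective (hm : Submodule.span A (Set.range m) = ⊤) :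
    Function.Injective (ev A m P) := by
  intro φ φ' h
  apply LinearMap.ext_on_range hm
  intro i
  exact congrFun h i

theorem relMap_ev (hρ : LinearMap.ker (Fintype.linearCombination A m) =
    Submodule.span A (Set.range ρ)) (φ : M →ₗ[A] P) : relMap ρ P (ev A m P φ) = 0 := by
  funext j
  rw [relMap_apply]
  simp only [ev_apply, Pi.zero_apply]
  have : ρ j ∈ LinearMap.ker (Fintype.linearCombination A m) := by
    rw [hρ]; exact Submodule.subset_span ⟨j, rfl⟩
  rw [LinearMap.mem_ker, Fintype.linearCombination_apply] at this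
  rw [← map_zero φ, ← this, map_sum]
  simp

theorem exists_ev_eq (hm : Submodule.span A (Set.range m) = ⊤)
    (hρ : LinearMap.ker (Fintype.linearCombination A m) = Submodule.span A (Set.range ρ))
    (x : Fin r → P) (hx : relMap ρ P x = 0) : ∃ φ : M →ₗ[A] P, ev A m P φ = x := by
  classical
  have hsurj : Function.Surjective (Fintype.linearCombination A m) := by
    rw [← LinearMap.range_eq_top, Fintype.range_linearCombination, hm]
  have hker : LinearMap.ker (Fintype.linearCombination A m) ≤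
      LinearMap.ker (Fintype.linearCombination A x) := by
    rw [hρ, Submodule.span_le]
    rintro _ ⟨j, rfl⟩
    rw [SetLike.mem_coe, LinearMap.mem_ker, Fintype.linearCombination_apply, ← relMap_apply, hx]
    rfl
  let e := LinearMap.quotKerEquivOfSurjective (Fintype.linearCombination A m) hsurj
  let φ : M →ₗ[A] P := (Submodule.liftQ _ (Fintype.linearCombination A x) hker) ∘ₗ e.symm.toLinearMap
  have hφ : ∀ c : Fin r → A, φ (Fintype.linearCombination A m c) =
      Fintype.linearCombination A x c := by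
    intro c
    have : e.symm (Fintype.linearCombination A m c) = Submodule.Quotient.mk c := by
      rw [LinearEquiv.symm_apply_eq]
      rfl
    simp only [φ, LinearMap.comp_apply, LinearEquiv.coe_coe, this, Submodule.liftQ_apply]
  refine ⟨φ, ?_⟩
  funext i
  rw [ev_apply]
  have h1 := hφ (Pi.single i 1)
  rwa [Fintype.linearCombination_apply_single, Fintype.linearCombination_apply_single, one_smul,
    one_smul] at h1

theorem range_ev (hm : Submodule.span A (Set.range m) = ⊤)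
    (hρ : LinearMap.ker (Fintype.linearCombination A m) = Submodule.span A (Set.range ρ)) :
    LinearMap.range (ev A m P) = LinearMap.ker (relMap ρ P) := by
  ext x
  constructor
  · rintro ⟨φ, rfl⟩
    exact relMap_ev m ρ hρ φ
  · intro hx
    exact exists_ev_eq m ρ hm hρ x hx

theorem mem_smul_top_pi_iff (J : Ideal A) (x : Fin r → P) :
    x ∈ (J • ⊤ : Submodule A (Fin r → P)) ↔ ∀ i, x i ∈ (J • ⊤ : Submodule A P) := by
  classical
  constructor
  · intro hx i
    have : Submodule.map (LinearMap.proj i : (Fin r → P) →ₗ[A] P) (J • ⊤) ≤ J • ⊤ := by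
      rw [Submodule.map_smul'']
      exact Submodule.smul_mono le_rfl le_top
    exact this ⟨x, hx, rfl⟩
  · intro hx
    have hsum : x = ∑ i, (LinearMap.single A (fun _ => P) i) (x i) := by
      funext k
      simp [Finset.sum_apply, Pi.single_apply]
    rw [hsum]
    refine Submodule.sum_mem _ fun i _ => ?_
    have : Submodule.map (LinearMap.single A (fun _ : Fin r => P) i) (J • ⊤) ≤ J • ⊤ := by
      rw [Submodule.map_smul'']
      exact Submodule.smul_mono le_rfl le_top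
    exact this ⟨x i, hx i, rfl⟩

end Pres


section Main
variable (A : Type u) [CommRing A] [IsNoetherianRing A]
    (I : Ideal A) (M N : Type u) [AddCommGroup M] [Module A M] [Module.Finite A M]
    [AddCommGroup N] [Module A N] [Module.Finite A N]

omit [IsNoetherianRing A] [Module.Finite A M] [Module.Finite A N] in
variable {A M N} in
theorem exists_lift_quot {r s : ℕ} (m : Fin r → M) (ρ : Fin s → (Fin r → A))
    (hρ : LinearMap.ker (Fintype.linearCombination A m) = Submodule.span A (Set.range ρ))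
    (n : ℕ) (ψ : M →ₗ[A] N ⧸ (I ^ n • ⊤ : Submodule A N)) :
    ∃ x : Fin r → N, (∀ i, (I ^ n • ⊤ : Submodule A N).mkQ (x i) = ψ (m i)) ∧
      relMap ρ N x ∈ (I ^ n • ⊤ : Submodule A (Fin s → N)) := by
  have hx : ∀ i, ∃ xi : N, (I ^ n • ⊤ : Submodule A N).mkQ xi = ψ (m i) :=
    fun i => Submodule.mkQ_surjective _ _
  choose x hx using hx
  refine ⟨x, hx, ?_⟩
  rw [mem_smul_top_pi_iff]
  intro j
  rw [← Submodule.Quotient.mk_eq_zero, ← Submodule.mkQ_apply, relMap_apply, map_sum]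
  have h0 := congrFun (relMap_ev m ρ hρ ψ) j
  rw [relMap_apply] at h0
  simp only [ev_apply, Pi.zero_apply] at h0
  rw [← h0]
  refine Finset.sum_congr rfl fun i _ => ?_
  rw [map_smul, hx i]

theorem main :
    let Nq : ℕ → Submodule A N := fun n => I ^ n • ⊤
    let pr : ∀ n k : ℕ, n ≤ k → (N ⧸ Nq k) →ₗ[A] (N ⧸ Nq n) :=
      fun n k hnk => Submodule.mapQ (Nq k) (Nq n) (LinearMap.id : N →ₗ[A] N) (Submodule.smul_mono_left (Ideal.pow_le_pow_right hnk))
    let red : ∀ n : ℕ, (M →ₗ[A] N) → (M →ₗ[A] N ⧸ Nq n) := fun n φ => (Nq n).mkQ ∘ₗ φ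
    (∀ n : ℕ, ∃ m : ℕ, n ≤ m ∧ ∀ (k : ℕ) (hmk : m ≤ k) (hnm : n ≤ m) (ψ : M →ₗ[A] N ⧸ Nq m),
        ∃ ψ' : M →ₗ[A] N ⧸ Nq k, pr n k (hnm.trans hmk) ∘ₗ ψ' = pr n m hnm ∘ₗ ψ) ∧
    ∃ c : ℕ, ∀ n : ℕ,
      (∀ φ : M →ₗ[A] N, red n φ = 0 → ∀ a ∈ I ^ c, a • φ ∈ (I ^ n • ⊤ : Submodule A (M →ₗ[A] N))) ∧
      (∀ (ψ : M →ₗ[A] N ⧸ Nq n), ∀ a ∈ I ^ c, ∃ φ : M →ₗ[A] N, red n φ = a • ψ) := by
  intro Nq pr red
  obtain ⟨r, s, m, ρ, hm, hρ⟩ := exists_presentation (A := A) (M := M)
  obtain ⟨c₁, hc₁⟩ := exists_lift_of_map_mem I (relMap ρ N)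
  obtain ⟨c₂, hc₂⟩ := exists_smul_mem_pow_smul I (LinearMap.ker (relMap ρ N))
  have hsub : ∀ (n : ℕ) (x z : Fin r → N), relMap ρ N z = relMap ρ N x →
      z ∈ (I ^ n • ⊤ : Submodule A (Fin r → N)) →
      ∃ φ : M →ₗ[A] N, ∀ i, (Nq n).mkQ (φ (m i)) = (Nq n).mkQ (x i) := by
    intro n x z hzx hz
    obtain ⟨φ, hφ⟩ := exists_ev_eq m ρ hm hρ (x - z) (by rw [map_sub, hzx, sub_self])
    refine ⟨φ, fun i => ?_⟩
    have h1 : φ (m i) = x i - z i := congrFun hφ i
    rw [h1, map_sub, sub_eq_self, Submodule.mkQ_apply, Submodule.Quotient.mk_eq_zero]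
    exact (mem_smul_top_pi_iff _ _).1 hz i
  constructor
  · intro n
    refine ⟨n + c₁, Nat.le_add_right _ _, fun k hmk hnm ψ => ?_⟩
    obtain ⟨x, hx, hxT⟩ := exists_lift_quot I m ρ hρ (n + c₁) ψ
    obtain ⟨z, hz, hzx⟩ := hc₁ n x hxT
    obtain ⟨φ, hφ⟩ := hsub n x z hzx hz
    refine ⟨(Nq k).mkQ ∘ₗ φ, ?_⟩
    apply LinearMap.ext_on_range hm
    intro i
    simp only [LinearMap.comp_apply]
    rw [← hx i]
    simp only [pr, Submodule.mkQ_apply, Submodule.mapQ_apply, LinearMap.id_apply]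
    exact hφ i
  · refine ⟨c₁ + c₂, fun n => ⟨?_, ?_⟩⟩
    · intro φ hφ a ha
      have ha₂ : a ∈ I ^ c₂ := Ideal.pow_le_pow_right (Nat.le_add_left _ _) ha
      have hx1 : ev A m N φ ∈ LinearMap.ker (relMap ρ N) := relMap_ev m ρ hρ φ
      have hx2 : ev A m N φ ∈ (I ^ n • ⊤ : Submodule A (Fin r → N)) := by
        rw [mem_smul_top_pi_iff]
        intro i
        rw [ev_apply, ← Submodule.Quotient.mk_eq_zero, ← Submodule.mkQ_apply]
        exact LinearMap.congr_fun hφ (m i)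
      have h3 := hc₂ n _ hx1 hx2 a ha₂
      rw [← range_ev m ρ hm hρ, LinearMap.range_eq_map, ← Submodule.map_smul''] at h3
      obtain ⟨φ', hφ', hev⟩ := h3
      rw [← map_smul] at hev
      rwa [← ev_injective m hm hev]
    · intro ψ a ha
      have ha₁ : a ∈ I ^ c₁ := Ideal.pow_le_pow_right (Nat.le_add_right _ _) ha
      obtain ⟨x, hx, hxT⟩ := exists_lift_quot I m ρ hρ n ψ
      have hax : relMap ρ N (a • x) ∈ (I ^ (n + c₁) • ⊤ : Submodule A (Fin s → N)) := by
        rw [map_smul, pow_add, mul_comm, Submodule.mul_smul]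
        exact Submodule.smul_mem_smul ha₁ hxT
      obtain ⟨z, hz, hzx⟩ := hc₁ n (a • x) hax
      obtain ⟨φ, hφ⟩ := hsub n (a • x) z hzx hz
      refine ⟨φ, ?_⟩
      apply LinearMap.ext_on_range hm
      intro i
      simp only [red, LinearMap.comp_apply, LinearMap.smul_apply]
      rw [hφ i, Pi.smul_apply, map_smul, hx i]


theorem exists_hom_lift :
    ∃ c : ℕ, ∀ (n : ℕ) (ψ : M →ₗ[A] N ⧸ (I ^ (n + c) • ⊤ : Submodule A N)),
      ∃ φ : M →ₗ[A] N, ∀ (y : M) (w : N),
        (I ^ (n + c) • ⊤ : Submodule A N).mkQ w = ψ y → φ y - w ∈ (I ^ n • ⊤ : Submodule A N) := by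
  obtain ⟨r, s, m, ρ, hm, hρ⟩ := exists_presentation (A := A) (M := M)
  obtain ⟨c₁, hc₁⟩ := exists_lift_of_map_mem I (relMap ρ N)
  refine ⟨c₁, fun n ψ => ?_⟩
  obtain ⟨x, hx, hxT⟩ := exists_lift_quot I m ρ hρ (n + c₁) ψ
  obtain ⟨z, hz, hzx⟩ := hc₁ n x hxT
  obtain ⟨φ, hφ⟩ := exists_ev_eq m ρ hm hρ (x - z) (by rw [map_sub, hzx, sub_self])
  refine ⟨φ, ?_⟩
  have hle : (I ^ (n + c₁) • ⊤ : Submodule A N) ≤ I ^ n • ⊤ :=
    Submodule.smul_mono_left (Ideal.pow_le_pow_right (Nat.le_add_right _ _))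
  have heq : (I ^ n • ⊤ : Submodule A N).mkQ ∘ₗ φ =
      Submodule.mapQ _ _ (LinearMap.id : N →ₗ[A] N) hle ∘ₗ ψ := by
    apply LinearMap.ext_on_range hm
    intro i
    simp only [LinearMap.comp_apply]
    rw [← hx i]
    simp only [Submodule.mkQ_apply, Submodule.mapQ_apply, LinearMap.id_apply]
    have h1 : φ (m i) = x i - z i := congrFun hφ i
    rw [h1, Submodule.Quotient.mk_sub, sub_eq_self, Submodule.Quotient.mk_eq_zero]
    exact (mem_smul_top_pi_iff _ _).1 hz i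
  intro y w hw
  have h2 := LinearMap.congr_fun heq y
  simp only [LinearMap.comp_apply] at h2
  rw [← hw] at h2
  simp only [Submodule.mkQ_apply, Submodule.mapQ_apply, LinearMap.id_apply] at h2
  rwa [Submodule.Quotient.eq] at h2

theorem exists_hom_surjective_mkQ
    (θ : ∀ n : ℕ, Nonempty ((M ⧸ (I ^ n • ⊤ : Submodule A M)) ≃ₗ[A] (N ⧸ (I ^ n • ⊤ : Submodule A N)))) :
    ∃ φ : M →ₗ[A] N, Function.Surjective ((I • ⊤ : Submodule A N).mkQ ∘ₗ φ) := by
  obtain ⟨c, hc⟩ := exists_hom_lift A I M N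
  obtain ⟨e⟩ := θ (1 + c)
  obtain ⟨φ, hφ⟩ := hc 1 (e.toLinearMap ∘ₗ (I ^ (1 + c) • ⊤ : Submodule A M).mkQ)
  refine ⟨φ, fun ybar => ?_⟩
  obtain ⟨y, rfl⟩ := Submodule.mkQ_surjective _ ybar
  obtain ⟨x, hx⟩ := Submodule.mkQ_surjective _ (e.symm ((I ^ (1 + c) • ⊤ : Submodule A N).mkQ y))
  refine ⟨x, ?_⟩
  have h1 := hφ x y (by
    simp only [LinearMap.comp_apply, LinearEquiv.coe_coe]
    rw [hx, LinearEquiv.apply_symm_apply])
  rw [pow_one] at h1
  simp only [LinearMap.comp_apply, Submodule.mkQ_apply]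
  rwa [Submodule.Quotient.eq]

theorem completion_equiv
    (θ : ∀ n : ℕ, Nonempty ((M ⧸ (I ^ n • ⊤ : Submodule A M)) ≃ₗ[A] (N ⧸ (I ^ n • ⊤ : Submodule A N)))) :
    Nonempty (AdicCompletion I M ≃ₗ[AdicCompletion I A] AdicCompletion I N) := by
  obtain ⟨φ, hφ⟩ := exists_hom_surjective_mkQ A I M N θ
  obtain ⟨φ', hφ'⟩ := exists_hom_surjective_mkQ A I N M (fun n => ⟨(θ n).some.symm⟩)
  have h1 := AdicCompletion.map_surjective_of_mkQ_comp_surjective hφ
  have h2 := AdicCompletion.map_surjective_of_mkQ_comp_surjective hφ'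
  have : Module.Finite (AdicCompletion I A) (AdicCompletion I M) :=
    Module.Finite.equiv (AdicCompletion.ofTensorProductEquivOfFiniteNoetherian I M)
  have h3 : Function.Injective ((AdicCompletion.map I φ') ∘ₗ (AdicCompletion.map I φ)) :=
    OrzechProperty.injective_of_surjective_endomorphism _ (h2.comp h1)
  have h4 : Function.Injective (AdicCompletion.map I φ) := by
    intro a b hab
    apply h3
    simp only [LinearMap.comp_apply, hab]
  exact ⟨LinearEquiv.ofBijective (AdicCompletion.map I φ) ⟨h4, h1⟩⟩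

end Main

end Groth.Agent.Lib.Helper14.ARHom
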