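import Mathlib

set_option autoImplicit false
universe u
open IsLocalRing Valuation

namespace Groth.Agent.Lib.Helper14.Abhyankar

section
variable {K L Γ₀ Γ₁ : Type*} [Field K] [Field L] [Algebra K L]
    [LinearOrderedCommGroupWithZero Γ₀] [LinearOrderedCommGroupWithZero Γ₁]
    (vK : Valuation K Γ₀) (vL : Valuation L Γ₁)

theorem exists_val_sum_eq {ι : Type*} (S : Finset ι) (hS : S.Nonempty) (T : ι → L)
    (hd : ∀ i ∈ S, ∀ j ∈ S, vL (T i) = vL (T j) → i = j) :
    ∃ i₀ ∈ S, vL (∑ i ∈ S, T i) = vL (T i₀) := by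
  classical
  obtain ⟨i₀, hi₀, hmax⟩ := Finset.exists_max_image S (fun i => vL (T i)) hS
  refine ⟨i₀, hi₀, ?_⟩
  apply vL.map_sum_eq_of_lt hi₀
  intro j hj
  rw [Finset.mem_sdiff, Finset.mem_singleton] at hj
  refine lt_of_le_of_ne (hmax j hj.1) ?_
  intro heq
  exact hj.2 (hd j hj.1 i₀ hi₀ heq)

theorem sum_ne_zero_of_distinct_val {ι : Type*} (S : Finset ι) (hS : S.Nonempty) (T : ι → L)
    (h0 : ∀ i ∈ S, T i ≠ 0) (hd : ∀ i ∈ S, ∀ j ∈ S, vL (T i) = vL (T j) → i = j) :
    ∑ i ∈ S, T i ≠ 0 := by
  obtain ⟨i₀, hi₀, h⟩ := exists_val_sum_eq vL S hS T hd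
  intro hs
  rw [hs, map_zero] at h
  exact h0 i₀ hi₀ ((map_eq_zero vL).1 h.symm)

theorem val_eq_one_of_isUnit (u : vL.valuationSubring) (hu : IsUnit u) : vL (u : L) = 1 := by
  obtain ⟨c, hc⟩ := hu.exists_right_inv
  have h1 : vL (u : L) ≤ 1 := (mem_valuationSubring_iff vL _).1 u.2
  have h2 : vL (c : L) ≤ 1 := (mem_valuationSubring_iff vL _).1 c.2
  have h3 : vL (u : L) * vL (c : L) = 1 := by
    rw [← map_mul]
    have : ((u * c : vL.valuationSubring) : L) = 1 := by rw [hc]; rfl
    rw [show (u : L) * (c : L) = ((u * c : vL.valuationSubring) : L) from rfl, this, map_one]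
  refine le_antisymm h1 ?_
  by_contra hlt
  rw [not_le] at hlt
  have : vL (u : L) * vL (c : L) < 1 := by
    calc vL (u : L) * vL (c : L) ≤ vL (u : L) * 1 := by gcongr
    _ = vL (u : L) := mul_one _
    _ < 1 := hlt
  rw [h3] at this
  exact lt_irrefl _ this

variable [vK.HasExtension vL]

theorem sum_val {ι : Type*} [Fintype ι] (ω : ι → vL.valuationSubring)
    (hω : LinearIndependent (ResidueField vK.valuationSubring)
      (fun i => residue vL.valuationSubring (ω i)))
    (a : ι → K) (ha : ∃ i, a i ≠ 0) :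
    ∃ x : K, x ≠ 0 ∧ vL (∑ i, algebraMap K L (a i) * (ω i : L)) = vL (algebraMap K L x) := by
  classical
  obtain ⟨i₁, hi₁⟩ := ha
  obtain ⟨i₀, -, hmax⟩ := Finset.exists_max_image Finset.univ
    (fun i => vL (algebraMap K L (a i))) ⟨i₁, Finset.mem_univ _⟩
  have h0 : a i₀ ≠ 0 := by
    intro h
    have h1 := hmax i₁ (Finset.mem_univ _)
    rw [h, map_zero, map_zero] at h1
    have h2 : vL (algebraMap K L (a i₁)) = 0 := le_antisymm h1 zero_le
    rw [map_eq_zero, map_eq_zero] at h2
    exact hi₁ h2
  have h0L : algebraMap K L (a i₀) ≠ 0 := by rwa [Ne, map_eq_zero]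
  refine ⟨a i₀, h0, ?_⟩
  have hc : ∀ i, vK (a i / a i₀) ≤ 1 := by
    intro i
    rw [← HasExtension.val_map_le_one_iff vK vL, map_div₀, map_div₀]
    exact div_le_one_of_le₀ (hmax i (Finset.mem_univ _)) zero_le
  let c : ι → vK.valuationSubring := fun i => ⟨a i / a i₀, (mem_valuationSubring_iff vK _).2 (hc i)⟩
  have hsum : ∑ i, algebraMap K L (a i) * (ω i : L) =
      algebraMap K L (a i₀) *
        ((∑ i, algebraMap vK.valuationSubring vL.valuationSubring (c i) * ω i :
          vL.valuationSubring) : L) := by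
    have hcoe : ((∑ i, algebraMap vK.valuationSubring vL.valuationSubring (c i) * ω i :
          vL.valuationSubring) : L) = ∑ i, algebraMap K L (a i / a i₀) * (ω i : L) := by
      rw [AddSubmonoidClass.coe_finsetSum]
      refine Finset.sum_congr rfl fun i _ => ?_
      rw [MulMemClass.coe_mul, HasExtension.coe_algebraMap_valuationSubring_eq]
    rw [hcoe, Finset.mul_sum]
    refine Finset.sum_congr rfl fun i _ => ?_
    rw [map_div₀]
    field_simp
  have hunit : IsUnit (∑ i, algebraMap vK.valuationSubring vL.valuationSubring (c i) * ω i) := by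
    rw [← residue_ne_zero_iff_isUnit]
    intro hres
    rw [map_sum] at hres
    have hres' : ∑ i, residue vK.valuationSubring (c i) • residue vL.valuationSubring (ω i) = 0 := by
      rw [← hres]
      refine Finset.sum_congr rfl fun i _ => ?_
      rw [map_mul, Algebra.smul_def]
      rfl
    have := Fintype.linearIndependent_iff.1 hω _ hres' i₀
    rw [residue_eq_zero_iff] at this
    have h1 : c i₀ = 1 := by
      apply Subtype.ext
      simp only [c]
      rw [div_self h0]
      rfl
    rw [h1] at this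
    exact (maximalIdeal.isMaximal _).ne_top ((Ideal.eq_top_iff_one _).2 this)
  rw [hsum, map_mul, val_eq_one_of_isUnit vL _ hunit, mul_one]


theorem val_aeval_residue_transcendental {t : Type*} (x : t → vL.valuationSubring)
    (hx : AlgebraicIndependent (ResidueField vK.valuationSubring)
      (fun b => residue vL.valuationSubring (x b)))
    (P : MvPolynomial t K) (hP : P ≠ 0) :
    ∃ k : K, k ≠ 0 ∧ vL (MvPolynomial.aeval (fun b => (x b : L)) P) = vL (algebraMap K L k) := by
  classical
  let mon : (t →₀ ℕ) → vL.valuationSubring := fun γ => γ.prod fun b e => x b ^ e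
  have hli : LinearIndependent (ResidueField vK.valuationSubring)
      (fun γ : P.support => residue vL.valuationSubring (mon γ)) := by
    have h1 := (MvPolynomial.basisMonomials t (ResidueField vK.valuationSubring)).linearIndependent
    have h2 := h1.map' (MvPolynomial.aeval
      (fun b => residue vL.valuationSubring (x b))).toLinearMap
      (LinearMap.ker_eq_bot.2 hx)
    have h3 := h2.comp (Subtype.val : P.support → (t →₀ ℕ)) Subtype.val_injective
    have hfun : (fun γ : P.support => residue vL.valuationSubring (mon γ)) =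
        (((MvPolynomial.aeval (fun b => residue vL.valuationSubring (x b))).toLinearMap ∘
          (MvPolynomial.basisMonomials t (ResidueField vK.valuationSubring))) ∘
          (Subtype.val : P.support → (t →₀ ℕ))) := by
      funext γ
      simp only [Function.comp_apply, MvPolynomial.coe_basisMonomials, AlgHom.toLinearMap_apply,
        MvPolynomial.aeval_monomial, map_one, one_mul, mon]
      rw [Finsupp.prod, Finsupp.prod, map_prod]
      refine Finset.prod_congr rfl fun b _ => ?_
      rw [map_pow]
    rw [hfun]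
    exact h3
  obtain ⟨γ₀, hγ₀⟩ : ∃ γ, P.coeff γ ≠ 0 := by
    by_contra h
    push Not at h
    exact hP (MvPolynomial.ext _ _ (fun γ => by rw [h γ, MvPolynomial.coeff_zero]))
  obtain ⟨k, hk0, hk⟩ := sum_val vK vL (ι := P.support) (fun γ => mon γ) hli
    (fun γ => P.coeff γ) ⟨⟨γ₀, MvPolynomial.mem_support_iff.2 hγ₀⟩, hγ₀⟩
  refine ⟨k, hk0, ?_⟩
  rw [← hk, MvPolynomial.aeval_def, MvPolynomial.eval₂_eq, ← Finset.sum_coe_sort]
  congr 1
  refine Finset.sum_congr rfl fun γ _ => ?_
  congr 1
  simp only [mon]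
  rw [Finsupp.prod, SubmonoidClass.coe_finsetProd]
  refine Finset.prod_congr rfl fun b _ => ?_
  rw [SubmonoidClass.coe_pow]

theorem algebraicIndependent_of_residue {t : Type*} (x : t → vL.valuationSubring)
    (hx : AlgebraicIndependent (ResidueField vK.valuationSubring)
      (fun b => residue vL.valuationSubring (x b))) :
    AlgebraicIndependent K (fun b => (x b : L)) := by
  rw [algebraicIndependent_iff]
  intro P hP
  by_contra hne
  obtain ⟨k, hk0, hk⟩ := val_aeval_residue_transcendental vK vL x hx P hne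
  rw [hP, map_zero] at hk
  have := (map_eq_zero vL).1 hk.symm
  rw [map_eq_zero] at this
  exact hk0 this

omit [vK.HasExtension vL] in
theorem algebraicIndependent_of_distinct_val {F : Type*} [CommRing F] [Algebra F L]
    (hinj : Function.Injective (algebraMap F L))
    (hF : ∀ c : F, c ≠ 0 → ∃ k : K, k ≠ 0 ∧ vL (algebraMap F L c) = vL (algebraMap K L k))
    {s : Type*} (y : s → L) (hy0 : ∀ j, y j ≠ 0)
    (hd : ∀ β β' : s →₀ ℕ, ∀ k : K, k ≠ 0 →
      vL (β.prod fun j e => y j ^ e) = vL (algebraMap K L k) * vL (β'.prod fun j e => y j ^ e) →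
        β = β') :
    AlgebraicIndependent F y := by
  classical
  rw [algebraicIndependent_iff]
  intro P hP
  by_contra hne
  have hS : P.support.Nonempty := by
    rwa [Finset.nonempty_iff_ne_empty, Ne, MvPolynomial.support_eq_empty]
  rw [MvPolynomial.aeval_def, MvPolynomial.eval₂_eq] at hP
  have hprod0 : ∀ β : s →₀ ℕ, (β.prod fun j e => y j ^ e) ≠ 0 := by
    intro β
    rw [Finsupp.prod, Finset.prod_ne_zero_iff]
    intro j _
    exact pow_ne_zero _ (hy0 j)
  refine sum_ne_zero_of_distinct_val vL P.support hS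
    (fun β => algebraMap F L (P.coeff β) * ∏ j ∈ β.support, y j ^ β j) ?_ ?_ hP
  · intro β hβ
    rw [MvPolynomial.mem_support_iff] at hβ
    apply mul_ne_zero
    · rwa [Ne, map_eq_zero_iff _ hinj]
    · exact hprod0 β
  · intro β hβ β' hβ' hv
    rw [MvPolynomial.mem_support_iff] at hβ hβ'
    obtain ⟨k, hk0, hk⟩ := hF _ hβ
    obtain ⟨k', hk0', hk'⟩ := hF _ hβ'
    apply hd β β' (k' / k) (div_ne_zero hk0' hk0)
    simp only [map_mul] at hv
    rw [hk, hk'] at hv
    have hvk : vL (algebraMap K L k) ≠ 0 := by rwa [Ne, map_eq_zero, map_eq_zero]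
    rw [map_div₀, map_div₀, Finsupp.prod, Finsupp.prod, div_mul_eq_mul_div, ← hv, mul_div_assoc,
      mul_comm, div_mul_cancel₀ _ hvk]

end


section
variable {K L Γ₀ Γ₁ : Type u} [Field K] [Field L] [Algebra K L]
    [LinearOrderedCommGroupWithZero Γ₀] [LinearOrderedCommGroupWithZero Γ₁]
    (vK : Valuation K Γ₀) (vL : Valuation L Γ₁) [vK.HasExtension vL]

theorem main :
    Module.rank ℤ (Additive Lˣ ⧸ Subgroup.toAddSubgroup
        (vL.valuationSubring.unitGroup ⊔ (Units.map (algebraMap K L).toMonoidHom).range)) +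
      Algebra.trdeg (IsLocalRing.ResidueField vK.valuationSubring)
        (IsLocalRing.ResidueField vL.valuationSubring) ≤ Algebra.trdeg K L := by
  classical
  obtain ⟨H, hH⟩ : ∃ H : AddSubgroup (Additive Lˣ), H = Subgroup.toAddSubgroup
        (vL.valuationSubring.unitGroup ⊔ (Units.map (algebraMap K L).toMonoidHom).range) :=
    ⟨_, rfl⟩
  rw [← hH]
  obtain ⟨s, hs, hsli⟩ := exists_set_linearIndependent_of_isDomain ℤ (Additive Lˣ ⧸ H)
  obtain ⟨t, ht⟩ := exists_isTranscendenceBasis (ResidueField vK.valuationSubring)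
    (ResidueField vL.valuationSubring)
  have htc := ht.cardinalMk_eq_trdeg
  rw [← hs, ← htc]
  have hxs : ∀ b : t, ∃ xb : vL.valuationSubring,
      residue vL.valuationSubring xb = (b : ResidueField vL.valuationSubring) :=
    fun b => residue_surjective _
  choose x hx using hxs
  have hys : ∀ g : s, ∃ yg : Lˣ,
      (QuotientAddGroup.mk (Additive.ofMul yg) : Additive Lˣ ⧸ H) = g := fun g => by
    obtain ⟨a, ha⟩ := QuotientAddGroup.mk_surjective (g : Additive Lˣ ⧸ H)
    exact ⟨a.toMul, ha⟩
  choose y hy using hys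
  have hxres : AlgebraicIndependent (ResidueField vK.valuationSubring)
      (fun b => residue vL.valuationSubring (x b)) := by
    have := ht.1
    convert this using 1
    funext b
    exact hx b
  have hxalg : AlgebraicIndependent K (fun b => (x b : L)) :=
    algebraicIndependent_of_residue vK vL x hxres
  have hlc : ∀ β : s →₀ ℕ,
      (QuotientAddGroup.mk (Additive.ofMul (∏ g ∈ β.support, y g ^ β g)) : Additive Lˣ ⧸ H) =
        Finsupp.linearCombination ℤ (fun g : s => ((g : Additive Lˣ ⧸ H)))
          (β.mapRange (Nat.cast : ℕ → ℤ) rfl) := by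
    intro β
    rw [Finsupp.linearCombination_apply, Finsupp.sum_mapRange_index (by intro g; simp),
      Finsupp.sum, ofMul_prod, QuotientAddGroup.mk_sum]
    refine Finset.sum_congr rfl fun g _ => ?_
    rw [ofMul_pow, QuotientAddGroup.mk_nsmul, hy g, natCast_zsmul]
  have hyalg : AlgebraicIndependent (Algebra.adjoin K (Set.range fun b => (x b : L)))
      (fun g => ((y g : Lˣ) : L)) := by
    apply algebraicIndependent_of_distinct_val (K := K) vL Subtype.val_injective
    · intro c hc
      have hc2 : (c : L) ∈ (MvPolynomial.aeval (R := K) (fun b => (x b : L))).range := by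
        rw [← Algebra.adjoin_range_eq_range_aeval]
        exact c.2
      obtain ⟨P, hP⟩ := hc2
      have hP0 : P ≠ 0 := by
        rintro rfl
        apply hc
        apply Subtype.ext
        rw [← hP]
        simp
      obtain ⟨k, hk0, hk⟩ := val_aeval_residue_transcendental vK vL x hxres P hP0
      refine ⟨k, hk0, ?_⟩
      rw [← hk]
      congr 1
      exact hP.symm
    · intro g
      exact (y g).ne_zero
    · intro β β' k hk hv
      let ku : Lˣ := Units.map (algebraMap K L).toMonoidHom (Units.mk0 k hk)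
      let pβ : Lˣ := ∏ g ∈ β.support, y g ^ β g
      let pβ' : Lˣ := ∏ g ∈ β'.support, y g ^ β' g
      have hpβ : ((pβ : Lˣ) : L) = β.prod fun j e => ((y j : Lˣ) : L) ^ e := by
        simp only [pβ, Finsupp.prod, Units.coe_prod, Units.val_pow_eq_pow_val]
      have hpβ' : ((pβ' : Lˣ) : L) = β'.prod fun j e => ((y j : Lˣ) : L) ^ e := by
        simp only [pβ', Finsupp.prod, Units.coe_prod, Units.val_pow_eq_pow_val]
      have hku : ((ku : Lˣ) : L) = algebraMap K L k := rfl
      have hu : pβ * pβ'⁻¹ * ku⁻¹ ∈ vL.valuationSubring.unitGroup := by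
        rw [Valuation.mem_unitGroup_iff]
        simp only [Units.val_mul, Units.val_inv_eq_inv_val, map_mul, map_inv₀]
        rw [hpβ, hpβ', hku, hv]
        have h1 : vL (algebraMap K L k) ≠ 0 := by rwa [Ne, map_eq_zero, map_eq_zero]
        have h2 : vL (β'.prod fun j e => ((y j : Lˣ) : L) ^ e) ≠ 0 := by
          rw [← hpβ', Ne, map_eq_zero]
          exact pβ'.ne_zero
        field_simp
      have hmem : pβ * pβ'⁻¹ ∈ vL.valuationSubring.unitGroup ⊔
          (Units.map (algebraMap K L).toMonoidHom).range := by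
        have : pβ * pβ'⁻¹ = (pβ * pβ'⁻¹ * ku⁻¹) * ku := by group
        rw [this]
        exact Subgroup.mul_mem_sup hu ⟨_, rfl⟩
      have hzero : (QuotientAddGroup.mk (Additive.ofMul pβ) : Additive Lˣ ⧸ H) -
          QuotientAddGroup.mk (Additive.ofMul pβ') = 0 := by
        rw [← QuotientAddGroup.mk_sub, QuotientAddGroup.eq_zero_iff, hH]
        exact hmem
      rw [hlc β, hlc β', ← LinearMap.map_sub] at hzero
      have hl := linearIndependent_iff.1 hsli _ hzero
      ext g
      have := DFunLike.congr_fun hl g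
      simp only [Finsupp.coe_sub, Pi.sub_apply, Finsupp.mapRange_apply, Finsupp.coe_zero,
        Pi.zero_apply] at this
      omega
  have := (hxalg.sumElim hyalg).cardinalMk_le_trdeg
  rw [Cardinal.mk_sum, Cardinal.lift_id, Cardinal.lift_id] at this
  exact this

end
end Groth.Agent.Lib.Helper14.Abhyankar
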