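import Mathlib

set_option autoImplicit false
universe u

namespace Groth.Agent.Lib.Helper14.ArtinAA2

open MvPolynomial

theorem approx_of_exists {R Λ : Type u} [CommRing R] [CommRing Λ] [Algebra R Λ] (I : Ideal R)
    (hI : I.FG)
    (hsurj : ∀ a : Λ, ∃ c : R, a - algebraMap R Λ c ∈ I.map (algebraMap R Λ))
    (hex : ∀ (n m : ℕ) (F : Fin m → MvPolynomial (Fin n) R),
      (∃ a : Fin n → Λ, ∀ j, MvPolynomial.eval a (MvPolynomial.map (algebraMap R Λ) (F j)) = 0) →
        ∃ b : Fin n → R, ∀ j, MvPolynomial.eval b (F j) = 0)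
    (n m : ℕ) (F : Fin m → MvPolynomial (Fin n) R) (a : Fin n → Λ)
    (ha : ∀ j, MvPolynomial.eval a (MvPolynomial.map (algebraMap R Λ) (F j)) = 0) :
    ∃ b : Fin n → R, (∀ j, MvPolynomial.eval b (F j) = 0) ∧
      ∀ i, a i - algebraMap R Λ (b i) ∈ I.map (algebraMap R Λ) := by
  classical
  obtain ⟨s, μ, hμ⟩ := Submodule.fg_iff_exists_fin_generating_family.mp hI
  have hμ' : I = Ideal.span (Set.range μ) := hμ.symm
  have hmap : I.map (algebraMap R Λ) = Ideal.span (Set.range (fun k => algebraMap R Λ (μ k))) := by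
    rw [hμ', Ideal.map_span, ← Set.range_comp]
    rfl
  choose c hc using fun i => hsurj (a i)
  have hy : ∀ i, ∃ y : Fin s → Λ, ∑ k, y k * algebraMap R Λ (μ k) = a i - algebraMap R Λ (c i) := by
    intro i
    have := hc i
    rw [hmap, Ideal.mem_span_range_iff_exists_fun] at this
    exact this
  choose y hy using hy
  let e : Fin n × Fin s ≃ Fin (n * s) := finProdFinEquiv
  let sub : Fin n → MvPolynomial (Fin (n * s)) R :=
    fun i => C (c i) + ∑ k, C (μ k) * X (e (i, k))
  let G : Fin m → MvPolynomial (Fin (n * s)) R := fun j => bind₁ sub (F j)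
  let y' : Fin (n * s) → Λ := fun t => y (e.symm t).1 (e.symm t).2
  have hsub : ∀ i, aeval y' (sub i) = a i := by
    intro i
    simp only [sub, map_add, map_sum, map_mul, aeval_C, aeval_X, y', Equiv.symm_apply_apply]
    have h1 := hy i
    have h2 : ∑ k, algebraMap R Λ (μ k) * y i k = ∑ k, y i k * algebraMap R Λ (μ k) :=
      Finset.sum_congr rfl fun k _ => mul_comm _ _
    rw [h2, h1]
    ring
  have hG : ∀ j, MvPolynomial.eval y' (MvPolynomial.map (algebraMap R Λ) (G j)) = 0 := by
    intro j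
    have h1 : MvPolynomial.eval y' (MvPolynomial.map (algebraMap R Λ) (G j)) = aeval y' (G j) := by
      rw [eval_map, aeval_def]
    have h2 : MvPolynomial.eval a (MvPolynomial.map (algebraMap R Λ) (F j)) = aeval a (F j) := by
      rw [eval_map, aeval_def]
    rw [h1]
    change aeval y' (bind₁ sub (F j)) = 0
    rw [aeval_bind₁]
    have h3 : (fun i => aeval y' (sub i)) = a := funext hsub
    rw [h3, ← h2]
    exact ha j
  obtain ⟨z, hz⟩ := hex (n * s) m G ⟨y', hG⟩
  refine ⟨fun i => c i + ∑ k, μ k * z (e (i, k)), ?_, ?_⟩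
  · intro j
    have h1 := hz j
    change MvPolynomial.eval z (bind₁ sub (F j)) = 0 at h1
    have h2 : MvPolynomial.eval z (bind₁ sub (F j)) =
        MvPolynomial.eval (fun i => MvPolynomial.eval z (sub i)) (F j) := by
      exact eval₂Hom_bind₁ (RingHom.id R) z sub (F j)
    rw [h2] at h1
    have h3 : (fun i => MvPolynomial.eval z (sub i)) = fun i => c i + ∑ k, μ k * z (e (i, k)) := by
      funext i
      simp only [sub, map_add, map_sum, map_mul, eval_C, eval_X]
    rw [h3] at h1
    exact h1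
  · intro i
    have h1 : a i - algebraMap R Λ (c i + ∑ k, μ k * z (e (i, k))) =
        ∑ k, (y i k - algebraMap R Λ (z (e (i, k)))) * algebraMap R Λ (μ k) := by
      simp only [map_add, map_sum, map_mul, sub_mul, Finset.sum_sub_distrib]
      rw [hy i]
      have : ∑ k, algebraMap R Λ (z (e (i, k))) * algebraMap R Λ (μ k) =
          ∑ k, algebraMap R Λ (μ k) * algebraMap R Λ (z (e (i, k))) :=
        Finset.sum_congr rfl fun k _ => mul_comm _ _
      rw [this]
      ring
    rw [h1]
    refine Ideal.sum_mem _ fun k _ => Ideal.mul_mem_left _ _ ?_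
    apply Ideal.mem_map_of_mem
    rw [hμ']
    exact Ideal.subset_span ⟨k, rfl⟩

end Groth.Agent.Lib.Helper14.ArtinAA2
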