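import Mathlib
import Groth.Agent.Lib.Helper32.ChevDVR.Defs
import Groth.Agent.Lib.Helper91.CauchyBinet

set_option autoImplicit false
universe u
open TensorProduct
open Groth.Agent.Lib.Helper32.ChevDVR

namespace Groth.Agent.Lib.Helper14.ChevDVR5

theorem compound_mul {R : Type u} [CommRing R] {n : ℕ} (e : ℕ)
    (a b : Matrix (Fin n) (Fin n) R) : compound e (a * b) = compound e a * compound e b := by
  ext S T
  rw [compound_apply, Matrix.mul_apply]
  have h1 : (a * b).submatrix (S.1.orderEmbOfFin S.2) (T.1.orderEmbOfFin T.2) =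
      (a.submatrix (S.1.orderEmbOfFin S.2) id) * (b.submatrix id (T.1.orderEmbOfFin T.2)) := by
    ext i j
    simp [Matrix.mul_apply]
  rw [h1, Groth.Agent.Lib.Helper91.cauchy_binet e n]
  refine Finset.sum_congr rfl fun L _ => ?_
  rw [compound_apply, compound_apply]
  rfl

theorem compound_one {R : Type u} [CommRing R] {n : ℕ} (e : ℕ) :
    compound e (1 : Matrix (Fin n) (Fin n) R) = 1 := by
  classical
  ext S T
  rw [compound_apply, Matrix.one_apply]
  by_cases hST : S = T
  · subst hST
    rw [if_pos rfl, Matrix.submatrix_one _ (S.1.orderEmbOfFin S.2).injective, Matrix.det_one]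
  · rw [if_neg hST]
    have hsub : ¬ S.1 ⊆ T.1 := by
      intro h
      apply hST
      apply Subtype.ext
      exact Finset.eq_of_subset_of_card_le h (by rw [S.2, T.2])
    obtain ⟨i, hiS, hiT⟩ := Finset.not_subset.mp hsub
    have hi : i ∈ Set.range (S.1.orderEmbOfFin S.2) := by
      rw [Finset.range_orderEmbOfFin]
      exact hiS
    obtain ⟨k, hk⟩ := hi
    apply Matrix.det_eq_zero_of_row_eq_zero k
    intro j
    rw [Matrix.submatrix_apply, hk, Matrix.one_apply, if_neg]
    intro hij
    apply hiT
    rw [hij]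
    exact Finset.orderEmbOfFin_mem T.1 T.2 j

theorem compound_map {R S : Type u} [CommRing R] [CommRing S] (f : R →+* S) {n : ℕ} (e : ℕ)
    (a : Matrix (Fin n) (Fin n) R) : compound e (a.map f) = (compound e a).map f := by
  ext P Q
  rw [Matrix.map_apply, compound_apply, compound_apply, RingHom.map_det]
  rfl

theorem comul_compound (V : Type u) [CommRing V] (A : Type u) [CommRing A] [Bialgebra V A]
    {n : ℕ} (e : ℕ) (a : Matrix (Fin n) (Fin n) A)
    (ha : ∀ i j, CoalgebraStruct.comul (R := V) (a i j) = ∑ l, a i l ⊗ₜ[V] a l j)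
    (S T : {S : Finset (Fin n) // S.card = e}) :
    CoalgebraStruct.comul (R := V) (compound e a S T) =
      ∑ U, compound e a S U ⊗ₜ[V] compound e a U T := by
  have h1 : CoalgebraStruct.comul (R := V) (compound e a S T) =
      compound e (a.map (Bialgebra.comulAlgHom V A).toRingHom) S T := by
    rw [compound_map]
    rfl
  have h2 : a.map (Bialgebra.comulAlgHom V A).toRingHom =
      a.map (Algebra.TensorProduct.includeLeft : A →ₐ[V] A ⊗[V] A).toRingHom *
        a.map (Algebra.TensorProduct.includeRight : A →ₐ[V] A ⊗[V] A).toRingHom := by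
    ext i j
    rw [Matrix.map_apply, Matrix.mul_apply]
    have h3 : (Bialgebra.comulAlgHom V A).toRingHom (a i j) =
        CoalgebraStruct.comul (R := V) (a i j) := rfl
    rw [h3, ha i j]
    refine Finset.sum_congr rfl fun l _ => ?_
    rw [Matrix.map_apply, Matrix.map_apply]
    show a i l ⊗ₜ[V] a l j = (a i l ⊗ₜ[V] (1 : A)) * ((1 : A) ⊗ₜ[V] a l j)
    rw [Algebra.TensorProduct.tmul_mul_tmul, mul_one, one_mul]
  rw [h1, h2, compound_mul, compound_map, compound_map, Matrix.mul_apply]
  refine Finset.sum_congr rfl fun U _ => ?_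
  rw [Matrix.map_apply, Matrix.map_apply]
  show (compound e a S U ⊗ₜ[V] (1 : A)) * ((1 : A) ⊗ₜ[V] compound e a U T) = _
  rw [Algebra.TensorProduct.tmul_mul_tmul, mul_one, one_mul]

theorem counit_compound (V : Type u) [CommRing V] (A : Type u) [CommRing A] [Bialgebra V A]
    {n : ℕ} (e : ℕ) (a : Matrix (Fin n) (Fin n) A)
    (ha : ∀ i j, CoalgebraStruct.counit (R := V) (a i j) = if i = j then 1 else 0)
    (S T : {S : Finset (Fin n) // S.card = e}) :
    CoalgebraStruct.counit (R := V) (compound e a S T) = if S = T then 1 else 0 := by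
  classical
  have h1 : CoalgebraStruct.counit (R := V) (compound e a S T) =
      compound e (a.map (Bialgebra.counitAlgHom V A).toRingHom) S T := by
    rw [compound_map]
    rfl
  have h2 : a.map (Bialgebra.counitAlgHom V A).toRingHom = 1 := by
    ext i j
    rw [Matrix.map_apply, Matrix.one_apply]
    have h3 : (Bialgebra.counitAlgHom V A).toRingHom (a i j) =
        CoalgebraStruct.counit (R := V) (a i j) := rfl
    rw [h3, ha i j]
  rw [h1, h2, compound_one, Matrix.one_apply]

end Groth.Agent.Lib.Helper14.ChevDVR5
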