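import Mathlib
import Groth.Prelude.Def_ResDeg
import Groth.Agent.Lib.Helper67.FiberStalk

set_option autoImplicit false
universe u
open CategoryTheory CategoryTheory.Limits AlgebraicGeometry

namespace Groth.Agent.Lib.Helper14.Cyc1941GA

theorem bijective_residueFieldMap_of_isPreimmersion {W V : Scheme.{u}} (j : W ⟶ V)
    [IsPreimmersion j] (w : W) : Function.Bijective (j.residueFieldMap w).hom := by
  refine ⟨(j.residueFieldMap w).hom.injective, ?_⟩
  intro b
  obtain ⟨s, hs⟩ := W.residue_surjective w b
  obtain ⟨t, ht⟩ := j.stalkMap_surjective w s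
  refine ⟨(V.residue (j w)).hom t, ?_⟩
  have h1 := Scheme.residue_residueFieldMap j w
  have h2 : (j.residueFieldMap w).hom ((V.residue (j w)).hom t) =
      (W.residue w).hom ((j.stalkMap w).hom t) := by
    have := congrArg (fun φ => φ.hom t) h1
    exact this
  rw [h2, ht]
  exact hs

end Groth.Agent.Lib.Helper14.Cyc1941GA
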