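import Groth.Agent.S10843
import Mathlib.RingTheory.AlgebraicIndependent.TranscendenceBasis
import Mathlib.RingTheory.Ideal.MinimalPrime.Noetherian
import Mathlib.RingTheory.TensorProduct.MvPolynomial
import Mathlib.RingTheory.Flat.Basic
import Mathlib.RingTheory.TensorProduct.Finite
import Mathlib.Tactic

set_option autoImplicit false
universe u

namespace Groth.Agent.Lib.Helper14

open Cardinal Algebra

section Domain

variable (k A : Type u) [Field k] [CommRing A] [IsDomain A] [Algebra k A] [Algebra.FiniteType k A]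

theorem trdeg_eq_of_finite_injective (s : ℕ) (g : MvPolynomial (Fin s) k →ₐ[k] A)
    (hinj : Function.Injective g) (hfin : g.toRingHom.Finite) : trdeg k A = s := by
  letI : Algebra (MvPolynomial (Fin s) k) A := g.toRingHom.toAlgebra
  haveI : IsScalarTower k (MvPolynomial (Fin s) k) A :=
    IsScalarTower.of_algebraMap_eq (fun r => (g.commutes r).symm)
  haveI : Module.Finite (MvPolynomial (Fin s) k) A := hfin
  haveI : FaithfulSMul (MvPolynomial (Fin s) k) A :=
    (faithfulSMul_iff_algebraMap_injective _ _).mpr hinj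
  have h1 := lift_trdeg_add_eq k (MvPolynomial (Fin s) k) A
  have h2 : trdeg (MvPolynomial (Fin s) k) A = 0 := by
    rw [trdeg_eq_zero_iff]
    infer_instance
  simpa [h2] using h1.symm

theorem natCast_le_ringKrullDim_of_algebraicIndependent_of_isDomain {N : ℕ} (x : Fin N → A)
    (hx : AlgebraicIndependent k x) : (N : WithBot ℕ∞) ≤ ringKrullDim A := by
  obtain ⟨s, g, hinj, hfin⟩ := exists_finite_inj_algHom_of_fg k A
  have hdim : ringKrullDim A = (s : WithBot ℕ∞) := by
    rw [Groth.Agent.S10843.ringKrullDim_eq_of_ringHom g.toRingHom hfin.to_isIntegral hinj,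
      Groth.Agent.S10843.dim_mvPoly]
  have htr := trdeg_eq_of_finite_injective k A s g hinj hfin
  have h1 := hx.lift_cardinalMk_le_trdeg
  rw [htr] at h1
  have h2 : N ≤ s := by simpa using h1
  rw [hdim]
  exact_mod_cast h2

end Domain

section General

variable (k A : Type u) [Field k] [CommRing A] [Algebra k A] [Algebra.FiniteType k A]

theorem exists_minimalPrime_algebraicIndependent {N : ℕ} (x : Fin N → A)
    (hx : AlgebraicIndependent k x) :
    ∃ P ∈ minimalPrimes A, AlgebraicIndependent k (fun i => Ideal.Quotient.mkₐ k P (x i)) := by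
  classical
  haveI : IsNoetherianRing A := Algebra.FiniteType.isNoetherianRing k A
  by_contra hcon
  push Not at hcon
  have hfin := minimalPrimes.finite_of_isNoetherianRing A
  have hex : ∀ P : Ideal A, ∃ f : MvPolynomial (Fin N) k, P ∈ minimalPrimes A →
      (f ≠ 0 ∧ MvPolynomial.aeval x f ∈ P) := by
    intro P
    by_cases hP : P ∈ minimalPrimes A
    · have h1 := hcon P hP
      rw [algebraicIndependent_iff] at h1
      push Not at h1
      obtain ⟨f, hf0, hf⟩ := h1
      refine ⟨f, fun _ => ⟨hf, ?_⟩⟩
      have h2 : MvPolynomial.aeval (fun i => Ideal.Quotient.mkₐ k P (x i)) f =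
          Ideal.Quotient.mkₐ k P (MvPolynomial.aeval x f) := by
        rw [← MvPolynomial.comp_aeval_apply]
      rw [h2] at hf0
      exact Ideal.Quotient.eq_zero_iff_mem.mp hf0
    · exact ⟨0, fun h => absurd h hP⟩
  choose f hf using hex
  set F : MvPolynomial (Fin N) k := ∏ P ∈ hfin.toFinset, f P with hF
  have hF0 : F ≠ 0 := Finset.prod_ne_zero_iff.mpr
    (fun P hP => (hf P (hfin.mem_toFinset.mp hP)).1)
  have hmem : MvPolynomial.aeval x F ∈ nilradical A := by
    rw [nilradical, ← Ideal.sInf_minimalPrimes, Ideal.mem_sInf]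
    intro Q hQ
    have hQ' : Q ∈ hfin.toFinset := hfin.mem_toFinset.mpr hQ
    rw [hF, map_prod, ← Finset.mul_prod_erase _ _ hQ']
    exact Ideal.mul_mem_right _ _ (hf Q hQ).2
  obtain ⟨e, he⟩ := mem_nilradical.mp hmem
  rw [← map_pow] at he
  have := hx.eq_zero_of_aeval_eq_zero _ he
  exact hF0 (pow_eq_zero_iff (M₀ := MvPolynomial (Fin N) k) (n := e) (by
    rintro rfl
    rw [pow_zero] at this
    exact one_ne_zero this) |>.mp this)

theorem natCast_le_ringKrullDim_of_algebraicIndependent {N : ℕ} (x : Fin N → A)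
    (hx : AlgebraicIndependent k x) : (N : WithBot ℕ∞) ≤ ringKrullDim A := by
  obtain ⟨P, hP, hxP⟩ := exists_minimalPrime_algebraicIndependent k A x hx
  haveI : P.IsPrime := hP.1.1
  haveI : Algebra.FiniteType k (A ⧸ P) :=
    Algebra.FiniteType.of_surjective (Ideal.Quotient.mkₐ k P) (Ideal.Quotient.mkₐ_surjective k P)
  exact (natCast_le_ringKrullDim_of_algebraicIndependent_of_isDomain k (A ⧸ P) _ hxP).trans
    (ringKrullDim_quotient_le P)

theorem exists_algebraicIndependent_of_ringKrullDim_eq [Nontrivial A] (N : ℕ)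
    (h : ringKrullDim A = N) : ∃ x : Fin N → A, AlgebraicIndependent k x := by
  obtain ⟨φ, -, hinj⟩ := (Groth.Agent.S10843.result k A N).mp h
  refine ⟨fun i => φ (MvPolynomial.X i), ?_⟩
  rw [algebraicIndependent_iff_injective_aeval]
  have : MvPolynomial.aeval (fun i => φ (MvPolynomial.X i)) = φ := by
    ext i
    simp
  rw [this]
  exact hinj

include k in
theorem exists_natCast_eq_ringKrullDim [Nontrivial A] : ∃ N : ℕ, ringKrullDim A = N := by
  obtain ⟨s, g, hinj, hfin⟩ := exists_finite_inj_algHom_of_fg k A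
  exact ⟨s, by
    rw [Groth.Agent.S10843.ringKrullDim_eq_of_ringHom g.toRingHom hfin.to_isIntegral hinj,
      Groth.Agent.S10843.dim_mvPoly]⟩

theorem card_le_ringKrullDim_of_algebraicIndependent {ι : Type*} [Fintype ι] (x : ι → A)
    (hx : AlgebraicIndependent k x) : (Fintype.card ι : WithBot ℕ∞) ≤ ringKrullDim A :=
  natCast_le_ringKrullDim_of_algebraicIndependent k A (x ∘ (Fintype.equivFin ι).symm)
    (hx.comp _ (Equiv.injective _))

end General

section Tensor

open scoped TensorProduct

variable (k R S : Type u) [Field k] [CommRing R] [CommRing S] [Algebra k R] [Algebra k S]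
  [Algebra.FiniteType k R] [Algebra.FiniteType k S] [Nontrivial R] [Nontrivial S]

omit [Algebra.FiniteType k R] [Algebra.FiniteType k S] [Nontrivial R] [Nontrivial S] in
theorem tensorMap_injective {R' S' : Type u} [CommRing R'] [CommRing S'] [Algebra k R']
    [Algebra k S'] (f : R' →ₐ[k] R) (g : S' →ₐ[k] S) (hf : Function.Injective f)
    (hg : Function.Injective g) : Function.Injective (Algebra.TensorProduct.map f g) := by
  have := TensorProduct.map_injective_of_flat_flat f.toLinearMap g.toLinearMap hf hg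
  exact this

theorem ringKrullDim_tensorProduct (r s : ℕ) (hr : ringKrullDim R = r) (hs : ringKrullDim S = s) :
    ringKrullDim (R ⊗[k] S) = ((r + s : ℕ) : WithBot ℕ∞) := by
  obtain ⟨φR, hRfin, hRinj⟩ := (Groth.Agent.S10843.result k R r).mp hr
  obtain ⟨φS, hSfin, hSinj⟩ := (Groth.Agent.S10843.result k S s).mp hs
  let e := MvPolynomial.tensorEquivSum k (Fin r) (Fin s) k
  let Φ : MvPolynomial (Fin r ⊕ Fin s) k →ₐ[k] R ⊗[k] S :=
    (Algebra.TensorProduct.map φR φS).comp e.symm.toAlgHom
  have hinj : Function.Injective Φ :=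
    (tensorMap_injective k R S φR φS hRinj hSinj).comp e.symm.injective
  have hfin : Φ.toRingHom.Finite := by
    have h1 : (Algebra.TensorProduct.map φR φS).toRingHom.Finite :=
      RingHom.Finite.tensorProductMap hRfin hSfin
    have h2 : (e.symm.toAlgHom).toRingHom.Finite := e.symm.toRingEquiv.finite
    exact h1.comp h2
  rw [Groth.Agent.S10843.ringKrullDim_eq_of_ringHom Φ.toRingHom hfin.to_isIntegral hinj,
    MvPolynomial.ringKrullDim_of_isNoetherianRing, ringKrullDim_eq_zero_of_field]
  simp

end Tensor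

end Groth.Agent.Lib.Helper14
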