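import Groth.Agent.S6370

namespace Groth.Agent.Lib.Helper14.DvrDominate

open IsLocalRing

universe u

theorem exists_dimOne_dominating (R : Type u) [CommRing R] [IsDomain R]
    [IsNoetherianRing R] [IsLocalRing R] (hR : ¬ IsField R)
    (K : Type u) [Field K] [Algebra R K] [IsFractionRing R K] :
    ∃ R' : Subalgebra R K, ∃ _ : IsLocalRing R',
      IsNoetherianRing R' ∧ ringKrullDim R' = 1 ∧ IsLocalHom (algebraMap R R') ∧
        Algebra.EssFiniteType R R' := by
  classical
  have hinj : Function.Injective (algebraMap R K) := IsFractionRing.injective R K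
  have hm0 : maximalIdeal R ≠ ⊥ := fun h => hR (isField_iff_maximalIdeal_eq.2 h)
  obtain ⟨s, hs⟩ := (isNoetherianRing_iff_ideal_fg R).1 inferInstance (maximalIdeal R)
  obtain ⟨V, hV, hVloc⟩ := IsLocalRing.exists_factor_valuationRing (algebraMap R K)
  have hsne : s.Nonempty := by
    rw [Finset.nonempty_iff_ne_empty]
    rintro rfl
    exact hm0 (by rw [← hs]; simp)
  obtain ⟨x₀, hx₀s, hx₀max⟩ := Finset.exists_max_image s
    (fun x => V.valuation (algebraMap R K x)) hsne
  have hsm : ∀ x ∈ s, x ∈ maximalIdeal R := fun x hx => hs ▸ Ideal.subset_span hx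
  have hx₀0 : x₀ ≠ 0 := by
    rintro rfl
    refine hm0 ?_
    rw [← hs, Ideal.span_eq_bot]
    intro x hx
    have := hx₀max x hx
    simp only [map_zero, le_zero_iff] at this
    exact hinj (by rw [map_zero]; exact (map_eq_zero _).1 this)
  set t : K := algebraMap R K x₀ with ht
  have ht0 : t ≠ 0 := by rwa [ht, Ne, map_eq_zero_iff _ hinj]
  have hvt : V.valuation t < 1 := by
    have hx₀m : x₀ ∈ maximalIdeal R := hsm x₀ hx₀s
    have hnu : ¬ IsUnit ((algebraMap R K).codRestrict V.toSubring hV x₀) :=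
      fun hu => (mem_maximalIdeal _).1 hx₀m (hVloc.map_nonunit _ hu)
    rcases V.valuation_lt_one_or_eq_one ⟨t, hV x₀⟩ with h | h
    · exact h
    · exact absurd ((V.valuation_eq_one_iff _).2 h) hnu
  set Gf : Finset K := s.image (fun x => algebraMap R K x / t) with hGf
  set B' : Subalgebra R K := Algebra.adjoin R (Gf : Set K) with hB'
  have hB'V : ∀ b ∈ B', b ∈ V := by
    intro b hb
    induction hb using Algebra.adjoin_induction with
    | mem b hb =>
      obtain ⟨x, hx, rfl⟩ := Finset.mem_image.1 (Finset.mem_coe.1 hb)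
      rw [← V.valuation_le_one_iff, map_div₀]
      exact (div_le_one₀ (by rw [zero_lt_iff]; exact (map_ne_zero _).2 ht0)).2 (hx₀max x hx)
    | algebraMap r => exact hV r
    | add _ _ _ _ h₁ h₂ => exact V.add_mem _ _ h₁ h₂
    | mul _ _ _ _ h₁ h₂ => exact V.mul_mem _ _ h₁ h₂
  have hFT : Algebra.FiniteType R B' := (Subalgebra.fg_iff_finiteType B').1 (Subalgebra.fg_adjoin_finset Gf)
  have hNB' : IsNoetherianRing B' := Algebra.FiniteType.isNoetherianRing R B'
  set t' : B' := algebraMap R B' x₀ with ht'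
  have ht'0 : t' ≠ 0 := by
    intro h
    exact ht0 (congrArg Subtype.val h)
  have hmem : ∀ a ∈ maximalIdeal R, algebraMap R B' a ∈ Ideal.span {t'} := by
    intro a ha
    rw [← hs] at ha
    induction ha using Submodule.span_induction with
    | mem x hx =>
      have hxG : algebraMap R K x / t ∈ B' :=
        Algebra.subset_adjoin (Finset.mem_coe.2 (Finset.mem_image_of_mem _ hx))
      refine Ideal.mem_span_singleton'.2 ⟨⟨_, hxG⟩, Subtype.ext ?_⟩
      change algebraMap R K x / t * t = algebraMap R K x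
      exact div_mul_cancel₀ _ ht0
    | zero => simp
    | add a b _ _ h₁ h₂ => rw [map_add]; exact Ideal.add_mem _ h₁ h₂
    | smul r a _ h => rw [smul_eq_mul, map_mul]; exact Ideal.mul_mem_left _ _ h
  have hnu : ¬ IsUnit t' := by
    rintro ⟨u, hu⟩
    have h1 : t * ((u⁻¹ : B'ˣ) : B').1 = 1 := by
      have := congrArg Subtype.val (u.mul_inv)
      rw [hu] at this
      exact this
    have h2 : V.valuation t * V.valuation ((u⁻¹ : B'ˣ) : B').1 = 1 := by rw [← map_mul, h1, map_one]
    have h3 : V.valuation ((u⁻¹ : B'ˣ) : B').1 ≤ 1 :=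
      (V.valuation_le_one_iff _).2 (hB'V _ ((u⁻¹ : B'ˣ) : B').2)
    have h4 : V.valuation t * V.valuation ((u⁻¹ : B'ˣ) : B').1 ≤ V.valuation t * 1 :=
      mul_le_mul_right h3 _
    rw [h2, mul_one] at h4
    exact absurd hvt (not_lt.2 h4)
  have hne : Ideal.span {t'} ≠ ⊤ := by rwa [Ne, Ideal.span_singleton_eq_top]
  obtain ⟨⟨P, hP⟩⟩ := Ideal.nonempty_minimalPrimes hne
  have hPp : P.IsPrime := hP.1.1
  have ht'P : t' ∈ P := hP.1.2 (Ideal.mem_span_singleton_self t')
  have hP0 : P ≠ ⊥ := by rintro rfl; exact ht'0 (by simpa using ht'P)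
  have hPh : P.height = 1 := by
    refine le_antisymm (Ideal.height_le_one_of_isPrincipal_of_mem_minimalPrimes _ P hP) ?_
    rw [Order.one_le_iff_pos, pos_iff_ne_zero, Ne, Ideal.height_eq_zero_iff_eq_bot]
    exact hP0
  have hinjB : Function.Injective (algebraMap B' K) := Subtype.val_injective
  have : FaithfulSMul B' K := (faithfulSMul_iff_algebraMap_injective _ _).2 hinjB
  have hFr : IsFractionRing B' K := IsFractionRing.of_field B' K (fun z => by
      obtain ⟨a, b, -, rfl⟩ := IsFractionRing.div_surjective (A := R) z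
      exact ⟨algebraMap R B' a, algebraMap R B' b, rfl⟩)
  have hS : P.primeCompl ≤ nonZeroDivisors B' := P.primeCompl_le_nonZeroDivisors
  set S : Subalgebra B' K := Localization.subalgebra K P.primeCompl hS with hSdef
  have hSat : IsLocalization.AtPrime S P :=
    Localization.subalgebra.isLocalization_subalgebra K P.primeCompl hS
  have hSloc : IsLocalRing S := IsLocalization.AtPrime.isLocalRing S P
  have hSN : IsNoetherianRing S := IsLocalization.isNoetherianRing P.primeCompl S hNB'
  have hSdim : ringKrullDim S = 1 := by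
    rw [IsLocalization.AtPrime.ringKrullDim_eq_height P S, hPh]; rfl
  have hSess : Algebra.EssFiniteType R S := by
    have : Algebra.EssFiniteType B' S := Algebra.EssFiniteType.of_isLocalization S P.primeCompl
    exact Algebra.EssFiniteType.comp R B' S
  have hSlh : IsLocalHom (algebraMap R S) := by
    refine ⟨fun a ha => ?_⟩
    by_contra hau
    have ham : a ∈ maximalIdeal R := (mem_maximalIdeal _).2 hau
    have haP : algebraMap R B' a ∈ P := hP.1.2 (hmem a ham)
    rw [IsScalarTower.algebraMap_apply R B' S, IsLocalization.AtPrime.isUnit_to_map_iff S P] at ha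
    exact ha haP
  refine ⟨S.restrictScalars R, hSloc, hSN, hSdim, ?_, hSess⟩
  exact hSlh


theorem exists_dvr_dominating (R : Type u) [CommRing R] [IsDomain R]
    [IsNoetherianRing R] [IsLocalRing R] (hR : ¬ IsField R)
    (K : Type u) [Field K] [Algebra R K] [IsFractionRing R K] :
    ∃ O : ValuationSubring K, IsDiscreteValuationRing O ∧ (∀ r : R, algebraMap R K r ∈ O) ∧
      ∀ r ∈ maximalIdeal R, O.valuation (algebraMap R K r) < 1 := by
  obtain ⟨R', hloc, hN, hdim, hlh, -⟩ := exists_dimOne_dominating R hR K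
  have hinjR' : Function.Injective (algebraMap R' K) := Subtype.val_injective
  have : FaithfulSMul R' K := (faithfulSMul_iff_algebraMap_injective _ _).2 hinjR'
  have hFr : IsFractionRing R' K := IsFractionRing.of_field R' K (fun z => by
      obtain ⟨a, b, -, rfl⟩ := IsFractionRing.div_surjective (A := R) z
      exact ⟨algebraMap R R' a, algebraMap R R' b, rfl⟩)
  obtain ⟨C, hC⟩ : ∃ C : Subalgebra R' K, C = integralClosure R' K := ⟨_, rfl⟩
  have hCic : IsIntegralClosure C R' K := by rw [hC]; infer_instance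
  obtain ⟨hDed, hsurj, -, -⟩ := Groth.Agent.S6370.result R' K K C hdim
  have hm0 : maximalIdeal R' ≠ ⊥ := by
    intro h
    have hf : IsField R' := isField_iff_maximalIdeal_eq.2 h
    rw [ringKrullDim_eq_zero_of_isField hf] at hdim
    exact zero_ne_one hdim
  obtain ⟨Q, hQ⟩ := hsurj ⟨maximalIdeal R', inferInstance⟩
  have hQcomap : Q.asIdeal.comap (algebraMap R' C) = maximalIdeal R' :=
    congrArg PrimeSpectrum.asIdeal hQ
  have hinjC : Function.Injective (algebraMap R' C) := by
    intro a b h
    exact Subtype.ext (congrArg (fun c : C => (c : K)) h)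
  have hQ0 : Q.asIdeal ≠ ⊥ := by
    intro h
    rw [h, Ideal.comap_bot_of_injective _ hinjC] at hQcomap
    exact hm0 hQcomap.symm
  have hFrC : IsFractionRing C K := IsIntegralClosure.isFractionRing_of_finite_extension R' K K C
  have hS : Q.asIdeal.primeCompl ≤ nonZeroDivisors C := Ideal.primeCompl_le_nonZeroDivisors _
  obtain ⟨D, hD⟩ : ∃ D : Subalgebra C K, D = Localization.subalgebra K Q.asIdeal.primeCompl hS :=
    ⟨_, rfl⟩
  have hDat : IsLocalization.AtPrime D Q.asIdeal := by
    rw [hD]
    exact Localization.subalgebra.isLocalization_subalgebra K Q.asIdeal.primeCompl hS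
  have hDVR : IsDiscreteValuationRing D :=
    IsLocalization.AtPrime.isDiscreteValuationRing_of_dedekind_domain C hQ0 D
  have hFrD : IsFractionRing D K := by
    rw [hD]
    exact Localization.subalgebra.isFractionRing K Q.asIdeal.primeCompl hS
  let O : ValuationSubring K :=
    { D.toSubring with
      mem_or_inv_mem' := fun x => by
        rcases ValuationRing.isInteger_or_isInteger D x with ⟨d, hd⟩ | ⟨d, hd⟩
        · left; rw [← hd]; exact d.2
        · right; rw [← hd]; exact d.2 }
  have hmemD : ∀ r : R, algebraMap R K r ∈ D := fun r =>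
    (algebraMap C D (algebraMap R' C (algebraMap R R' r))).2
  refine ⟨O, hDVR, hmemD, ?_⟩
  intro r hr
  have hr' : algebraMap R R' r ∈ maximalIdeal R' := by
    rw [mem_maximalIdeal, mem_nonunits_iff]
    intro hu
    exact (mem_maximalIdeal _).1 hr (hlh.map_nonunit _ hu)
  have hrQ : algebraMap R' C (algebraMap R R' r) ∈ Q.asIdeal := by
    rw [← hQcomap] at hr'
    exact hr'
  have hnu : ¬ IsUnit (algebraMap C D (algebraMap R' C (algebraMap R R' r))) := by
    rw [IsLocalization.AtPrime.isUnit_to_map_iff D Q.asIdeal]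
    exact fun h => h hrQ
  have hlt := (O.valuation_lt_one_iff ⟨algebraMap R K r, hmemD r⟩).1 (by
    rw [mem_maximalIdeal, mem_nonunits_iff]
    exact hnu)
  exact hlt

theorem exists_dvr_dominating_fg (A : Type u) [CommRing A] [IsDomain A] [IsNoetherianRing A]
    [IsLocalRing A] (hA : ¬ IsField A) (K : Type u) [Field K] [Algebra A K] [IsFractionRing A K]
    (L : Type u) [Field L] [Algebra K L] [Algebra A L] [IsScalarTower A K L]
    (hfg : (⊤ : IntermediateField K L).FG) :
    ∃ R : ValuationSubring L, IsDiscreteValuationRing R ∧ (∀ a : A, algebraMap A L a ∈ R) ∧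
      ∀ a ∈ IsLocalRing.maximalIdeal A, R.valuation (algebraMap A L a) < 1 := by
  classical
  have hinjAL : Function.Injective (algebraMap A L) := by
    rw [IsScalarTower.algebraMap_eq A K L]
    exact (algebraMap K L).injective.comp (IsFractionRing.injective A K)
  obtain ⟨V, hV, hVloc⟩ := IsLocalRing.exists_factor_valuationRing (algebraMap A L)
  obtain ⟨S, hS⟩ := hfg
  set S' : Finset L := S.image (fun a => if a ∈ V then a else a⁻¹) with hS'
  obtain ⟨B, hB⟩ : ∃ B : Subalgebra A L, B = Algebra.adjoin A (S' : Set L) := ⟨_, rfl⟩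
  have hS'V : ∀ b ∈ S', b ∈ V := by
    intro b hb
    obtain ⟨a, -, rfl⟩ := Finset.mem_image.1 hb
    by_cases h : a ∈ V
    · simp [h]
    · simpa [h] using (V.mem_or_inv_mem a).resolve_left h
  have hBV : ∀ b ∈ B, b ∈ V := by
    intro b hb
    rw [hB] at hb
    induction hb using Algebra.adjoin_induction with
    | mem b hb => exact hS'V b (Finset.mem_coe.1 hb)
    | algebraMap r => exact hV r
    | add _ _ _ _ h₁ h₂ => exact V.add_mem _ _ h₁ h₂
    | mul _ _ _ _ h₁ h₂ => exact V.mul_mem _ _ h₁ h₂
  have hFT : Algebra.FiniteType A B := by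
    rw [hB]
    exact (Subalgebra.fg_iff_finiteType _).1 (Subalgebra.fg_adjoin_finset S')
  have hNB : IsNoetherianRing B := Algebra.FiniteType.isNoetherianRing A B
  have hFrac : ∀ z : L, ∃ x y : L, x ∈ B ∧ y ∈ B ∧ y ≠ 0 ∧ z = x / y := by
    have key : ∀ z ∈ Algebra.adjoin K (S : Set L), ∃ x y : L, x ∈ B ∧ y ∈ B ∧ y ≠ 0 ∧ z = x / y := by
      intro z hz
      induction hz using Algebra.adjoin_induction with
      | mem a ha =>
        have haS' : (if a ∈ V then a else a⁻¹) ∈ B := by
          rw [hB]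
          exact Algebra.subset_adjoin (Finset.mem_coe.2 (Finset.mem_image_of_mem _ ha))
        by_cases h : a ∈ V
        · rw [if_pos h] at haS'
          exact ⟨a, 1, haS', B.one_mem, one_ne_zero, by rw [div_one]⟩
        · rw [if_neg h] at haS'
          have ha0 : a ≠ 0 := by rintro rfl; exact h V.zero_mem
          exact ⟨1, a⁻¹, B.one_mem, haS', inv_ne_zero ha0, by rw [one_div, inv_inv]⟩
      | algebraMap k =>
        obtain ⟨a, b, hb, rfl⟩ := IsFractionRing.div_surjective (A := A) k
        refine ⟨algebraMap A L a, algebraMap A L b, B.algebraMap_mem a, B.algebraMap_mem b, ?_, ?_⟩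
        · rw [Ne, map_eq_zero_iff _ hinjAL]
          exact nonZeroDivisors.ne_zero hb
        · rw [map_div₀, ← IsScalarTower.algebraMap_apply, ← IsScalarTower.algebraMap_apply]
      | add _ _ _ _ h₁ h₂ =>
        obtain ⟨x, y, hx, hy, hy0, rfl⟩ := h₁
        obtain ⟨x', y', hx', hy', hy0', rfl⟩ := h₂
        refine ⟨x * y' + x' * y, y * y', B.add_mem (B.mul_mem hx hy') (B.mul_mem hx' hy),
          B.mul_mem hy hy', mul_ne_zero hy0 hy0', ?_⟩
        field_simp
      | mul _ _ _ _ h₁ h₂ =>
        obtain ⟨x, y, hx, hy, hy0, rfl⟩ := h₁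
        obtain ⟨x', y', hx', hy', hy0', rfl⟩ := h₂
        refine ⟨x * x', y * y', B.mul_mem hx hx', B.mul_mem hy hy', mul_ne_zero hy0 hy0', ?_⟩
        field_simp
    intro z
    have hz : z ∈ IntermediateField.adjoin K (S : Set L) := by rw [hS]; trivial
    obtain ⟨r, hr, s, hs, rfl⟩ := IntermediateField.mem_adjoin_iff_div.1 hz
    obtain ⟨x, y, hx, hy, hy0, rfl⟩ := key r hr
    obtain ⟨x', y', hx', hy', hy0', rfl⟩ := key s hs
    by_cases hx'0 : x' = 0
    · exact ⟨0, 1, B.zero_mem, B.one_mem, one_ne_zero, by simp [hx'0]⟩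
    · refine ⟨x * y', y * x', B.mul_mem hx hy', B.mul_mem hy hx', mul_ne_zero hy0 hx'0, ?_⟩
      field_simp
  have hinjB : Function.Injective (algebraMap B L) := Subtype.val_injective
  have : FaithfulSMul B L := (faithfulSMul_iff_algebraMap_injective _ _).2 hinjB
  have hFrB : IsFractionRing B L := IsFractionRing.of_field B L (fun z => by
    obtain ⟨x, y, hx, hy, -, rfl⟩ := hFrac z
    exact ⟨⟨x, hx⟩, ⟨y, hy⟩, rfl⟩)
  let ι : B →+* V := Subring.inclusion (show B.toSubring ≤ V.toSubring from fun b hb => hBV b hb)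
  obtain ⟨n, hn⟩ : ∃ n : Ideal B, n = (maximalIdeal V).comap ι := ⟨_, rfl⟩
  have hnp : n.IsPrime := by rw [hn]; exact Ideal.comap_isPrime ι _
  have hmn : ∀ a ∈ maximalIdeal A, algebraMap A B a ∈ n := by
    intro a ha
    rw [hn, Ideal.mem_comap, mem_maximalIdeal, mem_nonunits_iff]
    intro hu
    exact (mem_maximalIdeal _).1 ha (hVloc.map_nonunit a hu)
  have hSn : n.primeCompl ≤ nonZeroDivisors B := Ideal.primeCompl_le_nonZeroDivisors _
  obtain ⟨Bn, hBn⟩ : ∃ Bn : Subalgebra B L, Bn = Localization.subalgebra L n.primeCompl hSn :=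
    ⟨_, rfl⟩
  have hBnat : IsLocalization.AtPrime Bn n := by
    rw [hBn]
    exact Localization.subalgebra.isLocalization_subalgebra L n.primeCompl hSn
  have hBnFr : IsFractionRing Bn L := by
    rw [hBn]
    exact Localization.subalgebra.isFractionRing L n.primeCompl hSn
  have hBnloc : IsLocalRing Bn := IsLocalization.AtPrime.isLocalRing Bn n
  have hBnN : IsNoetherianRing Bn := IsLocalization.isNoetherianRing n.primeCompl Bn hNB
  have hmBn : ∀ a ∈ maximalIdeal A, algebraMap B Bn (algebraMap A B a) ∈ maximalIdeal Bn := by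
    intro a ha
    rw [IsLocalization.AtPrime.to_map_mem_maximal_iff Bn n]
    exact hmn a ha
  have hBnnf : ¬ IsField Bn := by
    intro hf
    have hm0 : maximalIdeal A ≠ ⊥ := fun h => hA (isField_iff_maximalIdeal_eq.2 h)
    obtain ⟨a, ham, ha0⟩ := Submodule.exists_mem_ne_zero_of_ne_bot hm0
    have h1 := hmBn a ham
    rw [isField_iff_maximalIdeal_eq.1 hf, Ideal.mem_bot] at h1
    have h2 : algebraMap A L a = 0 := congrArg (fun b : Bn => (b : L)) h1
    exact ha0 ((map_eq_zero_iff _ hinjAL).1 h2)
  obtain ⟨O, hO, hOmem, hOlt⟩ := exists_dvr_dominating Bn hBnnf L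
  refine ⟨O, hO, fun a => hOmem (algebraMap B Bn (algebraMap A B a)), fun a ha => ?_⟩
  exact hOlt _ (hmBn a ha)

theorem exists_dvr_of_prime (A : Type u) [CommRing A] [IsDomain A] [IsNoetherianRing A]
    (P : Ideal A) [P.IsPrime] (hP : P ≠ ⊥) (K : Type u) [Field K] [Algebra A K] [IsFractionRing A K]
    (L : Type u) [Field L] [Algebra K L] [Algebra A L] [IsScalarTower A K L]
    (hfg : (⊤ : IntermediateField K L).FG) :
    ∃ R : ValuationSubring L, IsDiscreteValuationRing R ∧ (∀ a : A, algebraMap A L a ∈ R) ∧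
      ∀ a ∈ P, R.valuation (algebraMap A L a) < 1 := by
  have hS : P.primeCompl ≤ nonZeroDivisors A := Ideal.primeCompl_le_nonZeroDivisors _
  obtain ⟨AP, hAP⟩ : ∃ AP : Subalgebra A K, AP = Localization.subalgebra K P.primeCompl hS :=
    ⟨_, rfl⟩
  have hat : IsLocalization.AtPrime AP P := by
    rw [hAP]
    exact Localization.subalgebra.isLocalization_subalgebra K P.primeCompl hS
  have hFr : IsFractionRing AP K := by
    rw [hAP]
    exact Localization.subalgebra.isFractionRing K P.primeCompl hS
  have hloc : IsLocalRing AP := IsLocalization.AtPrime.isLocalRing AP P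
  have hN : IsNoetherianRing AP := IsLocalization.isNoetherianRing P.primeCompl AP inferInstance
  have hinjAK : Function.Injective (algebraMap A K) := IsFractionRing.injective A K
  have hmem : ∀ a ∈ P, algebraMap A AP a ∈ maximalIdeal AP := by
    intro a ha
    rw [IsLocalization.AtPrime.to_map_mem_maximal_iff AP P]
    exact ha
  have hnf : ¬ IsField AP := by
    intro hf
    obtain ⟨a, haP, ha0⟩ := Submodule.exists_mem_ne_zero_of_ne_bot hP
    have h1 := hmem a haP
    rw [isField_iff_maximalIdeal_eq.1 hf, Ideal.mem_bot] at h1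
    have h2 : algebraMap A K a = 0 := congrArg (fun b : AP => (b : K)) h1
    exact ha0 ((map_eq_zero_iff _ hinjAK).1 h2)
  obtain ⟨O, hO, hOmem, hOlt⟩ := exists_dvr_dominating_fg AP hnf K L hfg
  have hcomp : ∀ a : A, algebraMap AP L (algebraMap A AP a) = algebraMap A L a := by
    intro a
    rw [IsScalarTower.algebraMap_apply AP K L, IsScalarTower.algebraMap_apply A K L]
    rfl
  refine ⟨O, hO, fun a => hcomp a ▸ hOmem _, fun a ha => ?_⟩
  rw [← hcomp a]
  exact hOlt _ (hmem a ha)

end Groth.Agent.Lib.Helper14.DvrDominate
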