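import Mathlib
import Groth.Prelude.Def_CohB1
import Groth.Agent.Lib.Lead.FinTypeTop

set_option autoImplicit false
universe u
open CategoryTheory CategoryTheory.Limits AlgebraicGeometry Opposite TopologicalSpace

namespace Groth.Agent.Lib.Helper14.FTPushL1

open Groth.Agent.Lib.Lead.FinTypeTop

variable {X : Scheme.{u}}

theorem span_transfer (M : X.Modules) (U : X.Opens) (W : U.toScheme.Opens) {I : Type*}
    (v : I → M.val.obj (op (U.ι ''ᵁ W))) (z : M.val.obj (op (U.ι ''ᵁ W)))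
    (hz : z ∈ Submodule.span (X.ringCatSheaf.obj.obj (op (U.ι ''ᵁ W))) (Set.range v)) :
    (show ((M.restrict U.ι).val.obj (op W)) from z) ∈
      Submodule.span (U.toScheme.ringCatSheaf.obj.obj (op W))
        (Set.range (fun i => (show ((M.restrict U.ι).val.obj (op W)) from v i))) := by
  induction hz using Submodule.span_induction with
  | mem z hz =>
    obtain ⟨i, rfl⟩ := hz
    exact Submodule.subset_span ⟨i, rfl⟩
  | zero => exact Submodule.zero_mem _
  | add a b _ _ ha hb => exact Submodule.add_mem _ ha hb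
  | smul r a _ ha =>
    have h1 : (show ((M.restrict U.ι).val.obj (op W)) from (r • a)) =
        ((U.ι.appIso W).hom r : Γ(U.toScheme, W)) •
          (show ((M.restrict U.ι).val.obj (op W)) from a) := by
      change r • a = ((U.ι.appIso W).inv ((U.ι.appIso W).hom r)) • a
      have h0 : (U.ι.appIso W).inv ((U.ι.appIso W).hom r) = r := Iso.hom_inv_id_apply _ _
      rw [h0]
      rfl
    rw [h1]
    exact Submodule.smul_mem _ _ ha

theorem isFT_restrict (M : X.Modules) (h : CohB1.IsFT M) (U : X.Opens) :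
    CohB1.IsFT ((Scheme.Modules.restrictFunctor U.ι).obj M) := by
  apply isFiniteType_of_locSpan
  intro x
  obtain ⟨V, hxV, n, s, hs⟩ := exists_locSpan_of_isFiniteType M h x.1
  have hle : U.ι ''ᵁ (U.ι ⁻¹ᵁ V) ≤ V := by
    rintro _ ⟨y, hy, rfl⟩
    exact hy
  refine ⟨U.ι ⁻¹ᵁ V, hxV, n, fun i => rs M hle (s i), ?_⟩
  intro W' hW' m y hy
  have hWV : U.ι ''ᵁ W' ≤ V := (U.ι.image_mono hW').trans hle
  obtain ⟨W₁, hW₁, hyW₁, hmem⟩ := hs (U.ι ''ᵁ W') hWV m y.1 ⟨y, hy, rfl⟩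
  have hle₁ : U.ι ''ᵁ (U.ι ⁻¹ᵁ W₁) ≤ W₁ := by
    rintro _ ⟨y, hy, rfl⟩
    exact hy
  have hW'' : U.ι ⁻¹ᵁ W₁ ≤ W' := by
    intro z hz
    obtain ⟨z', hz', hzz⟩ := hW₁ hz
    have : z' = z := U.ι.isOpenEmbedding.injective hzz
    exact this ▸ hz'
  refine ⟨U.ι ⁻¹ᵁ W₁, hW'', hyW₁, ?_⟩
  have h2 := rs_mem_span M hle₁ _ _ hmem
  have h3 := span_transfer M U (U.ι ⁻¹ᵁ W₁) _ _ h2
  convert h3 using 2
  · apply congrArg Set.range
    funext i
    change rs M (U.ι.image_mono (hW''.trans hW')) (rs M hle (s i.down)) =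
      rs M hle₁ (rs M (hW₁.trans hWV) (s i.down))
    rw [rs_rs, rs_rs]
  · change rs M (U.ι.image_mono hW'') m = rs M hle₁ (rs M hW₁ m)
    rw [rs_rs]

end Groth.Agent.Lib.Helper14.FTPushL1
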