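import Mathlib

set_option autoImplicit false
universe u
namespace Groth.Agent.Lib.Helper14.FinTrdeg
open Cardinal



theorem card_le_of_algIndep_closure {K : Type u} [Field K] (S : Finset K) {ι : Type} [Fintype ι]
    (y : ι → K) (hy : AlgebraicIndependent (⊥ : Subfield K) y)
    (hyS : ∀ j, y j ∈ Subfield.closure (S : Set K)) : Fintype.card ι ≤ S.card := by
  classical
  let E' : IntermediateField (⊥ : Subfield K) K :=
    IntermediateField.adjoin (⊥ : Subfield K) (S : Set K)
  have hmem : ∀ j, y j ∈ E' := by
    intro j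
    have hle : Subfield.closure (S : Set K) ≤ E'.toSubfield := by
      rw [Subfield.closure_le]
      intro x hx
      exact IntermediateField.subset_adjoin (⊥ : Subfield K) _ hx
    exact hle (hyS j)
  let y' : ι → E' := fun j => ⟨y j, hmem j⟩
  have hy' : AlgebraicIndependent (⊥ : Subfield K) y' :=
    AlgebraicIndependent.of_comp E'.val (by exact hy)
  let S' : Set E' := Subtype.val ⁻¹' (S : Set K)
  have htop : IntermediateField.adjoin (⊥ : Subfield K) S' = ⊤ := by
    apply IntermediateField.lift_injective E'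
    rw [IntermediateField.lift_adjoin, IntermediateField.lift_top]
    have : (Subtype.val '' S' : Set K) = (S : Set K) := by
      rw [Set.image_preimage_eq_of_subset]
      rw [Subtype.range_coe]
      exact IntermediateField.subset_adjoin (⊥ : Subfield K) _
    rw [this]
  have : Algebra.IsAlgebraic (Algebra.adjoin (⊥ : Subfield K) S') E' := by
    refine ⟨fun e => ?_⟩
    have he : e ∈ IntermediateField.adjoin (⊥ : Subfield K) S' := by
      rw [htop]; trivial
    obtain ⟨r, hr, s, hs, rfl⟩ := IntermediateField.mem_adjoin_iff_div.mp he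
    have h1 : IsAlgebraic (Algebra.adjoin (⊥ : Subfield K) S') r :=
      isAlgebraic_algebraMap (⟨r, hr⟩ : Algebra.adjoin (⊥ : Subfield K) S')
    have h2 : IsAlgebraic (Algebra.adjoin (⊥ : Subfield K) S') s :=
      isAlgebraic_algebraMap (⟨s, hs⟩ : Algebra.adjoin (⊥ : Subfield K) S')
    rw [div_eq_mul_inv]
    exact h1.mul h2.inv
  have h1 := hy'.lift_cardinalMk_le_trdeg
  have h2 := Algebra.IsAlgebraic.trdeg_le_cardinalMk (⊥ : Subfield K) S'
  have h3 : #S' ≤ #(S : Set K) := Cardinal.mk_preimage_of_injective _ _ Subtype.val_injective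
  have h4 : #(S : Set K) = S.card := by
    rw [Cardinal.mk_fintype]
    simp
  rw [h4] at h3
  rw [Cardinal.lift_uzero, Cardinal.mk_fintype, Cardinal.lift_natCast] at h1
  exact_mod_cast h1.trans (h2.trans h3)



theorem finite_of_chain_bound {α : Type*} [PartialOrder α] (htot : ∀ a b : α, a ≤ b ∨ b ≤ a)
    (N : ℕ) (h : ∀ p : LTSeries α, p.length ≤ N) : Finite α := by
  classical
  have hh : ∀ a : α, Order.height a ≤ (N : ℕ∞) := by
    intro a
    apply Order.height_le
    intro p _
    exact_mod_cast h p
  have hfin : ∀ a : α, Order.height a < ⊤ := fun a =>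
    lt_of_le_of_lt (hh a) (ENat.natCast_lt_top N)
  have hinj : Function.Injective (fun a : α => (Order.height a : ℕ∞)) := by
    intro a b hab
    by_contra hne
    rcases htot a b with h1 | h1
    · have hlt : a < b := lt_of_le_of_ne h1 hne
      exact absurd hab (ne_of_lt (Order.height_strictMono hlt (hfin a)))
    · have hlt : b < a := lt_of_le_of_ne h1 (Ne.symm hne)
      exact absurd hab.symm (ne_of_lt (Order.height_strictMono hlt (hfin b)))
  let f : α → Fin (N + 1) := fun a => ⟨(Order.height a).toNat, by
    have := hh a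
    have h2 : (Order.height a).toNat ≤ N := by
      rw [← ENat.natCast_toNat (ne_of_lt (hfin a))] at this
      exact_mod_cast this
    omega⟩
  apply Finite.of_injective f
  intro a b hab
  apply hinj
  have h3 : (Order.height a).toNat = (Order.height b).toNat := by
    simpa [f] using congrArg Fin.val hab
  change Order.height a = Order.height b
  rw [← ENat.natCast_toNat (ne_of_lt (hfin a)), ← ENat.natCast_toNat (ne_of_lt (hfin b)), h3]

section
variable {K Γ B : Type*} [Field K] [LinearOrderedCommGroupWithZero Γ]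
    (v : Valuation K Γ) [CommRing B] [IsDomain B] [IsLocalRing B] (φ : B →+* K)

theorem hQ_of_dvd
    (hdiv : ∀ X Y : B, Y ≠ 0 → v (φ X) ≤ v (φ Y) → ∃ u : B, X = u * Y) :
    ∀ X Y : B, X ≠ 0 → Y ≠ 0 → v (φ X) = v (φ Y) →
      ∃ c c' : B, c ∉ IsLocalRing.maximalIdeal B ∧ c' ∉ IsLocalRing.maximalIdeal B ∧
        c * X = c' * Y := by
  intro X Y hX hY hv
  obtain ⟨u, hu⟩ := hdiv X Y hY hv.le
  obtain ⟨u', hu'⟩ := hdiv Y X hX hv.ge
  have h1 : u * u' = 1 := by
    have : (u * u' - 1) * X = 0 := by
      have : u * (u' * X) = X := by rw [← hu']; exact hu.symm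
      linear_combination this
    rcases mul_eq_zero.1 this with h | h
    · exact sub_eq_zero.1 h
    · exact absurd h hX
  refine ⟨1, u, ?_, ?_, ?_⟩
  · rw [IsLocalRing.mem_maximalIdeal, mem_nonunits_iff, not_not]
    exact isUnit_one
  · rw [IsLocalRing.mem_maximalIdeal, mem_nonunits_iff, not_not]
    exact IsUnit.of_mul_eq_one _ h1
  · rw [one_mul, hu]

end
end Groth.Agent.Lib.Helper14.FinTrdeg
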