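import Mathlib
import Groth.Prelude.Def_Red2
import Groth.Prelude.Def_Pi1
import Groth.Agent.Lib.Lead.GaTorsor
import Groth.Agent.Lib.Helper50.CurveReg

set_option autoImplicit false
universe u
open CategoryTheory CategoryTheory.Limits MonoidalCategory CartesianMonoidalCategory MonObj
  AlgebraicGeometry Polynomial
open Groth.Agent.Lib.Lead.GaTorsor (ov ovMap smul)

namespace Groth.Agent.Lib.Helper14.FixPtT4

theorem isFixedPt_of_affine (k : Type u) [Field k] {G X : Over (Spec (CommRingCat.of k))}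
    [GrpObj G] (a : AlgGrp.Action G X) (x : 𝟙_ (Over (Spec (CommRingCat.of k))) ⟶ X)
    (H : ∀ (B : Type u) [CommRing B] [Algebra k B] (g : ov (CommRingCat.of k) (𝟙 _) B ⟶ G),
      smul a g (toUnit _ ≫ x) = toUnit _ ≫ x) : a.IsFixedPt x := by
  intro T g
  apply Over.OverMorphism.ext
  refine T.left.affineOpenCover.openCover.hom_ext _ _ (fun i => ?_)
  let 𝒰 := T.left.affineOpenCover
  let ψ : CommRingCat.of k ⟶ 𝒰.X i := Spec.preimage (𝒰.f i ≫ T.hom)
  have hψ : Spec.map ψ = 𝒰.f i ≫ T.hom := Spec.map_preimage _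
  let _ : Algebra k (𝒰.X i) := ψ.hom.toAlgebra
  have hw : 𝒰.f i ≫ T.hom = (ov (CommRingCat.of k) (𝟙 _) (𝒰.X i)).hom := by
    rw [← hψ]
    exact (Category.comp_id _).symm
  let j : ov (CommRingCat.of k) (𝟙 _) (𝒰.X i) ⟶ T := Over.homMk (𝒰.f i) hw
  have h1 : j ≫ (lift g (toUnit T ≫ x) ≫ a.act) = j ≫ (toUnit T ≫ x) := by
    have h2 : j ≫ (lift g (toUnit T ≫ x) ≫ a.act) = smul a (j ≫ g) (j ≫ toUnit T ≫ x) :=
      Groth.Agent.Lib.Lead.GaTorsor.comp_smul a j g (toUnit T ≫ x)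
    rw [h2]
    have h3 : j ≫ toUnit T = toUnit _ := toUnit_unique _ _
    rw [← Category.assoc, h3]
    exact H (𝒰.X i) (j ≫ g)
  exact congrArg CommaMorphism.left h1

end Groth.Agent.Lib.Helper14.FixPtT4
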