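import Mathlib

set_option autoImplicit false
universe u
open IsLocalRing

namespace Groth.Agent.Lib.Helper14.FundIneq

section
variable (A B K L : Type u) [CommRing A] [IsDomain A]
    [ValuationRing A] [CommRing B] [IsDomain B] [ValuationRing B] [Field K] [Field L]
    [Algebra A K] [IsFractionRing A K] [Algebra B L] [IsFractionRing B L] [Algebra A B] [Algebra K L]
    [Algebra A L] [IsScalarTower A K L] [IsScalarTower A B L]
    [IsLocalHom (algebraMap A B)]

local notation "v" => ValuationRing.valuation B L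

theorem le_one_iff (x : L) : v x ≤ 1 ↔ ∃ b : B, algebraMap B L b = x := by
  rw [← Valuation.mem_integer_iff, ValuationRing.mem_integer_iff]

theorem eq_one_of_isUnit (b : B) (hb : IsUnit b) : v (algebraMap B L b) = 1 := by
  obtain ⟨c, hc⟩ := hb.exists_right_inv
  have h1 : v (algebraMap B L b) ≤ 1 := (le_one_iff B L _).2 ⟨b, rfl⟩
  have h2 : v (algebraMap B L c) ≤ 1 := (le_one_iff B L _).2 ⟨c, rfl⟩
  have h3 : v (algebraMap B L b) * v (algebraMap B L c) = 1 := by
    rw [← map_mul, ← map_mul, hc, map_one, map_one]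
  refine le_antisymm h1 ?_
  by_contra hlt
  rw [not_le] at hlt
  have : v (algebraMap B L b) * v (algebraMap B L c) < 1 := by
    calc v (algebraMap B L b) * v (algebraMap B L c) ≤ v (algebraMap B L b) * 1 := by gcongr
    _ = v (algebraMap B L b) := mul_one _
    _ < 1 := hlt
  rw [h3] at this
  exact lt_irrefl _ this

theorem exists_unit_of_eq_one (x : L) (hx : v x = 1) : ∃ u : Bˣ, algebraMap B L u = x := by
  have hx0 : x ≠ 0 := by
    rintro rfl
    rw [map_zero] at hx
    exact zero_ne_one hx
  obtain ⟨b, hb⟩ := (le_one_iff B L x).1 hx.le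
  have hinv : v x⁻¹ ≤ 1 := by rw [map_inv₀, hx, inv_one]
  obtain ⟨c, hc⟩ := (le_one_iff B L x⁻¹).1 hinv
  have hbc : b * c = 1 := by
    apply IsFractionRing.injective B L
    rw [map_mul, hb, hc, map_one, mul_inv_cancel₀ hx0]
  exact ⟨⟨b, c, hbc, by rw [mul_comm]; exact hbc⟩, hb⟩

include A in
theorem exists_of_le_one (x : K) (hx : v (algebraMap K L x) ≤ 1) :
    ∃ a : A, algebraMap A K a = x := by
  rcases ValuationRing.isInteger_or_isInteger A x with h | h
  · exact h
  · obtain ⟨a, ha⟩ := h
    by_cases hx0 : x = 0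
    · exact ⟨0, by rw [hx0, map_zero]⟩
    obtain ⟨b, hb⟩ := (le_one_iff B L _).1 hx
    have h1 : algebraMap A B a * b = 1 := by
      apply IsFractionRing.injective B L
      rw [map_mul, hb, ← IsScalarTower.algebraMap_apply, IsScalarTower.algebraMap_apply A K L, ha,
        ← map_mul, inv_mul_cancel₀ hx0, map_one, map_one]
    have h2 : IsUnit (algebraMap A B a) := IsUnit.of_mul_eq_one _ h1
    have h3 : IsUnit a := isUnit_of_map_unit (algebraMap A B) a h2
    obtain ⟨c, hc⟩ := h3.exists_right_inv
    refine ⟨c, ?_⟩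
    have : algebraMap A K a * algebraMap A K c = 1 := by rw [← map_mul, hc, map_one]
    rw [ha] at this
    have hx1 : x⁻¹ ≠ 0 := inv_ne_zero hx0
    field_simp at this
    exact this


include A K in
theorem sum_val
    {ι : Type*} [Fintype ι] (ω : ι → B)
    (hω : LinearIndependent (ResidueField A) (fun i => residue B (ω i)))
    (a : ι → K) (ha : ∃ i, a i ≠ 0) :
    ∃ x : K, x ≠ 0 ∧ v (∑ i, algebraMap K L (a i) * algebraMap B L (ω i)) =
      v (algebraMap K L x) := by
  classical
  obtain ⟨i₁, hi₁⟩ := ha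
  obtain ⟨i₀, -, hmax⟩ := Finset.exists_max_image Finset.univ
    (fun i => v (algebraMap K L (a i))) ⟨i₁, Finset.mem_univ _⟩
  have h0 : a i₀ ≠ 0 := by
    intro h
    have h1 := hmax i₁ (Finset.mem_univ _)
    rw [h, map_zero, map_zero] at h1
    have h2 : v (algebraMap K L (a i₁)) = 0 := le_antisymm h1 zero_le
    rw [map_eq_zero, map_eq_zero] at h2
    exact hi₁ h2
  have h0L : algebraMap K L (a i₀) ≠ 0 := by rwa [Ne, map_eq_zero]
  refine ⟨a i₀, h0, ?_⟩
  have hc : ∀ i, ∃ c : A, algebraMap A K c = a i / a i₀ := by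
    intro i
    apply exists_of_le_one A B K L
    rw [map_div₀, map_div₀]
    exact div_le_one_of_le₀ (hmax i (Finset.mem_univ _)) zero_le
  choose c hc using hc
  have hsum : ∑ i, algebraMap K L (a i) * algebraMap B L (ω i) =
      algebraMap K L (a i₀) * algebraMap B L (∑ i, algebraMap A B (c i) * ω i) := by
    rw [map_sum, Finset.mul_sum]
    refine Finset.sum_congr rfl fun i _ => ?_
    rw [map_mul, ← IsScalarTower.algebraMap_apply A B L, IsScalarTower.algebraMap_apply A K L,
      hc i, map_div₀]
    field_simp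
  have hunit : IsUnit (∑ i, algebraMap A B (c i) * ω i) := by
    rw [← residue_ne_zero_iff_isUnit]
    intro hres
    rw [map_sum] at hres
    have hres' : ∑ i, residue A (c i) • residue B (ω i) = 0 := by
      rw [← hres]
      refine Finset.sum_congr rfl fun i _ => ?_
      rw [map_mul, Algebra.smul_def]
      rfl
    have := Fintype.linearIndependent_iff.1 hω _ hres' i₀
    rw [residue_eq_zero_iff] at this
    have h1 : c i₀ = 1 := by
      apply IsFractionRing.injective A K
      rw [hc i₀, div_self h0, map_one]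
    rw [h1] at this
    exact (maximalIdeal.isMaximal A).ne_top ((Ideal.eq_top_iff_one _).2 this)
  rw [hsum, map_mul, eq_one_of_isUnit B L _ hunit, mul_one]


include A K in
theorem linearIndependent_mul
    {ι : Type*} {J : Type*} [Fintype ι] [Fintype J] (ω : ι → B)
    (hω : LinearIndependent (ResidueField A) (fun i => residue B (ω i)))
    (π : J → L) (hπ0 : ∀ j, π j ≠ 0)
    (hπ : ∀ j j', ∀ x : K, x ≠ 0 → v (π j) = v (algebraMap K L x) * v (π j') → j = j') :
    LinearIndependent K (fun p : ι × J => algebraMap B L (ω p.1) * π p.2) := by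
  classical
  rw [Fintype.linearIndependent_iff]
  intro g hg
  by_contra hne
  push Not at hne
  obtain ⟨⟨i₁, j₁⟩, hp⟩ := hne
  set x : J → L := fun j => (∑ i, algebraMap K L (g (i, j)) * algebraMap B L (ω i)) * π j with hx
  have hsum : ∑ j, x j = 0 := by
    rw [← hg, Fintype.sum_prod_type, Finset.sum_comm]
    refine Finset.sum_congr rfl fun j _ => ?_
    rw [hx]
    simp only
    rw [Finset.sum_mul]
    refine Finset.sum_congr rfl fun i _ => ?_
    rw [Algebra.smul_def, mul_assoc]
  have hval : ∀ j, (∃ i, g (i, j) ≠ 0) → ∃ y : K, y ≠ 0 ∧ v (x j) = v (algebraMap K L y) * v (π j) := by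
    intro j hj
    obtain ⟨y, hy0, hy⟩ := sum_val A B K L ω hω (fun i => g (i, j)) hj
    exact ⟨y, hy0, by rw [hx]; simp only; rw [map_mul, hy]⟩
  have hzero : ∀ j, (¬ ∃ i, g (i, j) ≠ 0) → x j = 0 := by
    intro j hj
    push Not at hj
    rw [hx]
    simp only
    rw [Finset.sum_eq_zero, zero_mul]
    intro i _
    rw [hj i, map_zero, zero_mul]
  have hvne : ∀ j, (∃ i, g (i, j) ≠ 0) → v (x j) ≠ 0 := by
    intro j hj
    obtain ⟨y, hy0, hy⟩ := hval j hj
    rw [hy]
    apply mul_ne_zero
    · rwa [Ne, map_eq_zero, map_eq_zero]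
    · rw [Ne, map_eq_zero]; exact hπ0 j
  obtain ⟨j₀, -, hmax⟩ := Finset.exists_max_image Finset.univ
    (fun j => v (x j)) ⟨j₁, Finset.mem_univ _⟩
  have hj₀ : ∃ i, g (i, j₀) ≠ 0 := by
    by_contra h
    have h1 := hmax j₁ (Finset.mem_univ _)
    rw [hzero j₀ h, map_zero] at h1
    exact hvne j₁ ⟨i₁, hp⟩ (le_antisymm h1 zero_le)
  have hlt : ∀ j ∈ Finset.univ \ {j₀}, v (x j) < v (x j₀) := by
    intro j hj
    rw [Finset.mem_sdiff, Finset.mem_singleton] at hj
    by_cases hjs : ∃ i, g (i, j) ≠ 0
    · refine lt_of_le_of_ne (hmax j (Finset.mem_univ _)) ?_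
      intro heq
      obtain ⟨y, hy0, hy⟩ := hval j hjs
      obtain ⟨y', hy0', hy'⟩ := hval j₀ hj₀
      apply hj.2
      apply hπ j j₀ (y' / y) (div_ne_zero hy0' hy0)
      rw [hy, hy'] at heq
      have hvy : v (algebraMap K L y) ≠ 0 := by rwa [Ne, map_eq_zero, map_eq_zero]
      rw [map_div₀, map_div₀, div_mul_eq_mul_div, ← heq, mul_div_assoc, mul_comm,
        div_mul_cancel₀ _ hvy]
    · rw [hzero j hjs, map_zero]
      exact lt_of_le_of_ne zero_le (hvne j₀ hj₀).symm
  have := (ValuationRing.valuation B L).map_sum_eq_of_lt (Finset.mem_univ j₀) hlt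
  rw [hsum, map_zero] at this
  exact hvne j₀ hj₀ this.symm


include A K in
theorem card_mul_card_le [FiniteDimensional K L]
    {ι : Type*} {J : Type*} [Fintype ι] [Fintype J] (ω : ι → B)
    (hω : LinearIndependent (ResidueField A) (fun i => residue B (ω i)))
    (q : J → (Lˣ ⧸ (Units.map (algebraMap B L).toMonoidHom).range) ⧸
      ((QuotientGroup.mk' (Units.map (algebraMap B L).toMonoidHom).range).comp
        (Units.map (algebraMap K L).toMonoidHom)).range)
    (hq : Function.Injective q) :
    Fintype.card ι * Fintype.card J ≤ Module.finrank K L := by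
  let πu : J → Lˣ := fun j => (q j).out.out
  have hπu : ∀ j, q j = QuotientGroup.mk (QuotientGroup.mk (πu j)) := by
    intro j
    simp only [πu]
    rw [QuotientGroup.out_eq', QuotientGroup.out_eq']
  have hli := linearIndependent_mul A B K L ω hω (fun j => ((πu j : Lˣ) : L))
    (fun j => (πu j).ne_zero) ?_
  · have := hli.fintype_card_le_finrank
    rwa [Fintype.card_prod] at this
  · intro j j' x hx hv
    apply hq
    rw [hπu j, hπu j', QuotientGroup.eq]
    refine ⟨Units.mk0 x⁻¹ (inv_ne_zero hx), ?_⟩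
    rw [MonoidHom.comp_apply, QuotientGroup.mk'_apply, ← QuotientGroup.mk_inv,
      ← QuotientGroup.mk_mul, QuotientGroup.eq]
    have hπj : (ValuationRing.valuation B L) ((πu j : Lˣ) : L) ≠ 0 := by
      rw [Ne, map_eq_zero]; exact (πu j).ne_zero
    have hxv : (ValuationRing.valuation B L) (algebraMap K L x) ≠ 0 := by
      rwa [Ne, map_eq_zero, map_eq_zero]
    obtain ⟨u, hu⟩ := exists_unit_of_eq_one B L
      ((algebraMap K L x⁻¹)⁻¹ * (((πu j : Lˣ) : L)⁻¹ * ((πu j' : Lˣ) : L))) (by
        rw [map_inv₀ (algebraMap K L), inv_inv, map_mul, map_mul, map_inv₀, hv]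
        have hπj' : (ValuationRing.valuation B L) ((πu j' : Lˣ) : L) ≠ 0 := by
          rw [Ne, map_eq_zero]; exact (πu j').ne_zero
        field_simp)
    refine ⟨u, ?_⟩
    apply Units.ext
    simp only [Units.coe_map, Units.val_mul, Units.val_inv_eq_inv_val, Units.val_mk0]
    exact hu


include A K in
theorem main [FiniteDimensional K L] :
    let UB : Subgroup Lˣ := (Units.map (algebraMap B L).toMonoidHom).range
    let ΓA : Subgroup (Lˣ ⧸ UB) := ((QuotientGroup.mk' UB).comp (Units.map (algebraMap K L).toMonoidHom)).range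
    Module.Finite (IsLocalRing.ResidueField A) (IsLocalRing.ResidueField B) ∧ ΓA.index ≠ 0 ∧
      ΓA.index * Module.finrank (IsLocalRing.ResidueField A) (IsLocalRing.ResidueField B) ≤
        Module.finrank K L := by
  intro UB ΓA
  classical
  have hfin : Module.Finite (ResidueField A) (ResidueField B) := by
    rw [← Module.rank_lt_aleph0_iff]
    refine lt_of_le_of_lt (rank_le (n := Module.finrank K L) ?_) Cardinal.natCast_lt_aleph0
    intro s hs
    have := card_mul_card_le A B K L (ι := s) (J := Unit)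
      (fun i => (residue_surjective (i : ResidueField B)).choose)
      (by
        convert hs using 2 with i
        exact (residue_surjective (i : ResidueField B)).choose_spec)
      (fun _ => QuotientGroup.mk (QuotientGroup.mk 1)) (fun _ _ _ => rfl)
    simpa using this
  have hidx : ΓA.index ≠ 0 := by
    rw [Subgroup.index_ne_zero_iff_finite]
    by_contra hinf
    rw [not_finite_iff_infinite] at hinf
    obtain ⟨s, hs⟩ := Infinite.exists_subset_card_eq ((Lˣ ⧸ UB) ⧸ ΓA) (Module.finrank K L + 1)
    have := card_mul_card_le A B K L (ι := Unit) (J := s) (fun _ => 1)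
      (by
        rw [Fintype.linearIndependent_iff]
        intro g hg i
        simp only [Finset.univ_unique, PUnit.default_eq_unit, map_one, Finset.sum_singleton] at hg
        rw [smul_eq_zero] at hg
        rcases hg with hg | hg
        · cases i; exact hg
        · exact absurd hg one_ne_zero)
      (fun j => (j : (Lˣ ⧸ UB) ⧸ ΓA)) Subtype.val_injective
    simp only [Fintype.card_unique, one_mul, Fintype.card_coe] at this
    omega
  refine ⟨hfin, hidx, ?_⟩
  have : Finite ((Lˣ ⧸ UB) ⧸ ΓA) := Subgroup.index_ne_zero_iff_finite.1 hidx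
  have := Fintype.ofFinite ((Lˣ ⧸ UB) ⧸ ΓA)
  let b := Module.finBasis (ResidueField A) (ResidueField B)
  have := card_mul_card_le A B K L
    (ι := Fin (Module.finrank (ResidueField A) (ResidueField B))) (J := (Lˣ ⧸ UB) ⧸ ΓA)
    (fun i => (residue_surjective (b i)).choose)
    (by
      convert b.linearIndependent using 2 with i
      exact (residue_surjective (b i)).choose_spec)
    id Function.injective_id
  rw [Subgroup.index_eq_card, Nat.card_eq_fintype_card, mul_comm]
  simpa using this
end

end Groth.Agent.Lib.Helper14.FundIneq
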