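import Mathlib

set_option autoImplicit false
universe u
open scoped TensorProduct

namespace Helper14.GModComod

variable {R : Type u} [CommRing R] {A : Type u} [CommRing A] [Bialgebra R A]
  {E : Type u} [AddCommGroup E] [Module R E]
  {B : Type u} [CommRing B] [Algebra R B]

noncomputable def sw {C : Type u} [AddCommGroup C] [Module R C] (f : C →ₗ[R] B) :
    E ⊗[R] C →ₗ[R] B ⊗[R] E :=
  (TensorProduct.comm R E B).toLinearMap ∘ₗ f.lTensor E

@[simp] lemma sw_tmul {C : Type u} [AddCommGroup C] [Module R C] (f : C →ₗ[R] B) (e : E) (a : C) :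
    sw f (e ⊗ₜ[R] a) = f a ⊗ₜ[R] e := rfl

lemma sw_comp {C D : Type u} [AddCommGroup C] [Module R C] [AddCommGroup D] [Module R D]
    (f : C →ₗ[R] B) (k : D →ₗ[R] C) (t : E ⊗[R] D) :
    sw (f ∘ₗ k) t = sw f (k.lTensor E t) := by
  simp only [sw, LinearMap.lTensor_comp, LinearMap.comp_apply]

noncomputable def T (δ : E →ₗ[R] E ⊗[R] A) (f : A →ₗ[R] B) : B ⊗[R] E →ₗ[B] B ⊗[R] E :=
  LinearMap.liftBaseChange B (sw f ∘ₗ δ)

lemma T_tmul (δ : E →ₗ[R] E ⊗[R] A) (f : A →ₗ[R] B) (b : B) (x : E) :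
    T δ f (b ⊗ₜ[R] x) = b • sw f (δ x) := by
  simp [T]

lemma T_one_tmul (δ : E →ₗ[R] E ⊗[R] A) (f : A →ₗ[R] B) (x : E) :
    T δ f ((1 : B) ⊗ₜ[R] x) = sw f (δ x) := by
  rw [T_tmul, one_smul]

lemma ext_one_tmul {N : Type u} [AddCommGroup N] [Module B N]
    (φ ψ : B ⊗[R] E →ₗ[B] N) (h : ∀ x : E, φ ((1 : B) ⊗ₜ[R] x) = ψ ((1 : B) ⊗ₜ[R] x)) : φ = ψ := by
  ext t
  induction t using TensorProduct.induction_on with
  | zero => simp
  | tmul b x =>
    have hb : b ⊗ₜ[R] x = b • ((1 : B) ⊗ₜ[R] x) := by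
      rw [TensorProduct.smul_tmul', smul_eq_mul, mul_one]
    rw [hb, map_smul, map_smul, h]
  | add s t hs ht => rw [map_add, map_add, hs, ht]

noncomputable def Psi (f g : A →ₗ[R] B) : E ⊗[R] (A ⊗[R] A) →ₗ[R] B ⊗[R] E :=
  sw (LinearMap.mul' R B ∘ₗ TensorProduct.map f g)

lemma Psi_assoc_tmul (f g : A →ₗ[R] B) (t : E ⊗[R] A) (a : A) :
    Psi f g (TensorProduct.assoc R E A A (t ⊗ₜ[R] a)) = g a • sw f t := by
  induction t using TensorProduct.induction_on with
  | zero => simp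
  | tmul e b =>
    simp only [Psi, TensorProduct.assoc_tmul, sw_tmul, LinearMap.comp_apply, TensorProduct.map_tmul,
      LinearMap.mul'_apply, TensorProduct.smul_tmul', smul_eq_mul]
    rw [mul_comm]
  | add s t hs ht =>
    rw [TensorProduct.add_tmul, map_add, map_add, hs, ht, map_add, smul_add]

lemma T_comp_apply (δ : E →ₗ[R] E ⊗[R] A) (f g : A →ₗ[R] B) (x : E) :
    T δ f (T δ g ((1 : B) ⊗ₜ[R] x)) =
      Psi f g (TensorProduct.assoc R E A A (δ.rTensor A (δ x))) := by
  rw [T_one_tmul]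
  generalize δ x = t
  induction t using TensorProduct.induction_on with
  | zero => simp
  | tmul e a =>
    rw [sw_tmul, T_tmul, LinearMap.rTensor_tmul, Psi_assoc_tmul]
  | add s t hs ht => simp only [map_add, hs, ht]

lemma T_convMul_apply (δ : E →ₗ[R] E ⊗[R] A) (f g : A →ₗ[R] B) (x : E) :
    T δ (LinearMap.mul' R B ∘ₗ TensorProduct.map f g ∘ₗ CoalgebraStruct.comul) ((1 : B) ⊗ₜ[R] x) =
      Psi f g ((CoalgebraStruct.comul (R := R) (A := A)).lTensor E (δ x)) := by
  rw [T_one_tmul, Psi, ← sw_comp]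
  rfl

lemma T_convOne_apply (δ : E →ₗ[R] E ⊗[R] A) (x : E) :
    T δ (Algebra.linearMap R B ∘ₗ CoalgebraStruct.counit) ((1 : B) ⊗ₜ[R] x) =
      sw (Algebra.linearMap R B) ((CoalgebraStruct.counit (R := R) (A := A)).lTensor E (δ x)) := by
  rw [T_one_tmul, ← sw_comp]

lemma sw_flip_one (x : E) :
    sw (Algebra.linearMap R B) ((TensorProduct.mk R E R).flip 1 x) = (1 : B) ⊗ₜ[R] x := by
  simp

section Coassoc

variable (δ : E →ₗ[R] E ⊗[R] A)
  (hco : (TensorProduct.assoc R E A A).toLinearMap ∘ₗ δ.rTensor A ∘ₗ δ =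
    (CoalgebraStruct.comul (R := R) (A := A)).lTensor E ∘ₗ δ)
  (hcu : (CoalgebraStruct.counit (R := R) (A := A)).lTensor E ∘ₗ δ = (TensorProduct.mk R E R).flip 1)

include hco in
lemma T_mul (f g : A →ₗ[R] B) :
    T δ (LinearMap.mul' R B ∘ₗ TensorProduct.map f g ∘ₗ CoalgebraStruct.comul) =
      T δ f ∘ₗ T δ g := by
  apply ext_one_tmul
  intro x
  rw [T_convMul_apply, LinearMap.comp_apply, T_comp_apply]
  have := congrArg (fun φ => φ x) hco
  simp only [LinearMap.comp_apply, LinearEquiv.coe_coe] at this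
  rw [this]

include hcu in
lemma T_one :
    T δ (Algebra.linearMap R B ∘ₗ CoalgebraStruct.counit (R := R) (A := A)) = LinearMap.id := by
  apply ext_one_tmul
  intro x
  rw [T_convOne_apply, LinearMap.id_apply]
  have := congrArg (fun φ => φ x) hcu
  simp only [LinearMap.comp_apply] at this
  rw [this, sw_flip_one]

end Coassoc

lemma T_natural {B' : Type u} [CommRing B'] [Algebra R B'] (δ : E →ₗ[R] E ⊗[R] A)
    (f : A →ₗ[R] B) (φ : B →ₐ[R] B') (t : B ⊗[R] E) :
    φ.toLinearMap.rTensor E (T δ f t) = T δ (φ.toLinearMap ∘ₗ f) (φ.toLinearMap.rTensor E t) := by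
  induction t using TensorProduct.induction_on with
  | zero => simp
  | tmul b x =>
    rw [T_tmul, LinearMap.rTensor_tmul, AlgHom.toLinearMap_apply, T_tmul]
    generalize δ x = s
    induction s using TensorProduct.induction_on with
    | zero => simp
    | tmul e a =>
      simp only [sw_tmul, TensorProduct.smul_tmul', LinearMap.rTensor_tmul, LinearMap.comp_apply,
        AlgHom.toLinearMap_apply, smul_eq_mul, map_mul]
    | add s t hs ht => simp only [map_add, smul_add, hs, ht]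
  | add s t hs ht => simp only [map_add, hs, ht]

lemma sw_comm_symm (f : A →ₗ[R] B) (y : A ⊗[R] E) :
    sw f ((TensorProduct.comm R E A).symm y) = f.rTensor E y := by
  induction y using TensorProduct.induction_on with
  | zero => simp
  | tmul a e => simp
  | add s t hs ht => simp only [map_add, hs, ht]

end Helper14.GModComod
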