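import Groth.Agent.Lib.Helper14.DimAlg
import Mathlib.RingTheory.GradedAlgebra.Basic
import Mathlib.FieldTheory.IsAlgClosed.Basic
import Mathlib.RingTheory.Localization.FractionRing
import Mathlib.NumberTheory.FrobeniusNumber
import Mathlib.Algebra.MonoidAlgebra.Basic
import Mathlib.Algebra.Polynomial.AlgebraMap
import Mathlib.Tactic

set_option autoImplicit false
universe u

namespace Groth.Agent.Lib.Helper14

open DirectSum

section DimOne

variable {k : Type u} [Field k] [IsAlgClosed k] {R : Type u} [CommRing R] [IsDomain R]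
  [Algebra k R] (𝒜 : ℤ → Submodule k R) [GradedAlgebra 𝒜] [Algebra.FiniteType k R]

theorem term_mem (c : k) {n : ℤ} {x y : R} (hx : x ∈ 𝒜 n) (hy : y ∈ 𝒜 n) (i j : ℕ) :
    algebraMap k R c * (x ^ i * y ^ j) ∈ 𝒜 (((i + j : ℕ) : ℤ) * n) := by
  rw [← Algebra.smul_def]
  apply Submodule.smul_mem
  have h1 := SetLike.pow_mem_graded i hx
  have h2 := SetLike.pow_mem_graded j hy
  have h3 := SetLike.mul_mem_graded h1 h2
  have : (i • n + j • n : ℤ) = ((i + j : ℕ) : ℤ) * n := by push_cast; simp [add_mul]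
  rw [← this]
  exact h3

theorem exists_smul_eq_of_mem (h1 : ringKrullDim R = 1) {n : ℤ} (hn : 0 < n) {x y : R}
    (hx : x ∈ 𝒜 n) (hy : y ∈ 𝒜 n) (hx0 : x ≠ 0) : ∃ c : k, y = c • x := by
  classical
  have hnot : ¬ AlgebraicIndependent k ![x, y] := by
    intro h
    have := natCast_le_ringKrullDim_of_algebraicIndependent k R ![x, y] h
    rw [h1] at this
    norm_cast at this
  rw [algebraicIndependent_iff] at hnot
  push Not at hnot
  obtain ⟨F, hF, hF0⟩ := hnot
  obtain ⟨m₀, hm₀⟩ := MvPolynomial.ne_zero_iff.mp hF0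
  set d : ℕ := m₀ 0 + m₀ 1 with hd
  let term : (Fin 2 →₀ ℕ) → R := fun m =>
    algebraMap k R (MvPolynomial.coeff m F) * (x ^ m 0 * y ^ m 1)
  have hsum : ∑ m ∈ F.support, term m = 0 := by
    rw [← hF, MvPolynomial.aeval_def, MvPolynomial.eval₂_eq']
    apply Finset.sum_congr rfl
    intro m _
    simp [term, Fin.prod_univ_two]
  have hterm : ∀ m, term m ∈ 𝒜 (((m 0 + m 1 : ℕ) : ℤ) * n) := fun m => term_mem 𝒜 _ hx hy _ _
  have hfil : ∑ m ∈ F.support.filter (fun m => m 0 + m 1 = d), term m = 0 := by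
    have h2 := congrArg (GradedRing.proj 𝒜 ((d : ℤ) * n)) hsum
    rw [map_sum, map_zero] at h2
    have h3 : ∀ m ∈ F.support, GradedRing.proj 𝒜 ((d : ℤ) * n) (term m) =
        if m 0 + m 1 = d then term m else 0 := by
      intro m _
      rw [GradedRing.proj_apply]
      split_ifs with hmd
      · rw [← hmd]
        exact decompose_of_mem_same 𝒜 (hterm m)
      · have hne : ((m 0 + m 1 : ℕ) : ℤ) * n ≠ (d : ℤ) * n := by
          intro h3
          apply hmd
          have := mul_right_cancel₀ hn.ne' h3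
          exact_mod_cast this
        rw [decompose_of_mem_ne 𝒜 (hterm m) hne]
    rw [Finset.sum_filter, ← Finset.sum_congr rfl h3]
    exact h2
  let K := FractionRing R
  have hinj : Function.Injective (algebraMap R K) := IsFractionRing.injective R K
  set X : K := algebraMap R K x with hX
  set Y : K := algebraMap R K y with hY
  have hX0 : X ≠ 0 := by
    rw [hX]
    exact (map_ne_zero_iff _ hinj).mpr hx0
  set z : K := Y / X with hz
  let g : Polynomial k := ∑ m ∈ F.support.filter (fun m => m 0 + m 1 = d),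
    Polynomial.monomial (m 1) (MvPolynomial.coeff m F)
  have hg : Polynomial.aeval z g = 0 := by
    have h3 := congrArg (algebraMap R K) hfil
    rw [map_sum, map_zero] at h3
    have h4 : ∀ m ∈ F.support.filter (fun m => m 0 + m 1 = d), algebraMap R K (term m) =
        X ^ d * (algebraMap k K (MvPolynomial.coeff m F) * z ^ m 1) := by
      intro m hm
      have hmd : m 0 + m 1 = d := (Finset.mem_filter.mp hm).2
      have hYz : Y = z * X := by rw [hz, div_mul_cancel₀ _ hX0]
      simp only [term, map_mul, map_pow, ← hX, ← hY]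
      rw [← IsScalarTower.algebraMap_apply k R K, ← hmd, hYz]
      ring
    rw [Finset.sum_congr rfl h4, ← Finset.mul_sum] at h3
    have h5 := (mul_eq_zero.mp h3).resolve_left (pow_ne_zero _ hX0)
    rw [map_sum]
    rw [← h5]
    apply Finset.sum_congr rfl
    intro m _
    rw [Polynomial.aeval_monomial]
  have hg0 : g ≠ 0 := by
    intro h
    have h6 : g.coeff (m₀ 1) = MvPolynomial.coeff m₀ F := by
      simp only [g, Polynomial.finsetSum_coeff, Polynomial.coeff_monomial]
      rw [Finset.sum_eq_single m₀]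
      · simp
      · intro m hm hne
        have hmd : m 0 + m 1 = d := (Finset.mem_filter.mp hm).2
        rw [if_neg]
        intro h7
        apply hne
        ext i
        fin_cases i
        · simp only [Fin.zero_eta]; omega
        · simpa using h7
      · intro h7
        exfalso
        apply h7
        rw [Finset.mem_filter]
        exact ⟨MvPolynomial.mem_support_iff.mpr hm₀, rfl⟩
    rw [h, Polynomial.coeff_zero] at h6
    exact hm₀ h6.symm
  have hzalg : IsAlgebraic k z := ⟨g, hg0, hg⟩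
  have hzint : IsIntegral k z := hzalg.isIntegral
  have hdeg : (minpoly k z).degree = 1 :=
    IsAlgClosed.degree_eq_one_of_irreducible k (minpoly.irreducible hzint)
  obtain ⟨c, hc⟩ := minpoly.mem_range_of_degree_eq_one k z hdeg
  refine ⟨c, ?_⟩
  apply hinj
  rw [Algebra.smul_def, map_mul, ← IsScalarTower.algebraMap_apply k R K, hc, ← hY, ← hX, hz,
    div_mul_cancel₀ _ hX0]

end DimOne

section SemigroupIso

variable {k : Type u} [Field k] {R : Type u} [CommRing R] [IsDomain R]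
  [Algebra k R] (𝒜 : ℤ → Submodule k R) [GradedAlgebra 𝒜]

theorem nonempty_ringEquiv_addMonoidAlgebra {M : Type*} [AddCommMonoid M] (δ : M → ℤ)
    (hδ : Function.Injective δ) (e : M → R) (he0 : e 0 = 1)
    (hemul : ∀ q q', e (q + q') = e q * e q') (hemem : ∀ q, e q ∈ 𝒜 (δ q))
    (hene : ∀ q, e q ≠ 0)
    (hspan : ∀ (n : ℤ) (x : R), x ∈ 𝒜 n → x ≠ 0 → ∃ (q : M) (c : k), δ q = n ∧ x = c • e q) :
    Nonempty (R ≃+* AddMonoidAlgebra k M) := by
  classical
  let F : Multiplicative M →* R :=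
    { toFun := fun q => e q.toAdd
      map_one' := he0
      map_mul' := fun q q' => hemul _ _ }
  let φ : AddMonoidAlgebra k M →ₐ[k] R := AddMonoidAlgebra.lift k R M F
  have hφsingle : ∀ q c, φ (AddMonoidAlgebra.single q c) = c • e q := fun q c =>
    AddMonoidAlgebra.lift_single F q c
  have hsurj : Function.Surjective φ := by
    intro x
    induction x using DirectSum.Decomposition.inductionOn 𝒜 with
    | zero => exact ⟨0, map_zero φ⟩
    | add x y hx hy =>
      obtain ⟨a, ha⟩ := hx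
      obtain ⟨b, hb⟩ := hy
      exact ⟨a + b, by rw [map_add, ha, hb]⟩
    | homogeneous x =>
      rename_i n
      by_cases hx0 : (x : R) = 0
      · exact ⟨0, by rw [map_zero, hx0]⟩
      · obtain ⟨q, c, -, hc⟩ := hspan n x x.2 hx0
        exact ⟨AddMonoidAlgebra.single q c, by rw [hφsingle, hc]⟩
  have hinj : Function.Injective φ := by
    rw [injective_iff_map_eq_zero]
    intro f hf
    ext q₀
    have h1 : φ f = f.coeff.sum fun a b => b • e a := AddMonoidAlgebra.lift_apply F f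
    rw [h1, Finsupp.sum] at hf
    have h2 := congrArg (GradedRing.proj 𝒜 (δ q₀)) hf
    rw [map_sum, map_zero] at h2
    have h3 : ∀ q ∈ f.coeff.support, GradedRing.proj 𝒜 (δ q₀) (f.coeff q • e q) =
        if q = q₀ then f.coeff q • e q else 0 := by
      intro q _
      have hmem : f.coeff q • e q ∈ 𝒜 (δ q) := Submodule.smul_mem _ _ (hemem q)
      rw [GradedRing.proj_apply]
      split_ifs with hq
      · subst hq
        exact decompose_of_mem_same 𝒜 hmem
      · exact decompose_of_mem_ne 𝒜 hmem (fun h => hq (hδ h))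
    rw [Finset.sum_congr rfl h3, Finset.sum_ite_eq'] at h2
    by_cases hq₀ : q₀ ∈ f.coeff.support
    · rw [if_pos hq₀] at h2
      rcases smul_eq_zero.mp h2 with h | h
      · simpa using h
      · exact absurd h (hene q₀)
    · simpa using Finsupp.notMem_support_iff.mp hq₀
  exact ⟨(RingEquiv.ofBijective φ.toRingHom ⟨hinj, hsurj⟩).symm⟩

end SemigroupIso

section Main

variable {k : Type u} [Field k] [IsAlgClosed k] {R : Type u} [CommRing R] [IsDomain R]
  [Algebra k R] (𝒜 : ℤ → Submodule k R) [GradedAlgebra 𝒜] [Algebra.FiniteType k R]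

theorem exists_smul_eq_of_mem' (hneg : ∀ n : ℤ, n < 0 → 𝒜 n = ⊥)
    (h0 : 𝒜 0 = Submodule.span k {(1 : R)}) (h1 : ringKrullDim R = 1) {n : ℤ} {x y : R}
    (hx : x ∈ 𝒜 n) (hy : y ∈ 𝒜 n) (hx0 : x ≠ 0) : ∃ c : k, y = c • x := by
  rcases lt_trichotomy n 0 with hn | hn | hn
  · rw [hneg n hn] at hx
    exact absurd ((Submodule.mem_bot k).mp hx) hx0
  · subst hn
    rw [h0] at hx hy
    obtain ⟨α, rfl⟩ := Submodule.mem_span_singleton.mp hx
    obtain ⟨β, rfl⟩ := Submodule.mem_span_singleton.mp hy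
    have hα : α ≠ 0 := by
      rintro rfl
      exact hx0 (zero_smul _ _)
    exact ⟨β / α, by rw [smul_smul, div_mul_cancel₀ _ hα]⟩
  · exact exists_smul_eq_of_mem 𝒜 h1 hn hx hy hx0

theorem exists_pos_ne_bot (h0 : 𝒜 0 = Submodule.span k {(1 : R)})
    (hneg : ∀ n : ℤ, n < 0 → 𝒜 n = ⊥) (h1 : ringKrullDim R = 1) :
    ∃ n : ℕ, n ≠ 0 ∧ 𝒜 (n : ℤ) ≠ ⊥ := by
  classical
  by_contra hcon
  push Not at hcon
  have hsurj : Function.Surjective (algebraMap k R) := by
    intro x
    have hx : x ∈ 𝒜 0 := by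
      rw [← DirectSum.sum_support_decompose 𝒜 x]
      apply Submodule.sum_mem
      intro i _
      rcases lt_trichotomy i 0 with hi | hi | hi
      · have h2 : ((decompose 𝒜 x i : 𝒜 i) : R) ∈ (⊥ : Submodule k R) :=
          (hneg i hi) ▸ Submodule.coe_mem _
        rw [(Submodule.mem_bot k).mp h2]
        exact Submodule.zero_mem _
      · subst hi
        exact Submodule.coe_mem _
      · have h3 := hcon i.toNat (by omega)
        have h4 : ((i.toNat : ℕ) : ℤ) = i := Int.toNat_of_nonneg hi.le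
        rw [h4] at h3
        have h2 : ((decompose 𝒜 x i : 𝒜 i) : R) ∈ (⊥ : Submodule k R) :=
          h3 ▸ Submodule.coe_mem _
        rw [(Submodule.mem_bot k).mp h2]
        exact Submodule.zero_mem _
    rw [h0] at hx
    obtain ⟨c, rfl⟩ := Submodule.mem_span_singleton.mp hx
    exact ⟨c, by rw [Algebra.algebraMap_eq_smul_one]⟩
  have := ringKrullDim_le_of_surjective (algebraMap k R) hsurj
  rw [h1, ringKrullDim_eq_zero_of_field] at this
  exact absurd this (by norm_num)

theorem nonempty_ringEquiv_polynomial (hneg : ∀ n : ℤ, n < 0 → 𝒜 n = ⊥)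
    (h0 : 𝒜 0 = Submodule.span k {(1 : R)}) (h1 : ringKrullDim R = 1) (h𝒜1 : 𝒜 1 ≠ ⊥) :
    Nonempty (R ≃+* Polynomial k) := by
  obtain ⟨t, ht, ht0⟩ := Submodule.exists_mem_ne_zero_of_ne_bot h𝒜1
  have htn : ∀ m : ℕ, t ^ m ∈ 𝒜 (m : ℤ) := by
    intro m
    have := SetLike.pow_mem_graded m ht
    simpa using this
  obtain ⟨e⟩ := nonempty_ringEquiv_addMonoidAlgebra 𝒜 (M := ℕ) (fun m => (m : ℤ))
    Nat.cast_injective (fun m => t ^ m) (pow_zero t) (fun q q' => pow_add t q q') htn
    (fun q => pow_ne_zero q ht0) (by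
      intro n x hx hx0
      have hn : 0 ≤ n := by
        by_contra hcon
        push Not at hcon
        rw [hneg n hcon] at hx
        exact hx0 ((Submodule.mem_bot k).mp hx)
      obtain ⟨m, rfl⟩ := Int.eq_ofNat_of_zero_le hn
      obtain ⟨c, hc⟩ := exists_smul_eq_of_mem' 𝒜 hneg h0 h1 (htn m) hx (pow_ne_zero m ht0)
      exact ⟨m, c, rfl, hc⟩)
  exact ⟨e.trans (Polynomial.toFinsuppIso k).symm⟩

theorem exists_addSubmonoid_ringEquiv (hneg : ∀ n : ℤ, n < 0 → 𝒜 n = ⊥)
    (h0 : 𝒜 0 = Submodule.span k {(1 : R)}) (h1 : ringKrullDim R = 1) :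
    ∃ H : AddSubmonoid ℕ, Nonempty (R ≃+* AddMonoidAlgebra k H) := by
  classical
  have hnz : ∀ {n : ℤ}, 𝒜 n ≠ ⊥ → ∃ x ∈ 𝒜 n, x ≠ 0 := fun h =>
    Submodule.exists_mem_ne_zero_of_ne_bot h
  have hne_bot : ∀ {n : ℤ} {x : R}, x ∈ 𝒜 n → x ≠ 0 → 𝒜 n ≠ ⊥ := by
    intro n x hx hx0 h
    rw [h] at hx
    exact hx0 ((Submodule.mem_bot k).mp hx)
  let Hset : Set ℕ := {n | 𝒜 (n : ℤ) ≠ ⊥}
  have hHadd : ∀ {a b : ℕ}, a ∈ Hset → b ∈ Hset → a + b ∈ Hset := by
    intro a b ha hb
    obtain ⟨x, hx, hx0⟩ := hnz ha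
    obtain ⟨y, hy, hy0⟩ := hnz hb
    have hxy : x * y ∈ 𝒜 ((a + b : ℕ) : ℤ) := by
      have := SetLike.mul_mem_graded hx hy
      simpa using this
    exact hne_bot hxy (mul_ne_zero hx0 hy0)
  have hH0 : (0 : ℕ) ∈ Hset := by
    have h1' : (1 : R) ∈ 𝒜 ((0 : ℕ) : ℤ) := by
      simpa using (SetLike.GradedOne.one_mem : (1 : R) ∈ 𝒜 0)
    exact hne_bot h1' one_ne_zero
  let Hm : AddSubmonoid ℕ :=
    { carrier := Hset
      add_mem' := fun ha hb => hHadd ha hb
      zero_mem' := hH0 }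
  set g : ℕ := Nat.setGcd Hset with hg
  have hg0 : g ≠ 0 := by
    obtain ⟨n, hn0, hn⟩ := exists_pos_ne_bot 𝒜 h0 hneg h1
    intro hg0
    have := (Nat.setGcd_eq_zero_iff.mp hg0) (show n ∈ Hset from hn)
    exact hn0 (by simpa using this)
  obtain ⟨N, hN⟩ := Nat.exists_mem_closure_of_ge Hset
  have hclos : AddSubmonoid.closure Hset = Hm := AddSubmonoid.closure_eq Hm
  have hgpos : 1 ≤ g := Nat.one_le_iff_ne_zero.mpr hg0
  have hbH : g * N ∈ Hset := by
    have := hN (g * N) (Nat.le_mul_of_pos_left N hgpos) (dvd_mul_right g N)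
    rw [hclos] at this
    exact this
  have haH : g * (N + 1) ∈ Hset := by
    have := hN (g * (N + 1)) (le_trans (Nat.le_succ N) (Nat.le_mul_of_pos_left (N + 1) hgpos))
      (dvd_mul_right g (N + 1))
    rw [hclos] at this
    exact this
  obtain ⟨ua, hua, hua0⟩ := hnz haH
  obtain ⟨ub, hub, hub0⟩ := hnz hbH
  let K := FractionRing R
  have hinj : Function.Injective (algebraMap R K) := IsFractionRing.injective R K
  set A : K := algebraMap R K ua with hA
  set B : K := algebraMap R K ub with hB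
  have hA0 : A ≠ 0 := (map_ne_zero_iff _ hinj).mpr hua0
  have hB0 : B ≠ 0 := (map_ne_zero_iff _ hinj).mpr hub0
  set τ : K := A / B with hτ
  have hτ0 : τ ≠ 0 := div_ne_zero hA0 hB0
  let H' : AddSubmonoid ℕ :=
    { carrier := {q | g * q ∈ Hset}
      add_mem' := by
        intro q q' hq hq'
        show g * (q + q') ∈ Hset
        rw [mul_add]
        exact hHadd hq hq'
      zero_mem' := by
        show g * 0 ∈ Hset
        rw [mul_zero]
        exact hH0 }
  have key : ∀ q : H', ∃ e : R, e ∈ 𝒜 ((g * (q : ℕ) : ℕ) : ℤ) ∧ algebraMap R K e = τ ^ (q : ℕ) := by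
    intro q
    obtain ⟨w, hw, hw0⟩ := hnz (show 𝒜 ((g * (q : ℕ) : ℕ) : ℤ) ≠ ⊥ from q.2)
    have hlhs : w * ub ^ (q : ℕ) ∈ 𝒜 (((q : ℕ) : ℤ) * ((g * (N + 1) : ℕ) : ℤ)) := by
      have h2 := SetLike.mul_mem_graded hw (SetLike.pow_mem_graded (q : ℕ) hub)
      have : (((g * (q : ℕ) : ℕ) : ℤ) + (q : ℕ) • ((g * N : ℕ) : ℤ)) =
          ((q : ℕ) : ℤ) * ((g * (N + 1) : ℕ) : ℤ) := by
        push_cast
        simp only [nsmul_eq_mul]
        ring
      rw [← this]
      exact h2
    have hrhs : ua ^ (q : ℕ) ∈ 𝒜 (((q : ℕ) : ℤ) * ((g * (N + 1) : ℕ) : ℤ)) := by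
      have := SetLike.pow_mem_graded (q : ℕ) hua
      simpa using this
    obtain ⟨c, hc⟩ := exists_smul_eq_of_mem' 𝒜 hneg h0 h1 hrhs hlhs (pow_ne_zero _ hua0)
    have hc0 : c ≠ 0 := by
      rintro rfl
      rw [zero_smul] at hc
      exact mul_ne_zero hw0 (pow_ne_zero _ hub0) hc
    refine ⟨c⁻¹ • w, Submodule.smul_mem _ _ hw, ?_⟩
    have h3 := congrArg (algebraMap R K) hc
    rw [map_mul, map_pow, Algebra.smul_def, map_mul, map_pow,
      ← IsScalarTower.algebraMap_apply k R K, ← hA, ← hB] at h3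
    have hC0 : algebraMap k K c ≠ 0 := (map_ne_zero_iff _ (algebraMap k K).injective).mpr hc0
    rw [Algebra.smul_def, map_mul, ← IsScalarTower.algebraMap_apply k R K, map_inv₀, hτ, div_pow]
    rw [eq_div_iff (pow_ne_zero _ hB0), mul_assoc, h3, ← mul_assoc, inv_mul_cancel₀ hC0, one_mul]
  choose e he1 he2 using key
  refine ⟨H', ?_⟩
  apply nonempty_ringEquiv_addMonoidAlgebra 𝒜 (M := H') (fun q => ((g * (q : ℕ) : ℕ) : ℤ))
    _ e _ _ he1 _ _
  · intro q q' h
    have h2 : g * (q : ℕ) = g * (q' : ℕ) := by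
      have h' : ((g * (q : ℕ) : ℕ) : ℤ) = ((g * (q' : ℕ) : ℕ) : ℤ) := h
      exact_mod_cast h'
    exact Subtype.ext (Nat.eq_of_mul_eq_mul_left (Nat.pos_of_ne_zero hg0) h2)
  · apply hinj
    rw [he2, map_one]
    simp
  · intro q q'
    apply hinj
    rw [map_mul, he2, he2, he2]
    simp [pow_add]
  · intro q h
    have := he2 q
    rw [h, map_zero] at this
    exact pow_ne_zero _ hτ0 this.symm
  · intro n x hx hx0
    have hn : 0 ≤ n := by
      by_contra hcon
      push Not at hcon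
      rw [hneg n hcon] at hx
      exact hx0 ((Submodule.mem_bot k).mp hx)
    obtain ⟨m, rfl⟩ := Int.eq_ofNat_of_zero_le hn
    have hmH : m ∈ Hset := hne_bot hx hx0
    obtain ⟨q, rfl⟩ := Nat.setGcd_dvd_of_mem hmH
    have hq : q ∈ H' := hmH
    have hne : e ⟨q, hq⟩ ≠ 0 := by
      intro h
      have := he2 ⟨q, hq⟩
      rw [h, map_zero] at this
      exact pow_ne_zero _ hτ0 this.symm
    obtain ⟨c, hc⟩ := exists_smul_eq_of_mem' 𝒜 hneg h0 h1 (he1 ⟨q, hq⟩) hx hne
    exact ⟨⟨q, hq⟩, c, rfl, hc⟩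

end Main

end Groth.Agent.Lib.Helper14
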