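import Mathlib.RingTheory.GradedAlgebra.Basic
import Mathlib.RingTheory.FiniteType
import Mathlib.RingTheory.Noetherian.Basic
import Mathlib.LinearAlgebra.Finsupp.LinearCombination
import Mathlib.Tactic

set_option autoImplicit false

namespace Groth.Agent.Lib.Helper14

open DirectSum

variable {k A : Type*} [Field k] [CommRing A] [Algebra k A] (𝒜 : ℤ → Submodule k A)
  [GradedAlgebra 𝒜]

theorem finiteType_of_isNoetherianRing_of_graded (hneg : ∀ n : ℤ, n < 0 → 𝒜 n = ⊥)
    (h0 : 𝒜 0 = Submodule.span k {(1 : A)}) [IsNoetherianRing A] : Algebra.FiniteType k A := by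
  classical
  let H : Set A := {x | ∃ n : ℤ, 0 < n ∧ x ∈ 𝒜 n}
  have hfg : (Submodule.span A H).FG := IsNoetherian.noetherian (Ideal.span H)
  obtain ⟨H', hH'H, hspan⟩ := (Submodule.fg_span_iff_fg_span_finset_subset H).mp hfg
  choose deg hdegpos hdegmem using fun (h : H') => hH'H h.2
  set B : Subalgebra k A := Algebra.adjoin k (H' : Set A) with hB
  have key : ∀ m : ℕ, ∀ n : ℤ, n < m → ∀ x ∈ 𝒜 n, x ∈ B := by
    intro m
    induction m with
    | zero =>
      intro n hn x hx
      rw [hneg n (by exact_mod_cast hn)] at hx
      rw [(Submodule.mem_bot k).mp hx]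
      exact B.zero_mem
    | succ m ih =>
      intro n hn x hx
      by_cases hnm : n < m
      · exact ih n hnm x hx
      · have hnm' : n = m := by push_cast at hn; omega
        rcases Nat.eq_zero_or_pos m with hm0 | hmpos
        · subst hm0
          have : n = 0 := by simpa using hnm'
          rw [this, h0] at hx
          obtain ⟨c, rfl⟩ := Submodule.mem_span_singleton.mp hx
          rw [Algebra.smul_def, mul_one]
          exact B.algebraMap_mem c
        · have hxH : x ∈ Submodule.span A H :=
            Submodule.subset_span ⟨n, by rw [hnm']; exact_mod_cast hmpos, hx⟩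
          rw [hspan] at hxH
          obtain ⟨c, hc⟩ := Submodule.mem_span_finset'.mp hxH
          have hx' : x = ∑ h : H', (decompose 𝒜 (c h) (n - deg h) : A) * (h : A) := by
            have h1 : (decompose 𝒜 x n : A) = x := decompose_of_mem_same 𝒜 hx
            rw [← h1, ← hc]
            rw [decompose_sum, DirectSum.sum_apply, AddSubmonoidClass.coe_finset_sum]
            apply Finset.sum_congr rfl
            intro h _
            have := coe_decompose_mul_add_of_right_mem 𝒜 (a := c h) (i := n - deg h) (hdegmem h)
            rw [sub_add_cancel] at this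
            rw [smul_eq_mul, this]
          rw [hx']
          apply Subalgebra.sum_mem
          intro h _
          apply Subalgebra.mul_mem
          · apply ih (n - deg h) _ _ (Submodule.coe_mem _)
            have := hdegpos h
            omega
          · exact Algebra.subset_adjoin h.2
  refine ⟨⟨H', ?_⟩⟩
  rw [← hB, eq_top_iff]
  intro x _
  rw [← sum_support_decompose 𝒜 x]
  apply Subalgebra.sum_mem
  intro i _
  rcases lt_or_ge i 0 with hi | hi
  · have h1 : ((decompose 𝒜 x i : 𝒜 i) : A) ∈ (⊥ : Submodule k A) := by
      have h2 := Submodule.coe_mem (decompose 𝒜 x i)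
      exact (hneg i hi) ▸ h2
    rw [(Submodule.mem_bot k).mp h1]
    exact B.zero_mem
  · exact key (i.toNat + 1) i (by push_cast; omega) _ (Submodule.coe_mem _)

end Groth.Agent.Lib.Helper14
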