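import Mathlib

set_option autoImplicit false
universe u
open TensorProduct

namespace Groth.Agent.Lib.Helper14.IterEq

section Lemma1
variable (A T : Type u) [CommRing A] [CommRing T] [Algebra A T] [Module.Finite A T]
  (p : Ideal A) [p.IsPrime]

local notation "Ap" => Localization.AtPrime p
local notation "Tp" => (Localization.AtPrime p) ⊗[A] T

theorem local_surj_of_local_eq
    (h : ∀ b : T, ∃ t : A, t ∉ p ∧ (t • b) ⊗ₜ[A] (1 : T) = (1 : T) ⊗ₜ[A] (t • b)) :
    ∀ b : T, ∃ t : A, t ∉ p ∧ ∃ a : A, t • b = algebraMap A T a := by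
  let ι : T →ₐ[A] Tp := Algebra.TensorProduct.includeRight
  let ι₁ : T →ₐ[A] Tp ⊗[Ap] Tp :=
    ((Algebra.TensorProduct.includeLeft (R := Ap) (S := Ap) (A := Tp) (B := Tp)).restrictScalars A).comp ι
  let ι₂ : T →ₐ[A] Tp ⊗[Ap] Tp :=
    ((Algebra.TensorProduct.includeRight (R := Ap) (A := Tp) (B := Tp)).restrictScalars A).comp ι
  let φ : T ⊗[A] T →ₐ[A] Tp ⊗[Ap] Tp :=
    Algebra.TensorProduct.lift ι₁ ι₂ (fun x y => Commute.all (ι₁ x) (ι₂ y))
  have hφ1 : ∀ x : T, φ (x ⊗ₜ 1) = (ι x) ⊗ₜ[Ap] (1 : Tp) := by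
    intro x
    change (Algebra.TensorProduct.lift ι₁ ι₂ _) (x ⊗ₜ 1) = _
    rw [Algebra.TensorProduct.lift_tmul]
    change (ι x ⊗ₜ[Ap] (1 : Tp)) * ((1 : Tp) ⊗ₜ[Ap] (ι 1)) = _
    rw [Algebra.TensorProduct.tmul_mul_tmul, mul_one, one_mul, show ι 1 = 1 from map_one ι]
  have hφ2 : ∀ x : T, φ (1 ⊗ₜ x) = (1 : Tp) ⊗ₜ[Ap] (ι x) := by
    intro x
    change (Algebra.TensorProduct.lift ι₁ ι₂ _) (1 ⊗ₜ x) = _
    rw [Algebra.TensorProduct.lift_tmul]
    change (ι 1 ⊗ₜ[Ap] (1 : Tp)) * ((1 : Tp) ⊗ₜ[Ap] (ι x)) = _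
    rw [Algebra.TensorProduct.tmul_mul_tmul, mul_one, one_mul, show ι 1 = 1 from map_one ι]
  have hEq : ∀ b : T, (1 : Tp) ⊗ₜ[Ap] (ι b) = (ι b) ⊗ₜ[Ap] (1 : Tp) := by
    intro b
    obtain ⟨t, ht, hb⟩ := h b
    have h1 := congrArg φ hb
    rw [hφ1, hφ2, map_smul] at h1
    have hunit : IsUnit (algebraMap A Ap t) :=
      IsLocalization.map_units Ap (⟨t, ht⟩ : p.primeCompl)
    have h2 : t • ι b = (algebraMap A Ap t) • ι b := by
      rw [algebraMap_smul]
    rw [h2, ← TensorProduct.smul_tmul', TensorProduct.tmul_smul] at h1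
    exact (hunit.smul_left_cancel.1 h1).symm
  have hepi : Algebra.IsEpi Ap Tp := by
    rw [Algebra.isEpi_iff_forall_one_tmul_eq]
    intro x
    induction x using TensorProduct.induction_on with
    | zero => simp
    | tmul a b =>
      have : a ⊗ₜ[A] b = a • ι b := by
        simp [ι, TensorProduct.smul_tmul']
      rw [this, TensorProduct.tmul_smul, hEq, TensorProduct.smul_tmul']
    | add x y hx hy => rw [TensorProduct.tmul_add, TensorProduct.add_tmul, hx, hy]
  have hsurj : Function.Surjective (algebraMap Ap Tp) :=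
    Algebra.isEpi_iff_surjective_algebraMap_of_finite.1 hepi
  intro b
  obtain ⟨x, hx⟩ := hsurj (ι b)
  obtain ⟨a, s, rfl⟩ := IsLocalization.exists_mk'_eq p.primeCompl x
  have hloc : IsLocalizedModule p.primeCompl (TensorProduct.mk A Ap T 1) :=
    (isLocalizedModule_iff_isBaseChange p.primeCompl Ap _).2 (TensorProduct.isBaseChange A T Ap)
  have h3 : (TensorProduct.mk A Ap T 1) ((s : A) • b - algebraMap A T a) = 0 := by
    rw [map_sub, map_smul, sub_eq_zero]
    have h4 : (TensorProduct.mk A Ap T 1) b = ι b := rfl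
    rw [h4, ← hx, Algebra.TensorProduct.algebraMap_apply, Algebra.algebraMap_self,
      RingHom.id_apply, TensorProduct.mk_apply, TensorProduct.smul_tmul']
    rw [Algebra.algebraMap_eq_smul_one a, ← TensorProduct.smul_tmul]
    congr 1
    rw [Algebra.smul_def, Algebra.smul_def, mul_one, IsLocalization.mk'_spec']
  obtain ⟨c, hc⟩ := (IsLocalizedModule.eq_zero_iff p.primeCompl _).1 h3
  refine ⟨(c : A) * (s : A), p.primeCompl.mul_mem c.2 s.2, (c : A) * a, ?_⟩
  rw [Submonoid.smul_def, smul_sub, sub_eq_zero] at hc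
  rw [mul_smul, hc, map_mul, Algebra.smul_def]

end Lemma1


section Lemma2
variable {A : Type u} [CommRing A] [IsNoetherianRing A]

theorem isArtinianRing_quot_map_of_minimalPrimes (J p : Ideal A) (hp : p ∈ J.minimalPrimes) :
    haveI : p.IsPrime := hp.1.1
    IsArtinianRing (Localization.AtPrime p ⧸ J.map (algebraMap A (Localization.AtPrime p))) := by
  have : p.IsPrime := hp.1.1
  rw [isArtinianRing_iff_krullDimLE_zero,
    Ideal.krullDimLE_zero_quotient_iff_forall_minimalPrimes_isMaximal]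
  intro Q hQ
  have hQp : Q.IsPrime := hQ.1.1
  have hJQ : J ≤ Q.comap (algebraMap A (Localization.AtPrime p)) := Ideal.le_comap_of_map_le hQ.1.2
  have hQle : Q.comap (algebraMap A (Localization.AtPrime p)) ≤ p := by
    have h1 : Q ≤ IsLocalRing.maximalIdeal (Localization.AtPrime p) :=
      IsLocalRing.le_maximalIdeal hQp.ne_top
    have h2 := Ideal.comap_mono (f := algebraMap A (Localization.AtPrime p)) h1
    have h3 := IsLocalization.AtPrime.under_maximalIdeal (Localization.AtPrime p) p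
    rw [Ideal.under_def] at h3
    rwa [h3] at h2
  have hpq : p ≤ Q.comap (algebraMap A (Localization.AtPrime p)) :=
    hp.2 ⟨Ideal.comap_isPrime _ _, hJQ⟩ hQle
  have heq : Q.comap (algebraMap A (Localization.AtPrime p)) = p := le_antisymm hQle hpq
  have hQ' : Q = IsLocalRing.maximalIdeal (Localization.AtPrime p) := by
    have h4 := IsLocalization.map_under p.primeCompl (Localization.AtPrime p) Q
    rw [Ideal.under_def, heq, Localization.AtPrime.map_eq_maximalIdeal] at h4
    exact h4.symm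
  rw [hQ']
  infer_instance

theorem exists_step_local {Ebar : Type u} [AddCommGroup Ebar] [Module A Ebar] [Module.Finite A Ebar]
    (E : ℕ → Submodule A Ebar) (hE : Antitone E) (J p : Ideal A) (hp : p ∈ J.minimalPrimes)
    (hJ : ∀ a ∈ J, ∀ e ∈ E 0, a • e = 0) :
    ∃ i : ℕ, ∀ e ∈ E i, ∃ t : A, t ∉ p ∧ t • e ∈ E (i + 1) := by
  classical
  have : p.IsPrime := hp.1.1
  let S := p.primeCompl
  let X : ℕ → Submodule (Localization S) (LocalizedModule S Ebar) := fun i => (E i).localized S
  have hX : Antitone X := fun i j hij =>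
    (Submodule.localized'gi (Localization S) S (LocalizedModule.mkLinearMap S Ebar)).gc.monotone_l
      (hE hij)
  have hfin : Module.Finite (Localization S) (X 0) := by
    rw [Module.Finite.iff_fg]
    have hfg : (E 0).FG := IsNoetherian.noetherian _
    obtain ⟨s, hs⟩ := hfg
    change ((E 0).localized' (Localization S) S (LocalizedModule.mkLinearMap S Ebar)).FG
    rw [← hs, Submodule.localized'_span]
    exact Submodule.fg_span (Set.Finite.image _ s.finite_toSet)
  have hart := isArtinianRing_quot_map_of_minimalPrimes J p hp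
  have htors : Module.IsTorsionBySet (Localization S) (X 0)
      ((J.map (algebraMap A (Localization S)) : Ideal (Localization S)) : Set (Localization S)) := by
    rw [Ideal.map, ← Ideal.submodule_span_eq, ← Module.isTorsionBySet_iff_is_torsion_by_span]
    rintro ⟨x, hx⟩ ⟨_, ⟨a, ha, rfl⟩⟩
    apply Subtype.ext
    obtain ⟨e, he, s, rfl⟩ := hx
    change algebraMap A (Localization S) a •
      IsLocalizedModule.mk' (LocalizedModule.mkLinearMap S Ebar) e s = 0
    rw [algebraMap_smul, ← IsLocalizedModule.mk'_smul, hJ a ha e he, IsLocalizedModule.mk'_zero]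
  let _ : Module (Localization S ⧸ J.map (algebraMap A (Localization S))) (X 0) := htors.module
  have : IsScalarTower (Localization S) (Localization S ⧸ J.map (algebraMap A (Localization S)))
      (X 0) := htors.isScalarTower
  have : Module.Finite (Localization S ⧸ J.map (algebraMap A (Localization S))) (X 0) :=
    Module.Finite.of_restrictScalars_finite (Localization S) _ _
  have : IsArtinianRing (Localization S ⧸ J.map (algebraMap A (Localization S))) := hart
  have : IsArtinian (Localization S ⧸ J.map (algebraMap A (Localization S))) (X 0) :=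
    inferInstance
  have hartX : IsArtinian (Localization S) (X 0) :=
    isArtinian_of_surjective_algebraMap
      (R := Localization S ⧸ J.map (algebraMap A (Localization S))) (S := Localization S)
      Ideal.Quotient.mk_surjective
  let Y : ℕ →o (Submodule (Localization S) (X 0))ᵒᵈ :=
    ⟨fun i => OrderDual.toDual (Submodule.comap (X 0).subtype (X i)),
      fun i j hij => Submodule.comap_mono (hX hij)⟩
  obtain ⟨i, hi⟩ := IsArtinian.monotone_stabilizes Y
  have hXi : X i ≤ X (i + 1) := by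
    intro x hx
    have hx0 : x ∈ X 0 := hX (Nat.zero_le i) hx
    have h1 : (⟨x, hx0⟩ : X 0) ∈ Submodule.comap (X 0).subtype (X i) := hx
    have h2 : Submodule.comap (X 0).subtype (X i) = Submodule.comap (X 0).subtype (X (i + 1)) :=
      hi (i + 1) (Nat.le_succ i)
    rw [h2] at h1
    exact h1
  refine ⟨i, fun e he => ?_⟩
  have h1 : LocalizedModule.mk e (1 : S) ∈ X i := by
    refine ⟨e, he, 1, ?_⟩
    rw [← IsLocalizedModule.mk_eq_mk']
  obtain ⟨e', he', s, hes⟩ := hXi h1
  rw [← IsLocalizedModule.mk_eq_mk', LocalizedModule.mk_eq] at hes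
  obtain ⟨u, hu⟩ := hes
  refine ⟨(u : A) * (s : A), S.mul_mem u.2 s.2, ?_⟩
  rw [one_smul] at hu
  rw [mul_smul]
  change u • s • e ∈ E (i + 1)
  rw [← hu]
  exact (E (i + 1)).smul_mem _ he'

end Lemma2


section Main

theorem main (A B : Type u) [CommRing A] [CommRing B] [Algebra A B]
    [IsNoetherianRing A] [Module.Finite A B]
    (C : ℕ → Subalgebra A B)
    (hstep : ∀ (i : ℕ) (b : B), b ∈ C (i + 1) ↔ ∃ hb : b ∈ C i,
      ((⟨b, hb⟩ : C i) ⊗ₜ[A] (1 : C i) : C i ⊗[A] C i) = (1 : C i) ⊗ₜ[A] (⟨b, hb⟩ : C i)) :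
    ∃ m : ℕ, C m = ⊥ := by
  classical
  have hanti : Antitone C := antitone_nat_of_succ_le (fun i b hb => ((hstep i b).1 hb).1)
  have hnoeth : IsNoetherian A B := isNoetherian_of_isNoetherianRing_of_finite A B
  let U : Submodule A B := (⊥ : Subalgebra A B).toSubmodule
  have hU : ∀ i, U ≤ (C i).toSubmodule := fun i => by
    intro x hx
    exact (bot_le : (⊥ : Subalgebra A B) ≤ C i) hx
  let J : ℕ → Ideal A := fun i => U.colon ((C i).toSubmodule : Set B)
  have hJmono : Monotone J := fun i j hij =>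
    Submodule.colon_mono le_rfl (fun x hx => hanti hij hx)
  obtain ⟨i₀, hi₀⟩ := monotone_stabilizes_iff_noetherian.2 (inferInstance : IsNoetherian A A)
    ⟨J, hJmono⟩
  by_cases hJ : J i₀ = ⊤
  · refine ⟨i₀, ?_⟩
    rw [eq_bot_iff]
    intro b hb
    have h1 : (1 : A) ∈ J i₀ := by rw [hJ]; trivial
    have h2 := Submodule.mem_colon.1 h1 b hb
    rwa [one_smul] at h2
  · exfalso
    obtain ⟨p, hp⟩ := Ideal.nonempty_minimalPrimes hJ
    have hpp : p.IsPrime := hp.1.1
    let E : ℕ → Submodule A (B ⧸ U) := fun k => ((C (i₀ + k)).toSubmodule).map U.mkQ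
    have hE : Antitone E := fun k l hkl =>
      Submodule.map_mono (fun x hx => hanti (Nat.add_le_add_left hkl i₀) hx)
    have hkill : ∀ a ∈ J i₀, ∀ e ∈ E 0, a • e = 0 := by
      rintro a ha _ ⟨b, hb, rfl⟩
      rw [← map_smul, Submodule.mkQ_apply, Submodule.Quotient.mk_eq_zero]
      exact Submodule.mem_colon.1 ha b hb
    obtain ⟨k, hk⟩ := exists_step_local E hE (J i₀) p hp hkill
    have hloc : ∀ b ∈ C (i₀ + k), ∃ t : A, t ∉ p ∧ t • b ∈ C (i₀ + k + 1) := by
      intro b hb
      obtain ⟨t, ht, hte⟩ := hk (U.mkQ b) ⟨b, hb, rfl⟩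
      obtain ⟨c, hc, hce⟩ := hte
      refine ⟨t, ht, ?_⟩
      rw [← map_smul, Submodule.mkQ_apply, Submodule.mkQ_apply, Submodule.Quotient.eq] at hce
      have h1 : t • b = c - (c - t • b) := by abel
      rw [h1]
      exact (C (i₀ + k + 1)).sub_mem hc (hU _ hce)
    have hfinC : Module.Finite A (C (i₀ + k)) :=
      Module.Finite.of_injective (C (i₀ + k)).val.toLinearMap Subtype.val_injective
    have hL1 := local_surj_of_local_eq A (C (i₀ + k)) p (by
      intro b
      obtain ⟨t, ht, htb⟩ := hloc b.1 b.2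
      obtain ⟨hb', heq⟩ := (hstep (i₀ + k) (t • b.1)).1 htb
      refine ⟨t, ht, ?_⟩
      have : (⟨t • b.1, hb'⟩ : C (i₀ + k)) = t • b := Subtype.ext rfl
      rw [this] at heq
      exact heq)
    have hfg : ((C (i₀ + k)).toSubmodule).FG := IsNoetherian.noetherian _
    obtain ⟨S₀, hS₀⟩ := hfg
    have hS₀mem : ∀ x ∈ S₀, x ∈ C (i₀ + k) := by
      intro x hx
      have : x ∈ Submodule.span A (S₀ : Set B) := Submodule.subset_span hx
      rw [hS₀] at this
      exact this
    have ht : ∀ x : B, ∃ t : A, t ∉ p ∧ (x ∈ C (i₀ + k) → t • x ∈ U) := by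
      intro x
      by_cases hx : x ∈ C (i₀ + k)
      · obtain ⟨t, ht, a, hta⟩ := hL1 ⟨x, hx⟩
        refine ⟨t, ht, fun _ => ?_⟩
        have h1 := congrArg Subtype.val hta
        change t • x = algebraMap A B a at h1
        rw [h1]
        exact (⊥ : Subalgebra A B).algebraMap_mem a
      · exact ⟨1, fun h => hpp.ne_top ((Ideal.eq_top_iff_one _).2 h), fun h => absurd h hx⟩
    choose τ hτp hτ using ht
    have hprod : (∏ x ∈ S₀, τ x) ∉ p := by
      intro h
      obtain ⟨x, _, hx⟩ := (Ideal.IsPrime.prod_mem_iff.1 h)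
      exact hτp x hx
    apply hprod
    apply hp.1.2
    rw [show J i₀ = J (i₀ + k) from hi₀ (i₀ + k) (Nat.le_add_right _ _)]
    rw [Submodule.mem_colon]
    intro b hb
    have hb' : b ∈ Submodule.span A (S₀ : Set B) := by rw [hS₀]; exact hb
    induction hb' using Submodule.span_induction with
    | mem x hx =>
      have : (∏ z ∈ S₀, τ z) = (∏ z ∈ S₀.erase x, τ z) * τ x := by
        rw [Finset.prod_erase_mul _ _ hx]
      rw [this, mul_smul]
      exact U.smul_mem _ (hτ x (hS₀mem x hx))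
    | zero => rw [smul_zero]; exact U.zero_mem
    | add y z hy hz hy' hz' =>
      rw [smul_add]
      refine U.add_mem (hy' ?_) (hz' ?_)
      · rw [← hS₀]; exact hy
      · rw [← hS₀]; exact hz
    | smul a y hy hy' =>
      rw [smul_comm]
      refine U.smul_mem _ (hy' ?_)
      rw [← hS₀]; exact hy

end Main

end Groth.Agent.Lib.Helper14.IterEq
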