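import Mathlib
import Groth.Agent.Lib.Lead.Inv6
import Groth.Agent.Lib.Lead.Tw1
import Groth.Agent.Lib.Helper35.Dual3
import Groth.Agent.Lib.Helper35.PbTensor
import Groth.Agent.Lib.Helper35.VS3
import Groth.Agent.Lib.Helper35.InvPush

set_option autoImplicit false
universe u
open CategoryTheory AlgebraicGeometry

namespace Groth.Agent.Lib.Helper14.PicCalc

variable {X Y Z : Scheme.{u}}

def InvMod (X : Scheme.{u}) : Type (u + 1) := {L : X.Modules // PicF.IsInvertible L}

instance invSetoid (X : Scheme.{u}) : Setoid (InvMod X) where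
  r a b := Nonempty (a.1 ≅ b.1)
  iseqv := ⟨fun _ => ⟨Iso.refl _⟩, fun ⟨e⟩ => ⟨e.symm⟩, fun ⟨e⟩ ⟨e'⟩ => ⟨e ≪≫ e'⟩⟩

def Pic (X : Scheme.{u}) : Type (u + 1) := Quotient (invSetoid X)

def Pic.mk (L : X.Modules) (hL : PicF.IsInvertible L) : Pic X := Quotient.mk _ ⟨L, hL⟩

theorem Pic.mk_eq_mk {L L' : X.Modules} (hL : PicF.IsInvertible L) (hL' : PicF.IsInvertible L') :
    Pic.mk L hL = Pic.mk L' hL' ↔ Nonempty (L ≅ L') :=
  Quotient.eq (r := invSetoid X)

theorem Pic.exists_rep (c : Pic X) : ∃ (L : X.Modules) (hL : PicF.IsInvertible L), c = Pic.mk L hL := by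
  induction c using Quotient.inductionOn with
  | _ a => exact ⟨a.1, a.2, rfl⟩

noncomputable instance : Mul (Pic X) :=
  ⟨Quotient.map₂ (fun a b => (⟨CohB1.tensorMod a.1 b.1,
      Groth.Agent.Lib.Lead.Inv.isInvertible_tensorMod a.2 b.2⟩ : InvMod X)) (by
    rintro a a' ⟨e⟩ b b' ⟨e'⟩
    exact Groth.Agent.Lib.Helper35.VA.nonempty_tensorModCongr e e')⟩

noncomputable instance : One (Pic X) :=
  ⟨Pic.mk (Coh.structureModule X)
    (Groth.Agent.Lib.Helper35.InvPush.isInvertible_structureModule X)⟩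

theorem Pic.mk_mul_mk {L L' : X.Modules} (hL : PicF.IsInvertible L) (hL' : PicF.IsInvertible L') :
    Pic.mk L hL * Pic.mk L' hL' = Pic.mk (CohB1.tensorMod L L')
      (Groth.Agent.Lib.Lead.Inv.isInvertible_tensorMod hL hL') := rfl

theorem Pic.one_def : (1 : Pic X) = Pic.mk (Coh.structureModule X)
    (Groth.Agent.Lib.Helper35.InvPush.isInvertible_structureModule X) := rfl

noncomputable instance : CommMonoid (Pic X) where
  mul_assoc a b c := by
    induction a using Quotient.inductionOn with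
    | _ a =>
    induction b using Quotient.inductionOn with
    | _ b =>
    induction c using Quotient.inductionOn with
    | _ c =>
    exact Quotient.sound (Groth.Agent.Lib.Lead.Inv.nonempty_assoc a.1 b.1 c.1 a.2 c.2)
  one_mul a := by
    induction a using Quotient.inductionOn with
    | _ a =>
    exact Quotient.sound (Groth.Agent.Lib.Helper60.TensorLib.nonempty_tensorMod_unit_left a.1)
  mul_one a := by
    induction a using Quotient.inductionOn with
    | _ a =>
    exact Quotient.sound (Groth.Agent.Lib.Lead.Inv.nonempty_unit_right a.1)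
  mul_comm a b := by
    induction a using Quotient.inductionOn with
    | _ a =>
    induction b using Quotient.inductionOn with
    | _ b =>
    exact Quotient.sound (Groth.Agent.Lib.Lead.Inv.nonempty_comm a.1 b.1)

theorem Pic.exists_inv (c : Pic X) : ∃ d : Pic X, c * d = 1 := by
  obtain ⟨L, hL, rfl⟩ := Pic.exists_rep c
  obtain ⟨N, hN, h1, -⟩ := Groth.Agent.Lib.Helper35.Dual.exists_inverse hL
  exact ⟨Pic.mk N hN, Quotient.sound h1⟩

noncomputable instance : CommGroup (Pic X) :=
  { (inferInstance : CommMonoid (Pic X)) with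
    inv := fun c => Classical.choose (Pic.exists_inv c)
    inv_mul_cancel := fun c => by
      rw [mul_comm]
      exact Classical.choose_spec (Pic.exists_inv c) }

theorem Pic.mk_mul_eq_iff {A B C : X.Modules} (hA : PicF.IsInvertible A) (hB : PicF.IsInvertible B)
    (hC : PicF.IsInvertible C) :
    Pic.mk A hA * Pic.mk B hB = Pic.mk C hC ↔ Nonempty (CohB1.tensorMod A B ≅ C) := by
  rw [Pic.mk_mul_mk, Pic.mk_eq_mk]

noncomputable def pull (f : X ⟶ Y) : Pic Y →* Pic X where
  toFun := Quotient.map (fun a => (⟨(Scheme.Modules.pullback f).obj a.1,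
      Groth.Agent.Lib.Helper35.PbInv.isInvertible_pullback f a.2⟩ : InvMod X)) (by
    rintro a b ⟨e⟩
    exact ⟨(Scheme.Modules.pullback f).mapIso e⟩)
  map_one' := Quotient.sound ⟨Groth.Agent.Lib.Helper40.NisGen.pullbackUnitIso f⟩
  map_mul' a b := by
    induction a using Quotient.inductionOn with
    | _ a =>
    induction b using Quotient.inductionOn with
    | _ b =>
    exact Quotient.sound
      (Groth.Agent.Lib.Helper35.PbTensor.nonempty_pullback_tensorMod f a.2 b.2)

theorem pull_mk (f : X ⟶ Y) {L : Y.Modules} (hL : PicF.IsInvertible L) :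
    pull f (Pic.mk L hL) = Pic.mk ((Scheme.Modules.pullback f).obj L)
      (Groth.Agent.Lib.Helper35.PbInv.isInvertible_pullback f hL) := rfl

theorem pull_pull (f : X ⟶ Y) (g : Y ⟶ Z) (h : X ⟶ Z) (e : f ≫ g = h) (c : Pic Z) :
    pull f (pull g c) = pull h c := by
  induction c using Quotient.inductionOn with
  | _ a =>
  exact Quotient.sound ⟨Groth.Agent.Lib.Helper35.VA.pbCompIso f g h e a.1⟩

theorem pull_id (c : Pic X) : pull (𝟙 X) c = c := by
  induction c using Quotient.inductionOn with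
  | _ a =>
  exact Quotient.sound ⟨(Scheme.Modules.pullbackId X).app a.1⟩

theorem pull_congr {f g : X ⟶ Y} (h : f = g) (c : Pic Y) : pull f c = pull g c := by
  subst h
  rfl

theorem nonempty_iso_unit_of_subsingleton [Subsingleton X] (x : X) {L : X.Modules}
    (hL : PicF.IsInvertible L) : Nonempty (L ≅ Coh.structureModule X) := by
  obtain ⟨U, hxU, ⟨e⟩⟩ := hL x
  have hU : U = ⊤ := by
    ext y
    simp only [TopologicalSpace.Opens.coe_top, Set.mem_univ, iff_true]
    rw [Subsingleton.elim y x]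
    exact hxU
  subst hU
  have h1 : X.topIso.inv ≫ (⊤ : X.Opens).ι = 𝟙 X := by
    rw [← Scheme.topIso_hom, Iso.inv_hom_id]
  refine ⟨((Scheme.Modules.pullbackId X).app L).symm ≪≫
    (Groth.Agent.Lib.Helper35.VA.pbCompIso X.topIso.inv (⊤ : X.Opens).ι (𝟙 X) h1 L).symm ≪≫
    (Scheme.Modules.pullback X.topIso.inv).mapIso
      (((Scheme.Modules.restrictFunctorIsoPullback (⊤ : X.Opens).ι).app L).symm ≪≫ e) ≪≫
    Groth.Agent.Lib.Helper40.NisGen.pullbackUnitIso X.topIso.inv⟩

theorem Pic.eq_one_of_subsingleton [Subsingleton X] (x : X) (c : Pic X) : c = 1 := by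
  obtain ⟨L, hL, rfl⟩ := Pic.exists_rep c
  exact (Pic.mk_eq_mk _ _).2 (nonempty_iso_unit_of_subsingleton x hL)

theorem nonempty_iso_of_tensor_iso {P N R : X.Modules} (hP : PicF.IsInvertible P)
    (hR : PicF.IsInvertible R) (h : Nonempty (CohB1.tensorMod P N ≅ R)) :
    PicF.IsInvertible N := by
  obtain ⟨D, hD, ⟨h1⟩, -⟩ := Groth.Agent.Lib.Helper35.Dual.exists_inverse hP
  obtain ⟨e⟩ := h
  obtain ⟨u⟩ := Groth.Agent.Lib.Lead.Inv.nonempty_unit_right N
  obtain ⟨c⟩ := Groth.Agent.Lib.Lead.Inv.nonempty_comm N P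
  have hA : Groth.Agent.Lib.Lead.Inv.AssocOK N P D :=
    Groth.Agent.Lib.Lead.Inv.assocOK_of_mid_right hP hD
  let a := Groth.Agent.Lib.Lead.Inv.assocIso hA
  have e1 : N ≅ CohB1.tensorMod R D :=
    u.symm ≪≫ Groth.Agent.Lib.Helper60.TensorLib.tensorModCongrRight N h1.symm ≪≫ a.symm ≪≫
      Groth.Agent.Lib.Helper60.TensorLib.tensorModCongrLeft (c ≪≫ e) D
  exact Groth.Agent.Lib.Helper35.ModRestrict.isInvertible_of_iso e1.symm
    (Groth.Agent.Lib.Lead.Inv.isInvertible_tensorMod hR hD)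

end Groth.Agent.Lib.Helper14.PicCalc
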