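import Mathlib
import Groth.Agent.Lib.Helper14.PicCalc
import Groth.Prelude.Def_ThetaK

set_option autoImplicit false
universe u
open CategoryTheory MonoidalCategory CartesianMonoidalCategory MonObj GrpObj AlgebraicGeometry
open Groth.Agent.Lib.Helper14.PicCalc

namespace Groth.Agent.Lib.Helper14.KLCalc

variable {k : Type u} [Field k] {X : Over (Spec (CommRingCat.of k))} [GrpObj X]
  (ℓ : Pic X.left)

noncomputable def cls {W : Over (Spec (CommRingCat.of k))} (a : W ⟶ X) : Pic W.left :=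
  pull a.left ℓ

omit [GrpObj X] in
theorem pull_cls {W W' : Over (Spec (CommRingCat.of k))} (b : W' ⟶ W) (a : W ⟶ X) :
    pull b.left (cls ℓ a) = cls ℓ (b ≫ a) :=
  pull_pull b.left a.left (b ≫ a).left rfl ℓ

theorem pull_pull_over {W W' W'' : Over (Spec (CommRingCat.of k))} (b : W' ⟶ W) (a : W ⟶ W'')
    (c : W' ⟶ W'') (h : b ≫ a = c) (m : Pic W''.left) :
    pull b.left (pull a.left m) = pull c.left m :=
  pull_pull b.left a.left c.left (by rw [← h]; rfl) m

theorem pull_id_over {W : Over (Spec (CommRingCat.of k))} (m : Pic W.left) :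
    pull (𝟙 W : W ⟶ W).left m = m :=
  pull_id m

theorem cls_one (W : Over (Spec (CommRingCat.of k))) : cls ℓ (1 : W ⟶ X) = 1 := by
  rw [Hom.one_def, ← pull_cls]
  have hs : Subsingleton ↥(𝟙_ (Over (Spec (CommRingCat.of k)))).left :=
    show Subsingleton (PrimeSpectrum k) from inferInstance
  have hx : ↥(𝟙_ (Over (Spec (CommRingCat.of k)))).left := show PrimeSpectrum k from default
  have h1 : cls ℓ η[X] = 1 := Pic.eq_one_of_subsingleton hx _
  rw [h1, map_one]

theorem whiskerLeft_comp_mul {Z : Over (Spec (CommRingCat.of k))} (z : Z ⟶ X) :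
    (X ◁ z) ≫ μ[X] = fst X Z * (snd X Z ≫ z) := by
  rw [Hom.mul_def]
  congr 1

theorem isMumfordTriv_iff {L : X.left.Modules} (hL : PicF.IsInvertible L)
    {Z : Over (Spec (CommRingCat.of k))} (z : Z ⟶ X) :
    ThetaGrp.IsMumfordTriv X L z ↔ ∃ m : Pic Z.left,
      pull (snd X Z).left m * cls (Pic.mk L hL) (fst X Z) * cls (Pic.mk L hL) (snd X Z ≫ z) =
        cls (Pic.mk L hL) (fst X Z * (snd X Z ≫ z)) := by
  constructor
  · rintro ⟨M, hM, h⟩
    refine ⟨Pic.mk M hM, ?_⟩
    rw [← whiskerLeft_comp_mul]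
    have h1 := (Pic.mk_mul_eq_iff
      (Groth.Agent.Lib.Lead.Inv.isInvertible_tensorMod
        (Groth.Agent.Lib.Helper35.PbInv.isInvertible_pullback (snd X Z).left hM)
        (Groth.Agent.Lib.Helper35.PbInv.isInvertible_pullback (fst X Z).left hL))
      (Groth.Agent.Lib.Helper35.PbInv.isInvertible_pullback (snd X Z ≫ z).left hL)
      (Groth.Agent.Lib.Helper35.PbInv.isInvertible_pullback ((X ◁ z) ≫ μ[X]).left hL)).2 h
    exact h1
  · rintro ⟨m, hm⟩
    obtain ⟨M, hM, rfl⟩ := Pic.exists_rep m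
    refine ⟨M, hM, ?_⟩
    rw [← whiskerLeft_comp_mul] at hm
    exact (Pic.mk_mul_eq_iff
      (Groth.Agent.Lib.Lead.Inv.isInvertible_tensorMod
        (Groth.Agent.Lib.Helper35.PbInv.isInvertible_pullback (snd X Z).left hM)
        (Groth.Agent.Lib.Helper35.PbInv.isInvertible_pullback (fst X Z).left hL))
      (Groth.Agent.Lib.Helper35.PbInv.isInvertible_pullback (snd X Z ≫ z).left hL)
      (Groth.Agent.Lib.Helper35.PbInv.isInvertible_pullback ((X ◁ z) ≫ μ[X]).left hL)).1 hm

noncomputable def unitSec (T : Over (Spec (CommRingCat.of k))) : T ⟶ X ⊗ T :=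
  lift (1 : T ⟶ X) (𝟙 T)

theorem unitSec_fst (T : Over (Spec (CommRingCat.of k))) :
    unitSec (X := X) T ≫ fst X T = 1 := lift_fst _ _

theorem unitSec_snd (T : Over (Spec (CommRingCat.of k))) :
    unitSec (X := X) T ≫ snd X T = 𝟙 T := lift_snd _ _

end Groth.Agent.Lib.Helper14.KLCalc
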