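import Groth.Agent.Lib.Helper48.Conormal1

set_option autoImplicit false
universe u
open CategoryTheory CategoryTheory.Limits AlgebraicGeometry Opposite TopologicalSpace

namespace Groth.Agent.Lib.Helper14.KosShExact

theorem isBasis_affine_opens (X : Scheme.{u}) :
    Opens.IsBasis {U : X.Opens | IsAffineOpen U} := X.isBasis_affineOpens

theorem isZero_homology_of_affine_sections {X : Scheme.{u}} (K : ChainComplex X.Modules ℕ) (q : ℕ)
    (h : ∀ (V : X.affineOpens) (t : Γ(K.X (q + 1), V.1)), (K.d (q + 1) q).app V.1 t = 0 →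
      ∃ u : Γ(K.X (q + 2), V.1), (K.d (q + 2) (q + 1)).app V.1 u = t) :
    Limits.IsZero (K.homology (q + 1)) := by
  rw [← HomologicalComplex.exactAt_iff_isZero_homology]
  rw [HomologicalComplex.exactAt_iff' K (q + 2) (q + 1) q (by simp) (by simp)]
  apply Groth.Agent.Lib.Helper48.Conormal.exact_of_basis _ _ (isBasis_affine_opens X)
  intro U hU s hs
  exact h ⟨U, hU⟩ s hs

end Groth.Agent.Lib.Helper14.KosShExact
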