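import Groth.Prelude.Def_Koszul
import Groth.Agent.Lib.Helper98.ConeElem
import Mathlib

set_option autoImplicit false
universe u
open CategoryTheory CategoryTheory.Limits HomologicalComplex CochainComplex HomComplex
open Groth.Agent.Lib.Helper98.ConeElem
open scoped Pointwise

namespace Helper14.KoszulScale

variable {A : Type u} [CommRing A]

@[reducible] noncomputable def scale (x : A) (K : CochainComplex (ModuleCat.{u} A) ℤ) :
    CochainComplex (ModuleCat.{u} A) ℤ where
  X := K.X
  d i j := x • K.d i j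
  shape i j h := by rw [K.shape i j h, smul_zero]
  d_comp_d' i j k _ _ := by
    rw [Linear.smul_comp, Linear.comp_smul, K.d_comp_d, smul_zero, smul_zero]

lemma scale_d_apply (x : A) (K : CochainComplex (ModuleCat.{u} A) ℤ) (i j : ℤ) (w : K.X i) :
    ((scale x K).d i j).hom w = x • (K.d i j).hom w := rfl

noncomputable def scaleMap (x : A) {K L : CochainComplex (ModuleCat.{u} A) ℤ} (φ : K ⟶ L) :
    scale x K ⟶ scale x L where
  f i := φ.f i
  comm' i j _ := by
    change φ.f i ≫ (x • L.d i j) = (x • K.d i j) ≫ φ.f j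
    rw [Linear.comp_smul, Linear.smul_comp, φ.comm]

noncomputable def scaleIso (x : A) {K L : CochainComplex (ModuleCat.{u} A) ℤ} (e : K ≅ L) :
    scale x K ≅ scale x L where
  hom := scaleMap x e.hom
  inv := scaleMap x e.inv
  hom_inv_id := by
    apply HomologicalComplex.hom_ext
    intro i
    change e.hom.f i ≫ e.inv.f i = 𝟙 _
    rw [← HomologicalComplex.comp_f, e.hom_inv_id]; rfl
  inv_hom_id := by
    apply HomologicalComplex.hom_ext
    intro i
    change e.inv.f i ≫ e.hom.f i = 𝟙 _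
    rw [← HomologicalComplex.comp_f, e.inv_hom_id]; rfl

noncomputable def coneSmulIso' (f : A) {K K' : CochainComplex (ModuleCat.{u} A) ℤ} (e : K ≅ K') :
    mappingCone (f • 𝟙 K) ≅ mappingCone (f • 𝟙 K') where
  hom := mappingCone.map _ _ e.hom e.hom (by simp)
  inv := mappingCone.map _ _ e.inv e.inv (by simp)
  hom_inv_id := by
    rw [← mappingCone.map_comp]
    simp only [Iso.hom_inv_id]
    exact mappingCone.map_id _
  inv_hom_id := by
    rw [← mappingCone.map_comp]
    simp only [Iso.inv_hom_id]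
    exact mappingCone.map_id _

section Cone

variable (x f : A) (K : CochainComplex (ModuleCat.{u} A) ℤ)

noncomputable def coneFwd (p : ℤ) :
    (mappingCone ((x * f) • 𝟙 (scale x K))).X p →ₗ[A] (mappingCone (f • 𝟙 K)).X p :=
  (cinl (f • 𝟙 K) p (p + 1) rfl).comp (cfst ((x * f) • 𝟙 (scale x K)) p (p + 1) rfl) +
    (cinr (f • 𝟙 K) p).comp (csnd ((x * f) • 𝟙 (scale x K)) p)

noncomputable def coneBwd (p : ℤ) :
    (mappingCone (f • 𝟙 K)).X p →ₗ[A] (mappingCone ((x * f) • 𝟙 (scale x K))).X p :=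
  (cinl ((x * f) • 𝟙 (scale x K)) p (p + 1) rfl).comp (cfst (f • 𝟙 K) p (p + 1) rfl) +
    (cinr ((x * f) • 𝟙 (scale x K)) p).comp (csnd (f • 𝟙 K) p)

lemma cfst_coneFwd (p : ℤ) (v : (mappingCone ((x * f) • 𝟙 (scale x K))).X p) :
    cfst (f • 𝟙 K) p (p + 1) rfl (coneFwd x f K p v) =
      cfst ((x * f) • 𝟙 (scale x K)) p (p + 1) rfl v := by
  simp only [coneFwd, LinearMap.add_apply, LinearMap.comp_apply, map_add]
  rw [cfst_cinl, cfst_cinr, add_zero]

lemma csnd_coneFwd (p : ℤ) (v : (mappingCone ((x * f) • 𝟙 (scale x K))).X p) :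
    csnd (f • 𝟙 K) p (coneFwd x f K p v) = csnd ((x * f) • 𝟙 (scale x K)) p v := by
  simp only [coneFwd, LinearMap.add_apply, LinearMap.comp_apply, map_add]
  rw [csnd_cinl, csnd_cinr, zero_add]

lemma cfst_coneBwd (p : ℤ) (v : (mappingCone (f • 𝟙 K)).X p) :
    cfst ((x * f) • 𝟙 (scale x K)) p (p + 1) rfl (coneBwd x f K p v) =
      cfst (f • 𝟙 K) p (p + 1) rfl v := by
  simp only [coneBwd, LinearMap.add_apply, LinearMap.comp_apply, map_add]
  rw [cfst_cinl, cfst_cinr, add_zero]

lemma csnd_coneBwd (p : ℤ) (v : (mappingCone (f • 𝟙 K)).X p) :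
    csnd ((x * f) • 𝟙 (scale x K)) p (coneBwd x f K p v) = csnd (f • 𝟙 K) p v := by
  simp only [coneBwd, LinearMap.add_apply, LinearMap.comp_apply, map_add]
  rw [csnd_cinl, csnd_cinr, zero_add]

noncomputable def coneEquiv (p : ℤ) :
    (mappingCone ((x * f) • 𝟙 (scale x K))).X p ≃ₗ[A] (mappingCone (f • 𝟙 K)).X p where
  toFun := coneFwd x f K p
  map_add' := map_add _
  map_smul' := map_smul _
  invFun := coneBwd x f K p
  left_inv v := by
    apply cone_ext _ p (p + 1) rfl
    · rw [cfst_coneBwd, cfst_coneFwd]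
    · rw [csnd_coneBwd, csnd_coneFwd]
  right_inv v := by
    apply cone_ext _ p (p + 1) rfl
    · rw [cfst_coneFwd, cfst_coneBwd]
    · rw [csnd_coneFwd, csnd_coneBwd]

lemma smul_id_f_apply (g : A) (L : CochainComplex (ModuleCat.{u} A) ℤ) (q : ℤ) (w : L.X q) :
    ((g • 𝟙 L : L ⟶ L).f q).hom w = g • w := by
  rw [HomologicalComplex.smul_f_apply, HomologicalComplex.id_f]
  rfl

lemma coneFwd_d (p q : ℤ) (hpq : p + 1 = q)
    (v : (mappingCone ((x * f) • 𝟙 (scale x K))).X p) :
    coneFwd x f K q (((mappingCone ((x * f) • 𝟙 (scale x K))).d p q).hom v) =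
      x • ((mappingCone (f • 𝟙 K)).d p q).hom (coneFwd x f K p v) := by
  subst hpq
  apply cone_ext _ (p + 1) (p + 1 + 1) rfl
  · rw [cfst_coneFwd, map_smul, cfst_d _ p (p + 1) (p + 1 + 1) rfl rfl,
      cfst_d _ p (p + 1) (p + 1 + 1) rfl rfl, cfst_coneFwd, scale_d_apply, smul_neg]
  · rw [csnd_coneFwd, map_smul, csnd_d _ p (p + 1) rfl, csnd_d _ p (p + 1) rfl, cfst_coneFwd,
      csnd_coneFwd, scale_d_apply, smul_id_f_apply, smul_id_f_apply, smul_add, mul_smul]

noncomputable def coneScaleIso :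
    mappingCone ((x * f) • 𝟙 (scale x K)) ≅ scale x (mappingCone (f • 𝟙 K)) :=
  HomologicalComplex.Hom.isoOfComponents (fun p => (coneEquiv x f K p).toModuleIso) (by
    intro p q hpq
    have hpq' : p + 1 = q := hpq
    ext v
    exact (coneFwd_d x f K p q hpq' v).symm)

end Cone

theorem koszul_scale_iso (x : A) (l : List A) :
    Nonempty (Koszul.koszul A (l.map (fun f => x * f)) ≅ scale x (Koszul.koszul A l)) := by
  induction l with
  | nil =>
    refine ⟨HomologicalComplex.Hom.isoOfComponents (fun p => Iso.refl _) ?_⟩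
    intro p q _
    change 𝟙 _ ≫ (x • (Koszul.koszul A []).d p q) = (Koszul.koszul A []).d p q ≫ 𝟙 _
    have h0 : (Koszul.koszul A []).d p q = 0 := HomologicalComplex.single_obj_d _ _ _ _ _
    rw [h0, smul_zero, Category.id_comp, zero_comp]
  | cons f l ih =>
    obtain ⟨e⟩ := ih
    exact ⟨coneSmulIso' (x * f) e ≪≫ coneScaleIso x f (Koszul.koszul A l)⟩

section Homology

variable (x : A) (K : CochainComplex (ModuleCat.{u} A) ℤ) (q : ℤ)

lemma ker_scale (hreg : ∀ w : K.X (q + 1), x • w = 0 → w = 0) :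
    LinearMap.ker ((scale x K).d q (q + 1)).hom = LinearMap.ker (K.d q (q + 1)).hom := by
  ext w
  simp only [LinearMap.mem_ker]
  change x • (K.d q (q + 1)).hom w = 0 ↔ (K.d q (q + 1)).hom w = 0
  exact ⟨fun h => hreg _ h, fun h => by rw [h, smul_zero]⟩

theorem scale_homology_iso (hreg : ∀ w : K.X (q + 1), x • w = 0 → w = 0) :
    Nonempty ((scale x K).homology q ≅
      ModuleCat.of A (↥(LinearMap.ker (K.d q (q + 1)).hom) ⧸
        Submodule.comap (LinearMap.ker (K.d q (q + 1)).hom).subtype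
          (Ideal.span {x} • LinearMap.range (K.d (q - 1) q).hom))) := by
  let S := (scale x K).sc' (q - 1) q (q + 1)
  have e1 : (scale x K).homology q ≅ S.homology :=
    (scale x K).homologyIsoSc' (q - 1) q (q + 1) (by simp) (by simp)
  have e2 := S.moduleCatHomologyIso
  refine ⟨e1 ≪≫ e2 ≪≫ LinearEquiv.toModuleIso ?_⟩
  have hker : LinearMap.ker S.g.hom = LinearMap.ker (K.d q (q + 1)).hom := ker_scale x K q hreg
  refine Submodule.Quotient.equiv _ _ (LinearEquiv.ofEq _ _ hker) ?_
  ext ⟨z, hz⟩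
  simp only [Submodule.mem_map, Submodule.mem_comap, Submodule.subtype_apply, LinearMap.mem_range]
  rw [Submodule.ideal_span_singleton_smul, Submodule.mem_smul_pointwise_iff_exists]
  constructor
  · rintro ⟨⟨y, hy⟩, ⟨w, hw⟩, hyz⟩
    refine ⟨(K.d (q - 1) q).hom w, ⟨w, rfl⟩, ?_⟩
    have h1 : y = z := congrArg Subtype.val hyz
    have h2 : x • (K.d (q - 1) q).hom w = y := congrArg Subtype.val hw
    rw [h2, h1]
  · rintro ⟨n, ⟨w, rfl⟩, hn⟩
    refine ⟨⟨z, by rw [hker]; exact hz⟩, ⟨w, ?_⟩, rfl⟩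
    apply Subtype.ext
    exact hn

end Homology

lemma single_regular (x : A) (hx : x ∈ nonZeroDivisors A) (i : ℤ)
    (w : ((HomologicalComplex.single (ModuleCat.{u} A) (ComplexShape.up ℤ) 0).obj
      (ModuleCat.of A A)).X i) (hw : x • w = 0) : w = 0 := by
  by_cases hi : i = 0
  · subst hi
    let e := (HomologicalComplex.singleObjXSelf (ComplexShape.up ℤ) 0
      (ModuleCat.of A A)).toLinearEquiv
    have h1 : x • e w = 0 := by rw [← map_smul, hw, map_zero]
    have h2 : e w = 0 := by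
      have h3 : e w * x = 0 := by rw [mul_comm]; exact h1
      exact (mem_nonZeroDivisors_iff_right.1 hx) _ h3
    exact e.injective (h2.trans (map_zero e).symm)
  · have hz : IsZero (((HomologicalComplex.single (ModuleCat.{u} A) (ComplexShape.up ℤ) 0).obj
      (ModuleCat.of A A)).X i) := HomologicalComplex.isZero_single_obj_X _ _ _ _ hi
    have : Subsingleton (((HomologicalComplex.single (ModuleCat.{u} A) (ComplexShape.up ℤ) 0).obj
      (ModuleCat.of A A)).X i) := ModuleCat.subsingleton_of_isZero hz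
    exact Subsingleton.elim _ _

lemma cone_regular (x : A) {F G : CochainComplex (ModuleCat.{u} A) ℤ} (φ : F ⟶ G) (i : ℤ)
    (hF : ∀ w : F.X (i + 1), x • w = 0 → w = 0) (hG : ∀ w : G.X i, x • w = 0 → w = 0)
    (w : (mappingCone φ).X i) (hw : x • w = 0) : w = 0 := by
  apply cone_ext φ i (i + 1) rfl
  · rw [map_zero]
    apply hF
    rw [← map_smul, hw, map_zero]
  · rw [map_zero]
    apply hG
    rw [← map_smul, hw, map_zero]

theorem koszul_regular (x : A) (hx : x ∈ nonZeroDivisors A) (l : List A) :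
    ∀ (i : ℤ) (w : (Koszul.koszul A l).X i), x • w = 0 → w = 0 := by
  induction l with
  | nil =>
    intro i w hw
    exact single_regular x hx i w hw
  | cons z l ih =>
    intro i w hw
    exact cone_regular x (z • 𝟙 (Koszul.koszul A l)) i (ih (i + 1)) (ih i) w hw

theorem koszul_scale_homology (x : A) (hx : x ∈ nonZeroDivisors A) (l : List A) (q : ℤ) :
    Nonempty ((Koszul.koszul A (l.map (fun f => x * f))).homology q ≅
      ModuleCat.of A (↥(LinearMap.ker ((Koszul.koszul A l).d q (q + 1)).hom) ⧸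
        Submodule.comap (LinearMap.ker ((Koszul.koszul A l).d q (q + 1)).hom).subtype
          (Ideal.span {x} • LinearMap.range ((Koszul.koszul A l).d (q - 1) q).hom))) := by
  obtain ⟨e⟩ := koszul_scale_iso x l
  obtain ⟨e'⟩ := scale_homology_iso x (Koszul.koszul A l) q (koszul_regular x hx l (q + 1))
  exact ⟨(HomologicalComplex.homologyFunctor _ _ q).mapIso e ≪≫ e'⟩

end Helper14.KoszulScale
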