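import Groth.Agent.Lib.Helper14.KoszulScale
import Groth.Agent.Lib.Helper98.KoszulLES
import Mathlib

set_option autoImplicit false
universe u
open CategoryTheory CategoryTheory.Limits HomologicalComplex CochainComplex HomComplex
open scoped Pointwise TensorProduct

namespace Helper14.KoszulScale

variable {A : Type u} [CommRing A]

lemma comap_subtype_smul {M : Type u} [AddCommGroup M] [Module A M] (N : Submodule A M)
    (I : Ideal A) : Submodule.comap N.subtype (I • N) = I • (⊤ : Submodule A N) := by
  have h : Submodule.map N.subtype (I • (⊤ : Submodule A N)) = I • N := by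
    rw [Submodule.map_smul'', Submodule.map_subtype_top]
  rw [← h, Submodule.comap_map_eq_of_injective N.subtype_injective]

theorem range_eq_ker_of_isZero (K : CochainComplex (ModuleCat.{u} A) ℤ) (q : ℤ)
    (h : IsZero (K.homology q)) :
    LinearMap.range (K.d (q - 1) q).hom = LinearMap.ker (K.d q (q + 1)).hom := by
  rw [← HomologicalComplex.exactAt_iff_isZero_homology,
    HomologicalComplex.exactAt_iff' _ (q - 1) q (q + 1) (by simp) (by simp)] at h
  exact (ShortComplex.moduleCat_exact_iff_range_eq_ker _).1 h

theorem koszul_scale_homology_regular (l : List A)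
    (hl : RingTheory.Sequence.IsWeaklyRegular A l) (x : A) (hx : x ∈ nonZeroDivisors A) (q : ℤ)
    (hq : q < 0) :
    Nonempty ((Koszul.koszul A (l.map (fun f => x * f))).homology q ≅
      ModuleCat.of A (↥(LinearMap.ker ((Koszul.koszul A l).d q (q + 1)).hom) ⊗[A]
        (A ⧸ Ideal.span {x}))) := by
  obtain ⟨e⟩ := koszul_scale_homology x hx l q
  have hz := (Helper98.KoszulLES.koszul_of_weaklyRegular l hl).1 q (by omega)
  have hr := range_eq_ker_of_isZero (Koszul.koszul A l) q hz
  refine ⟨e ≪≫ LinearEquiv.toModuleIso ?_⟩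
  refine Submodule.quotEquivOfEq _ _ ?_ ≪≫ₗ
    (TensorProduct.tensorQuotEquivQuotSMul
      (↥(LinearMap.ker ((Koszul.koszul A l).d q (q + 1)).hom)) (Ideal.span {x})).symm
  rw [hr, comap_subtype_smul]

end Helper14.KoszulScale
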