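import Mathlib

namespace Groth.Agent.Lib.Helper14.KrullAkizuki

open Module

section General

variable {R : Type*} [CommRing R]

theorem length_le_add_of_exact {A B C : Type*} [AddCommGroup A] [AddCommGroup B] [AddCommGroup C]
    [Module R A] [Module R B] [Module R C] (f : A →ₗ[R] B) (g : B →ₗ[R] C)
    (hg : Function.Surjective g) (H : Function.Exact f g) :
    Module.length R B ≤ Module.length R A + Module.length R C := by
  rw [Module.length_eq_add_of_exact (LinearMap.ker g).subtype g (Submodule.subtype_injective _) hg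
    (LinearMap.exact_subtype_ker_map g)]
  gcongr
  rw [LinearMap.exact_iff.mp H]
  exact Module.length_le_of_surjective f.rangeRestrict f.surjective_rangeRestrict

abbrev xs (x : R) (M : Type*) [AddCommGroup M] [Module R M] : Submodule R M :=
  Ideal.span ({x} : Set R) • (⊤ : Submodule R M)

theorem mem_xs {x : R} {M : Type*} [AddCommGroup M] [Module R M] {m : M} :
    m ∈ xs x M ↔ ∃ m' : M, x • m' = m := by
  rw [xs, Submodule.ideal_span_singleton_smul, Submodule.mem_smul_pointwise_iff_exists]
  simp

theorem smul_mem_xs (x : R) {M : Type*} [AddCommGroup M] [Module R M] (m : M) :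
    x • m ∈ xs x M := mem_xs.2 ⟨m, rfl⟩

theorem xs_le_comap (x : R) {M N : Type*} [AddCommGroup M] [Module R M] [AddCommGroup N]
    [Module R N] (f : M →ₗ[R] N) : xs x M ≤ (xs x N).comap f := by
  intro m hm
  obtain ⟨m', rfl⟩ := mem_xs.1 hm
  rw [Submodule.mem_comap, map_smul]
  exact smul_mem_xs x _

noncomputable abbrev qmap (x : R) {M N : Type*} [AddCommGroup M] [Module R M] [AddCommGroup N]
    [Module R N] (f : M →ₗ[R] N) : (M ⧸ xs x M) →ₗ[R] (N ⧸ xs x N) :=
  Submodule.mapQ _ _ f (xs_le_comap x f)

theorem length_quot_le_of_exact (x : R) {M' M M'' : Type*} [AddCommGroup M'] [Module R M']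
    [AddCommGroup M] [Module R M] [AddCommGroup M''] [Module R M'']
    (f : M' →ₗ[R] M) (g : M →ₗ[R] M'') (hg : Function.Surjective g) (H : Function.Exact f g) :
    Module.length R (M ⧸ xs x M) ≤
      Module.length R (M' ⧸ xs x M') + Module.length R (M'' ⧸ xs x M'') := by
  refine length_le_add_of_exact (qmap x f) (qmap x g) ?_ ?_
  · intro q
    obtain ⟨m'', rfl⟩ := Submodule.Quotient.mk_surjective _ q
    obtain ⟨m, rfl⟩ := hg m''
    exact ⟨Submodule.Quotient.mk m, by simp [qmap]⟩
  · intro q
    obtain ⟨m, rfl⟩ := Submodule.Quotient.mk_surjective _ q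
    constructor
    · intro h
      rw [Submodule.mapQ_apply, Submodule.Quotient.mk_eq_zero] at h
      obtain ⟨m₁'', hm₁⟩ := mem_xs.1 h
      obtain ⟨m₁, rfl⟩ := hg m₁''
      have : g (m - x • m₁) = 0 := by rw [map_sub, map_smul, hm₁, sub_self]
      obtain ⟨m', hm'⟩ := (H _).1 this
      refine ⟨Submodule.Quotient.mk m', ?_⟩
      rw [Submodule.mapQ_apply, hm', Submodule.Quotient.mk_sub, sub_eq_self,
        Submodule.Quotient.mk_eq_zero]
      exact smul_mem_xs x _
    · rintro ⟨q', hq'⟩
      obtain ⟨m', rfl⟩ := Submodule.Quotient.mk_surjective _ q'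
      rw [← hq', Submodule.mapQ_apply, Submodule.mapQ_apply, (H _).2 ⟨m', rfl⟩]
      simp

theorem length_le_of_forall_fg {Q : Type*} [AddCommGroup Q] [Module R Q] (c : ℕ∞)
    (h : ∀ N : Submodule R Q, N.FG → Module.length R N ≤ c) : Module.length R Q ≤ c := by
  induction c using ENat.recTopCoe with
  | top => exact le_top
  | coe n =>
    have key : ∀ k : ℕ, ∃ N : Submodule R Q, N.FG ∧ (N = ⊤ ∨ (k : ℕ∞) ≤ Module.length R N) := by
      intro k
      induction k with
      | zero => exact ⟨⊥, Submodule.fg_bot, Or.inr (by simp)⟩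
      | succ k ih =>
        obtain ⟨N, hN, hN'⟩ := ih
        rcases hN' with rfl | hk
        · exact ⟨⊤, hN, Or.inl rfl⟩
        · by_cases hNt : N = ⊤
          · exact ⟨N, hN, Or.inl hNt⟩
          · obtain ⟨q, -, hq⟩ := SetLike.exists_of_lt (lt_top_iff_ne_top.2 hNt)
            refine ⟨N ⊔ Submodule.span R {q}, hN.sup (Submodule.fg_span_singleton q), Or.inr ?_⟩
            have hlt : N < N ⊔ Submodule.span R {q} := by
              refine lt_of_le_of_ne le_sup_left fun h => hq ?_
              rw [h]
              exact Submodule.mem_sup_right (Submodule.mem_span_singleton_self q)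
            rw [Module.length_submodule] at hk ⊢
            calc ((k + 1 : ℕ) : ℕ∞) = (k : ℕ∞) + 1 := by simp
              _ ≤ Order.height N + 1 := by gcongr
              _ ≤ _ := Order.height_add_one_le hlt
    obtain ⟨N, hN, hN'⟩ := key (n + 1)
    rcases hN' with rfl | hk
    · rw [← Module.length_top]
      exact h ⊤ hN
    · exfalso
      have := hk.trans (h N hN)
      have : ((n + 1 : ℕ) : ℕ∞) ≤ n := this
      rw [Nat.cast_le] at this
      omega

end General

section DimOne

variable {R : Type*} [CommRing R] [IsDomain R] [IsNoetherianRing R] [Ring.KrullDimLE 1 R]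

theorem isArtinianRing_quotient (I : Ideal R) (hI : I ≠ ⊥) : IsArtinianRing (R ⧸ I) := by
  rw [isArtinianRing_iff_krullDimLE_zero, Ideal.krullDimLE_zero_quotient_iff_forall_minimalPrimes_isMaximal]
  intro J hJ
  have hJp : J.IsPrime := hJ.1.1
  refine hJp.isMaximal_of_ne_bot ?_
  rintro rfl
  exact hI (le_bot_iff.1 hJ.1.2)

theorem isFiniteLength_quotient (I : Ideal R) (hI : I ≠ ⊥) : IsFiniteLength R (R ⧸ I) := by
  rw [isFiniteLength_iff_isNoetherian_isArtinian]
  have := isArtinianRing_quotient I hI
  exact ⟨inferInstance, isArtinian_of_surjective_algebraMap (R := R ⧸ I) (S := R)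
    Ideal.Quotient.mk_surjective⟩

theorem length_quotient_ne_top (I : Ideal R) (hI : I ≠ ⊥) : Module.length R (R ⧸ I) ≠ ⊤ :=
  Module.length_ne_top_iff.2 (isFiniteLength_quotient I hI)

theorem length_quotient_span_ne_top {x : R} (hx : x ≠ 0) :
    Module.length R (R ⧸ Ideal.span ({x} : Set R)) ≠ ⊤ :=
  length_quotient_ne_top _ (by simpa using hx)

theorem length_ideal_quot_eq (I : Ideal R) (hI : I ≠ ⊥) {x : R} (hx : x ≠ 0) :
    Module.length R (I ⧸ xs x I) = Module.length R (R ⧸ Ideal.span ({x} : Set R)) := by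
  set xI : Ideal R := Ideal.span {x} * I with hxI
  have hmem : ∀ y : R, y ∈ xI ↔ ∃ z ∈ I, x * z = y := fun y => Ideal.mem_span_singleton_mul
  have hxI_le : xI ≤ I := Ideal.mul_le_right
  have hxI_le' : xI ≤ Ideal.span {x} := Ideal.mul_le_left
  have h1 : xs x I ≤ Submodule.comap I.subtype xI := by
    intro i hi
    obtain ⟨j, rfl⟩ := mem_xs.1 hi
    exact (hmem _).2 ⟨j, j.2, rfl⟩
  let f₁ : (I ⧸ xs x I) →ₗ[R] (R ⧸ xI) := Submodule.mapQ _ _ I.subtype h1
  let g₁ : (R ⧸ xI) →ₗ[R] (R ⧸ I) := Submodule.mapQ _ _ LinearMap.id hxI_le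
  have hf₁ : Function.Injective f₁ := by
    rw [injective_iff_map_eq_zero]
    intro q hq
    obtain ⟨i, rfl⟩ := Submodule.Quotient.mk_surjective _ q
    rw [Submodule.mapQ_apply, Submodule.Quotient.mk_eq_zero] at hq
    obtain ⟨z, hz, hzi⟩ := (hmem _).1 hq
    rw [Submodule.Quotient.mk_eq_zero]
    exact mem_xs.2 ⟨⟨z, hz⟩, Subtype.ext (by simpa using hzi)⟩
  have hg₁ : Function.Surjective g₁ := by
    intro q
    obtain ⟨r, rfl⟩ := Submodule.Quotient.mk_surjective _ q
    exact ⟨Submodule.Quotient.mk r, rfl⟩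
  have H₁ : Function.Exact f₁ g₁ := by
    intro q
    obtain ⟨r, rfl⟩ := Submodule.Quotient.mk_surjective _ q
    constructor
    · intro h
      rw [Submodule.mapQ_apply, Submodule.Quotient.mk_eq_zero] at h
      exact ⟨Submodule.Quotient.mk ⟨r, h⟩, rfl⟩
    · rintro ⟨q', hq'⟩
      obtain ⟨i, rfl⟩ := Submodule.Quotient.mk_surjective _ q'
      rw [← hq', Submodule.mapQ_apply, Submodule.mapQ_apply, Submodule.Quotient.mk_eq_zero]
      exact i.2
  have h2 : (I : Submodule R R) ≤ Submodule.comap (LinearMap.lsmul R R x) xI := by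
    intro i hi
    exact (hmem _).2 ⟨i, hi, rfl⟩
  let f₂ : (R ⧸ I) →ₗ[R] (R ⧸ xI) := Submodule.mapQ _ _ (LinearMap.lsmul R R x) h2
  let g₂ : (R ⧸ xI) →ₗ[R] (R ⧸ Ideal.span ({x} : Set R)) := Submodule.mapQ _ _ LinearMap.id hxI_le'
  have hf₂ : Function.Injective f₂ := by
    rw [injective_iff_map_eq_zero]
    intro q hq
    obtain ⟨r, rfl⟩ := Submodule.Quotient.mk_surjective _ q
    rw [Submodule.mapQ_apply, Submodule.Quotient.mk_eq_zero] at hq
    obtain ⟨z, hz, hzi⟩ := (hmem _).1 hq
    rw [Submodule.Quotient.mk_eq_zero]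
    have : z = r := mul_left_cancel₀ hx (by simpa using hzi)
    exact this ▸ hz
  have hg₂ : Function.Surjective g₂ := by
    intro q
    obtain ⟨r, rfl⟩ := Submodule.Quotient.mk_surjective _ q
    exact ⟨Submodule.Quotient.mk r, rfl⟩
  have H₂ : Function.Exact f₂ g₂ := by
    intro q
    obtain ⟨r, rfl⟩ := Submodule.Quotient.mk_surjective _ q
    constructor
    · intro h
      rw [Submodule.mapQ_apply, Submodule.Quotient.mk_eq_zero] at h
      obtain ⟨z, rfl⟩ := Ideal.mem_span_singleton'.1 h
      refine ⟨Submodule.Quotient.mk z, ?_⟩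
      change Submodule.Quotient.mk (x • z) = Submodule.Quotient.mk (z * x)
      rw [smul_eq_mul, mul_comm]
    · rintro ⟨q', hq'⟩
      obtain ⟨z, rfl⟩ := Submodule.Quotient.mk_surjective _ q'
      rw [← hq', Submodule.mapQ_apply, Submodule.mapQ_apply, Submodule.Quotient.mk_eq_zero]
      exact Ideal.mem_span_singleton'.2 ⟨z, by simp [mul_comm]⟩
  have e₁ := Module.length_eq_add_of_exact f₁ g₁ hf₁ hg₁ H₁
  have e₂ := Module.length_eq_add_of_exact f₂ g₂ hf₂ hg₂ H₂
  rw [e₁, add_comm] at e₂
  exact ENat.add_right_injective_of_ne_top (length_quotient_ne_top I hI) e₂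

end DimOne

section General

variable {R : Type*} [CommRing R]

theorem length_quot_le_of_surjective (x : R) {M N : Type*} [AddCommGroup M] [Module R M]
    [AddCommGroup N] [Module R N] (f : M →ₗ[R] N) (hf : Function.Surjective f) :
    Module.length R (N ⧸ xs x N) ≤ Module.length R (M ⧸ xs x M) := by
  refine Module.length_le_of_surjective (qmap x f) ?_
  intro q
  obtain ⟨n, rfl⟩ := Submodule.Quotient.mk_surjective _ q
  obtain ⟨m, rfl⟩ := hf n
  exact ⟨Submodule.Quotient.mk m, rfl⟩

end General

section DimOne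

variable {R : Type*} [CommRing R] [IsDomain R] [IsNoetherianRing R] [Ring.KrullDimLE 1 R]
variable {K : Type*} [Field K] [Algebra R K] [IsFractionRing R K]

theorem length_quot_le_of_finite_of_injective_rank_one {x : R} (hx : x ≠ 0)
    {M : Type*} [AddCommGroup M] [Module R M] [Module.Finite R M]
    (f : M →ₗ[R] K) (hf : Function.Injective f) :
    Module.length R (M ⧸ xs x M) ≤ Module.length R (R ⧸ Ideal.span ({x} : Set R)) := by
  classical
  obtain ⟨S, hS⟩ := (Module.finite_def.1 ‹Module.Finite R M›)
  obtain ⟨b, hb⟩ := IsLocalization.exist_integer_multiples_of_finset (nonZeroDivisors R) (S.image f)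
  have hb0 : (b : R) ≠ 0 := nonZeroDivisors.coe_ne_zero b
  have hinj : Function.Injective (Algebra.linearMap R K) := IsFractionRing.injective R K
  have hmem : ∀ m : M, (b : R) • f m ∈ LinearMap.range (Algebra.linearMap R K) := by
    intro m
    have hm : m ∈ Submodule.span R (S : Set M) := hS ▸ Submodule.mem_top
    induction hm using Submodule.span_induction with
    | mem m hm =>
      obtain ⟨r, hr⟩ := hb (f m) (Finset.mem_image_of_mem f hm)
      exact ⟨r, hr⟩
    | zero => simp
    | add m₁ m₂ _ _ h₁ h₂ =>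
      rw [map_add, smul_add]
      exact Submodule.add_mem _ h₁ h₂
    | smul a m _ h =>
      rw [map_smul, smul_comm]
      exact Submodule.smul_mem _ _ h
  let g₀ : M →ₗ[R] LinearMap.range (Algebra.linearMap R K) :=
    LinearMap.codRestrict _ ((b : R) • f) hmem
  let g : M →ₗ[R] R := (LinearEquiv.ofInjective (Algebra.linearMap R K) hinj).symm.toLinearMap ∘ₗ g₀
  have hg : Function.Injective g := by
    refine (LinearEquiv.injective (LinearEquiv.ofInjective (Algebra.linearMap R K) hinj).symm).comp ?_
    intro m₁ m₂ h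
    have h' : (b : R) • f m₁ = (b : R) • f m₂ := congrArg Subtype.val h
    rw [Algebra.smul_def, Algebra.smul_def] at h'
    have hb' : algebraMap R K b ≠ 0 := by
      rwa [Ne, map_eq_zero_iff _ (IsFractionRing.injective R K)]
    exact hf (mul_left_cancel₀ hb' h')
  let I : Ideal R := LinearMap.range g
  let e : M ≃ₗ[R] I := LinearEquiv.ofInjective g hg
  by_cases hI : I = ⊥
  · have : Subsingleton M := by
      refine ⟨fun a b => hg ?_⟩
      have ha : g a ∈ I := ⟨a, rfl⟩
      have hb : g b ∈ I := ⟨b, rfl⟩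
      rw [hI, Ideal.mem_bot] at ha hb
      rw [ha, hb]
    rw [Module.length_eq_zero]
    exact zero_le
  · rw [← length_ideal_quot_eq I hI hx]
    exact length_quot_le_of_surjective x e.symm.toLinearMap e.symm.surjective

theorem length_quot_le_of_injective_rank_one {x : R} (hx : x ≠ 0)
    {M : Type*} [AddCommGroup M] [Module R M]
    (f : M →ₗ[R] K) (hf : Function.Injective f) :
    Module.length R (M ⧸ xs x M) ≤ Module.length R (R ⧸ Ideal.span ({x} : Set R)) := by
  classical
  refine length_le_of_forall_fg _ fun N hN => ?_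
  obtain ⟨T, hT⟩ := hN
  let S : Finset M := T.image (Function.surjInv (Submodule.Quotient.mk_surjective (xs x M)))
  let M₁ : Submodule R M := Submodule.span R (S : Set M)
  have : Module.Finite R M₁ := Module.Finite.span_finset R S
  let φ : (M₁ ⧸ xs x M₁) →ₗ[R] (M ⧸ xs x M) := qmap x M₁.subtype
  have hle : N ≤ LinearMap.range φ := by
    rw [← hT, Submodule.span_le]
    intro q hq
    have hq' : Function.surjInv (Submodule.Quotient.mk_surjective (xs x M)) q ∈ M₁ :=
      Submodule.subset_span (Finset.mem_coe.2 (Finset.mem_image_of_mem _ hq))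
    refine ⟨Submodule.Quotient.mk ⟨_, hq'⟩, ?_⟩
    rw [Submodule.mapQ_apply]
    exact Function.surjInv_eq (Submodule.Quotient.mk_surjective (xs x M)) q
  calc Module.length R N ≤ Module.length R (LinearMap.range φ) :=
        Module.length_le_of_injective (Submodule.inclusion hle) (Submodule.inclusion_injective hle)
    _ ≤ Module.length R (M₁ ⧸ xs x M₁) :=
        Module.length_le_of_surjective φ.rangeRestrict φ.surjective_rangeRestrict
    _ ≤ _ := length_quot_le_of_finite_of_injective_rank_one hx (f ∘ₗ M₁.subtype)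
        (hf.comp (Submodule.subtype_injective _))

theorem length_quot_le_of_injective {x : R} (hx : x ≠ 0) (r : ℕ)
    {M : Type*} [AddCommGroup M] [Module R M]
    (f : M →ₗ[R] (Fin r → K)) (hf : Function.Injective f) :
    Module.length R (M ⧸ xs x M) ≤ (r : ℕ∞) * Module.length R (R ⧸ Ideal.span ({x} : Set R)) := by
  induction r generalizing M with
  | zero =>
    have : Subsingleton M := hf.subsingleton
    rw [Module.length_eq_zero]
    exact zero_le
  | succ r ih =>
    let π : (Fin (r + 1) → K) →ₗ[R] K := LinearMap.proj (Fin.last r)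
    let ι : (Fin (r + 1) → K) →ₗ[R] (Fin r → K) := LinearMap.funLeft R K Fin.castSucc
    let g : M →ₗ[R] K := π ∘ₗ f
    have h1 := length_quot_le_of_exact x (LinearMap.ker g).subtype g.rangeRestrict
      g.surjective_rangeRestrict (by
        intro m
        constructor
        · intro h
          have : g m = 0 := congrArg Subtype.val h
          exact ⟨⟨m, this⟩, rfl⟩
        · rintro ⟨m', rfl⟩
          exact Subtype.ext m'.2)
    have h2 : Module.length R (LinearMap.range g ⧸ xs x (LinearMap.range g)) ≤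
        Module.length R (R ⧸ Ideal.span ({x} : Set R)) :=
      length_quot_le_of_injective_rank_one hx (LinearMap.range g).subtype
        (Submodule.subtype_injective _)
    have h3 : Module.length R (LinearMap.ker g ⧸ xs x (LinearMap.ker g)) ≤
        (r : ℕ∞) * Module.length R (R ⧸ Ideal.span ({x} : Set R)) := by
      refine ih (ι ∘ₗ f ∘ₗ (LinearMap.ker g).subtype) ?_
      rw [injective_iff_map_eq_zero]
      intro m hm
      have hm' : f m.1 = 0 := by
        funext i
        refine Fin.lastCases ?_ (fun j => ?_) i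
        · exact m.2
        · exact congrFun hm j
      exact Subtype.ext (hf (by rw [hm', Submodule.coe_zero, map_zero]))
    calc Module.length R (M ⧸ xs x M)
        ≤ Module.length R (LinearMap.ker g ⧸ xs x (LinearMap.ker g)) +
          Module.length R (LinearMap.range g ⧸ xs x (LinearMap.range g)) := h1
      _ ≤ (r : ℕ∞) * Module.length R (R ⧸ Ideal.span ({x} : Set R)) +
          Module.length R (R ⧸ Ideal.span ({x} : Set R)) := add_le_add h3 h2
      _ = ((r + 1 : ℕ) : ℕ∞) * Module.length R (R ⧸ Ideal.span ({x} : Set R)) := by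
        push_cast
        rw [add_mul, one_mul]

theorem length_quot_ne_top_of_injective {x : R} (hx : x ≠ 0) (r : ℕ)
    {M : Type*} [AddCommGroup M] [Module R M]
    (f : M →ₗ[R] (Fin r → K)) (hf : Function.Injective f) :
    Module.length R (M ⧸ xs x M) ≠ ⊤ := by
  refine ne_top_of_le_ne_top ?_ (length_quot_le_of_injective hx r f hf)
  exact WithTop.mul_ne_top (ENat.natCast_ne_top r) (length_quotient_span_ne_top hx)

end DimOne

end Groth.Agent.Lib.Helper14.KrullAkizuki
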