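import Groth.Agent.Lib.Helper14.KrullAkizuki

namespace Groth.Agent.Lib.Helper14.KrullAkizuki

open Module

section Thm

variable (R : Type*) [CommRing R] [IsDomain R] [IsNoetherianRing R] [Ring.KrullDimLE 1 R]
variable (K L : Type*) [Field K] [Field L] [Algebra R K] [IsFractionRing R K] [Algebra K L]
  [FiniteDimensional K L] [Algebra R L] [IsScalarTower R K L]
variable {A : Type*} [CommRing A] [Algebra R A] [Algebra A L] [IsScalarTower R A L]

include R K L in
theorem isFiniteLength_quot_xs (hA : Function.Injective (algebraMap A L)) {a : R} (ha : a ≠ 0) :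
    IsFiniteLength R (A ⧸ xs a A) := by
  rw [← Module.length_ne_top_iff]
  let b := Module.finBasis K L
  let ψ : A →ₗ[R] (Fin (Module.finrank K L) → K) :=
    (b.equivFun.restrictScalars R).toLinearMap ∘ₗ (IsScalarTower.toAlgHom R A L).toLinearMap
  refine length_quot_ne_top_of_injective ha _ ψ ?_
  exact (b.equivFun.restrictScalars R).injective.comp hA

include R K L in
theorem isFiniteLength_quotient_of_mem (hA : Function.Injective (algebraMap A L)) (J : Ideal A)
    {a : R} (ha : a ≠ 0) (haJ : algebraMap R A a ∈ J) : IsFiniteLength R (A ⧸ J) := by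
  have h := isFiniteLength_quot_xs R K L hA ha
  have hle : xs a A ≤ LinearMap.ker (Ideal.Quotient.mkₐ R J).toLinearMap := by
    intro m hm
    obtain ⟨m', rfl⟩ := mem_xs.1 hm
    rw [LinearMap.mem_ker, AlgHom.toLinearMap_apply, Ideal.Quotient.mkₐ_eq_mk,
      Ideal.Quotient.eq_zero_iff_mem, Algebra.smul_def]
    exact J.mul_mem_right _ haJ
  refine IsFiniteLength.of_surjective h (f := Submodule.liftQ _ _ hle) ?_
  intro q
  obtain ⟨m, rfl⟩ := Ideal.Quotient.mk_surjective q
  exact ⟨Submodule.Quotient.mk m, rfl⟩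

omit [IsNoetherianRing R] [Ring.KrullDimLE 1 R] in
include R K L in
theorem isAlgebraic_of_injective (hA : Function.Injective (algebraMap A L)) :
    Algebra.IsAlgebraic R A := by
  have := IsLocalization.isAlgebraic K (nonZeroDivisors R)
  have := Algebra.IsAlgebraic.trans R K L
  exact ⟨fun x => (isAlgebraic_algebraMap_iff hA).1 (Algebra.IsAlgebraic.isAlgebraic _)⟩

omit [IsNoetherianRing R] [Ring.KrullDimLE 1 R] in
include R K L in
theorem exists_ne_zero_mem (hA : Function.Injective (algebraMap A L)) (J : Ideal A) (hJ : J ≠ ⊥) :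
    ∃ a : R, a ≠ 0 ∧ algebraMap R A a ∈ J := by
  have : IsDomain A := hA.isDomain (algebraMap A L)
  have := isAlgebraic_of_injective R K L hA
  obtain ⟨b, hbJ, hb0⟩ := Submodule.exists_mem_ne_zero_of_ne_bot hJ
  obtain ⟨a, ha, hdvd⟩ := (Algebra.IsAlgebraic.isAlgebraic (R := R) b).exists_nonzero_dvd
    (mem_nonZeroDivisors_of_ne_zero hb0)
  exact ⟨a, ha, J.mem_of_dvd hdvd hbJ⟩

include R K L in
theorem isFiniteLength_quotient' (hA : Function.Injective (algebraMap A L)) (J : Ideal A)
    (hJ : J ≠ ⊥) : IsFiniteLength R (A ⧸ J) := by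
  obtain ⟨a, ha, haJ⟩ := exists_ne_zero_mem R K L hA J hJ
  exact isFiniteLength_quotient_of_mem R K L hA J ha haJ

include R K L in
theorem isNoetherianRing_of_injective (hA : Function.Injective (algebraMap A L)) :
    IsNoetherianRing A := by
  rw [isNoetherianRing_iff_ideal_fg]
  intro J
  by_cases hJ : J = ⊥
  · rw [hJ]; exact Submodule.fg_bot
  obtain ⟨a, ha, haJ⟩ := exists_ne_zero_mem R K L hA J hJ
  set J₀ : Ideal A := Ideal.span {algebraMap R A a} with hJ₀
  have hfl := isFiniteLength_quotient_of_mem R K L hA J₀ ha (Ideal.mem_span_singleton_self _)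
  have hN : IsNoetherian R (A ⧸ J₀) := (isFiniteLength_iff_isNoetherian_isArtinian.1 hfl).1
  have hN' : IsNoetherian A (A ⧸ J₀) := isNoetherian_of_tower R hN
  refine Submodule.fg_of_fg_map_of_fg_inf_ker (Submodule.mkQ J₀) (hN'.noetherian _) ?_
  rw [Submodule.ker_mkQ, inf_eq_right.2 ((Ideal.span_singleton_le_iff_mem J).2 haJ)]
  exact ⟨{algebraMap R A a}, by simp⟩

include R K L in
theorem krullDimLE_one_of_injective (hA : Function.Injective (algebraMap A L)) :
    Ring.KrullDimLE 1 A := by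
  have : IsDomain A := hA.isDomain (algebraMap A L)
  refine Ring.KrullDimLE.mk₁' fun Q hQ hQp => ?_
  have hfl := isFiniteLength_quotient' R K L hA Q hQ
  have hArt : IsArtinian R (A ⧸ Q) := (isFiniteLength_iff_isNoetherian_isArtinian.1 hfl).2
  have : IsArtinianRing (A ⧸ Q) := isArtinian_of_tower R hArt
  have : IsDomain (A ⧸ Q) := (Ideal.Quotient.isDomain_iff_prime Q).2 hQp
  exact Ideal.Quotient.maximal_of_isField Q (IsArtinianRing.isField_of_isDomain (A ⧸ Q))

end Thm

section Primes

theorem finite_setOf_isPrime_mem {A : Type*} [CommRing A] [IsDomain A] [IsNoetherianRing A]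
    [Ring.KrullDimLE 1 A] {x : A} (hx : x ≠ 0) : {Q : Ideal A | Q.IsPrime ∧ x ∈ Q}.Finite := by
  refine (Ideal.finite_minimalPrimes_of_isNoetherianRing A (Ideal.span {x})).subset ?_
  rintro Q ⟨hQ, hxQ⟩
  obtain ⟨Q', hQ', hle⟩ := Ideal.exists_minimalPrimes_le
    ((Ideal.span_singleton_le_iff_mem Q).2 hxQ)
  have hQ'p : Q'.IsPrime := hQ'.1.1
  have hxQ' : x ∈ Q' := hQ'.1.2 (Ideal.mem_span_singleton_self x)
  have hmax : Q'.IsMaximal := hQ'p.isMaximal_of_ne_bot (by rintro rfl; exact hx (by simpa using hxQ'))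
  rwa [← hmax.eq_of_le hQ.ne_top hle]

end Primes

end Groth.Agent.Lib.Helper14.KrullAkizuki
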