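import Groth.Prelude.Def_LogNCD
import Groth.Agent.Lib.Helper48.Conormal1

set_option autoImplicit false
universe u
open CategoryTheory CategoryTheory.Limits AlgebraicGeometry Opposite TopologicalSpace

namespace Groth.Agent.Lib.Helper14.LogResSES

variable {X S : Scheme.{u}}

theorem prod_ext {r : ℕ} (N : Fin r → X.Modules) (U : X.Opens) (s t : Γ(∏ᶜ N, U))
    (h : ∀ j, (Pi.π N j).app U s = (Pi.π N j).app U t) : s = t := by
  have h0 : PreservesLimitsOfShape (Discrete (Fin r))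
      ((evaluation (X.Opens)ᵒᵖ Ab.{u}).obj (op U)) := evaluation_preservesLimitsOfShape _
  have h2 : PreservesLimitsOfShape (Discrete (Fin r))
      (Scheme.Modules.toPresheaf X ⋙ (evaluation (X.Opens)ᵒᵖ Ab.{u}).obj (op U)) :=
    inferInstance
  have hl : IsLimit ((Scheme.Modules.toPresheaf X ⋙
      (evaluation (X.Opens)ᵒᵖ Ab.{u}).obj (op U)).mapCone (limit.cone (Discrete.functor N))) :=
    isLimitOfPreserves _ (limit.isLimit _)
  refine Concrete.isLimit_ext _ hl s t ?_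
  rintro ⟨j⟩
  exact h j

theorem ideal_eq_top_of_disjoint (I : X.IdealSheafData) (U : X.affineOpens)
    (h : ∀ y ∈ U.1, y ∉ I.support) : I.ideal U = ⊤ := by
  have h1 : U.2.fromSpec '' PrimeSpectrum.zeroLocus (I.ideal U : Set Γ(X, U.1)) = ∅ := by
    rw [U.2.fromSpec_image_zeroLocus]
    rw [Set.eq_empty_iff_forall_notMem]
    rintro y ⟨hy1, hy2⟩
    exact h y hy2 ((I.mem_support_iff_of_mem hy2).mpr hy1)
  rw [Set.image_eq_empty] at h1
  exact PrimeSpectrum.zeroLocus_empty_iff_eq_top.mp h1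

def Good {r : ℕ} (D : Fin r → X.IdealSheafData) (U : X.Opens) : Prop :=
  ∃ hU : IsAffineOpen U, ∃ g : Fin r → Γ(X, U), ∀ i, (D i).ideal ⟨U, hU⟩ = Ideal.span {g i}

theorem isBasis_good {r : ℕ} (D : Fin r → X.IdealSheafData) (f : X ⟶ S)
    (hD : LogNCD.IsNCD D f) : Opens.IsBasis {U : X.Opens | Good D U} := by
  classical
  rw [Opens.isBasis_iff_nbhd]
  intro V x hxV
  by_cases hne : Nonempty (LogNCD.Through D x)
  · obtain ⟨W, hxW, n, v, e, -, -, hthr, hnot⟩ := hD x hne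
    have hxWV : x ∈ ((W ⊓ V : X.Opens) : Set X) := ⟨hxW, hxV⟩
    obtain ⟨_, ⟨U, hU, rfl⟩, hxU, hUWV⟩ :=
      X.isBasis_affineOpens.exists_subset_of_mem_open hxWV (W ⊓ V).isOpen
    have hUW : U ≤ W := fun y hy => (hUWV hy).1
    have hUV : U ≤ V := fun y hy => (hUWV hy).2
    have key : ∀ i : Fin r, ∃ gi : Γ(X, U), (D i).ideal ⟨U, hU⟩ = Ideal.span {gi} := by
      intro i
      by_cases hi : x ∈ (D i).support
      · exact ⟨_, hthr (⟨i, hi⟩ : LogNCD.Through D x) ⟨U, hU⟩ hUW⟩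
      · refine ⟨1, ?_⟩
        rw [Ideal.span_singleton_one]
        exact hnot i hi ⟨U, hU⟩ hUW
    choose g hg using key
    exact ⟨U, ⟨hU, g, hg⟩, hxU, hUV⟩
  · have hx : ∀ i, x ∉ (D i).support := fun i hi => hne ⟨⟨i, hi⟩⟩
    have hT : IsOpen ((V : Set X) ∩ ⋂ i, ((D i).support : Set X)ᶜ) :=
      V.isOpen.inter (isOpen_iInter_of_finite fun i => (D i).support.isClosed.isOpen_compl)
    have hxT : x ∈ ((V : Set X) ∩ ⋂ i, ((D i).support : Set X)ᶜ) :=
      ⟨hxV, Set.mem_iInter.mpr fun i => hx i⟩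
    obtain ⟨_, ⟨U, hU, rfl⟩, hxU, hUT⟩ :=
      X.isBasis_affineOpens.exists_subset_of_mem_open hxT hT
    refine ⟨U, ⟨hU, fun _ => 1, ?_⟩, hxU, fun y hy => (hUT hy).1⟩
    intro i
    rw [Ideal.span_singleton_one]
    apply ideal_eq_top_of_disjoint (D i) ⟨U, hU⟩
    intro y hy
    exact Set.mem_iInter.mp (hUT hy).2 i

theorem alg_decomp {R A L : Type*} [CommRing R] [AddCommGroup A] [Module R A]
    [AddCommGroup L] [Module R L] {r : ℕ} (ι : A →ₗ[R] L) (dl : Fin r → L)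
    (hspan : Submodule.span R (Set.range ι ∪ Set.range dl) = ⊤) (s : L) :
    ∃ (a : A) (c : Fin r → R), s = ι a + ∑ i, c i • dl i := by
  have hs : s ∈ Submodule.span R (Set.range ι ∪ Set.range dl) := by rw [hspan]; trivial
  rw [Submodule.span_union, Submodule.mem_sup] at hs
  obtain ⟨y, hy, z, hz, rfl⟩ := hs
  have hy' : y ∈ LinearMap.range ι := by
    rw [← LinearMap.coe_range, Submodule.span_eq] at hy
    exact hy
  obtain ⟨a, rfl⟩ := hy'
  obtain ⟨c, rfl⟩ := (Submodule.mem_span_range_iff_exists_fun R).mp hz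
  exact ⟨a, c, rfl⟩

theorem alg_exact {R A L : Type*} [CommRing R] [AddCommGroup A] [Module R A]
    [AddCommGroup L] [Module R L] {r : ℕ} {Q : Fin r → Type*} [∀ j, AddCommGroup (Q j)]
    [∀ j, Module R (Q j)] (ι : A →ₗ[R] L) (res : ∀ j, L →ₗ[R] Q j) (one : ∀ j, Q j)
    (g : Fin r → R) (dg : Fin r → A) (dl : Fin r → L)
    (hdl : ∀ i, g i • dl i = ι (dg i))
    (hspan : Submodule.span R (Set.range ι ∪ Set.range dl) = ⊤)
    (hres : ∀ i, res i (dl i) = one i)
    (hres0 : ∀ i j, i ≠ j → res j (dl i) = 0)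
    (hresι : ∀ j a, res j (ι a) = 0)
    (hker : ∀ j (c : R), c • one j = 0 → ∃ e, c = e * g j)
    (s : L) (hs : ∀ j, res j s = 0) : ∃ a, ι a = s := by
  classical
  obtain ⟨a, c, rfl⟩ := alg_decomp ι dl hspan s
  have hc : ∀ j, c j • one j = 0 := by
    intro j
    have h1 := hs j
    rw [map_add, hresι, zero_add, map_sum] at h1
    rw [Finset.sum_eq_single j] at h1
    · rwa [map_smul, hres] at h1
    · intro i _ hij
      rw [map_smul, hres0 i j hij, smul_zero]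
    · intro hj
      exact absurd (Finset.mem_univ j) hj
  choose e he using fun j => hker j (c j) (hc j)
  refine ⟨a + ∑ i, e i • dg i, ?_⟩
  rw [map_add, map_sum]
  congr 1
  refine Finset.sum_congr rfl fun i _ => ?_
  rw [map_smul, ← hdl, he i, mul_smul]

theorem alg_surj {R L : Type*} [CommRing R]
    [AddCommGroup L] [Module R L] {r : ℕ} {Q : Fin r → Type*} [∀ j, AddCommGroup (Q j)]
    [∀ j, Module R (Q j)] (res : ∀ j, L →ₗ[R] Q j) (one : ∀ j, Q j)
    (dl : Fin r → L)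
    (hres : ∀ i, res i (dl i) = one i)
    (hres0 : ∀ i j, i ≠ j → res j (dl i) = 0)
    (hsurj : ∀ j (q : Q j), ∃ c : R, c • one j = q)
    (t : ∀ j, Q j) : ∃ x : L, ∀ j, res j x = t j := by
  classical
  choose c hc using fun j => hsurj j (t j)
  refine ⟨∑ i, c i • dl i, fun j => ?_⟩
  rw [map_sum, Finset.sum_eq_single j]
  · rw [map_smul, hres, hc]
  · intro i _ hij
    rw [map_smul, hres0 i j hij, smul_zero]
  · intro hj
    exact absurd (Finset.mem_univ j) hj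

theorem smul_oneOn (I : X.IdealSheafData) (U : X.Opens) (c : Γ(X, U)) :
    c • LogNCD.oneOn I U = I.subschemeι.app U c := by
  have h1 : c • LogNCD.oneOn I U = (ClSub.toSubscheme I).app U (c • OmegaSh.strSect X U 1) :=
    ((ClSub.toSubscheme I).app_smul c (OmegaSh.strSect X U 1)).symm
  rw [h1, ← OmegaSh.strSect_mul, mul_one, OmegaSh.toSubscheme_app_strSect]

theorem exact_on_good {f : X ⟶ S} {Ω' : X.Modules} {d : OmegaSh.Der f Ω'} {r : ℕ}
    {D : Fin r → X.IdealSheafData} (Λ : LogNCD.LogMod d D) (U : X.Opens) (hG : Good D U)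
    (s : Γ(Λ.L, U)) (hs : (Pi.lift Λ.res).app U s = 0) : ∃ t : Γ(Ω', U), Λ.ι.app U t = s := by
  obtain ⟨hU, g, hg⟩ := hG
  obtain ⟨-, dl, hdl, hspan, hres, hres0⟩ := Λ.rule ⟨U, hU⟩ g hg
  have hsj : ∀ j, (Λ.res j).app U s = 0 := by
    intro j
    have h1 : (Pi.lift Λ.res ≫ Pi.π _ j).app U s = 0 := by
      show Scheme.Modules.Hom.app (Pi.π (fun i => ClSub.quotMod (D i)) j) U
        ((Pi.lift Λ.res).app U s) = 0
      rw [hs, map_zero]
    rwa [Pi.lift_π] at h1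
  have hresι : ∀ j (a : Ω'.val.obj (op U)),
      ((Λ.res j).val.app (op U)).hom ((Λ.ι.val.app (op U)).hom a) = 0 := by
    intro j a
    have h1 : (Λ.ι ≫ Λ.res j).app U a = 0 := by
      rw [Λ.res_ι j]
      rfl
    exact h1
  have hker : ∀ j (c : Γ(X, U)), c • LogNCD.oneOn (D j) U = 0 → ∃ e, c = e * g j := by
    intro j c hc
    rw [smul_oneOn] at hc
    have h2 : c ∈ (D j).ideal ⟨U, hU⟩ := by
      rw [← (D j).ker_subschemeι_app ⟨U, hU⟩]
      exact hc
    rw [hg j] at h2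
    obtain ⟨e, he⟩ := Ideal.mem_span_singleton'.mp h2
    exact ⟨e, he.symm⟩
  exact alg_exact (R := Γ(X, U)) (A := Ω'.val.obj (op U)) (L := Λ.L.val.obj (op U))
    (Q := fun j => (ClSub.quotMod (D j)).val.obj (op U)) (Λ.ι.val.app (op U)).hom
    (fun j => ((Λ.res j).val.app (op U)).hom) (fun j => LogNCD.oneOn (D j) U) g
    (fun i => d.app U (g i)) dl hdl hspan hres hres0 hresι hker s hsj

theorem surj_on_good {f : X ⟶ S} {Ω' : X.Modules} {d : OmegaSh.Der f Ω'} {r : ℕ}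
    {D : Fin r → X.IdealSheafData} (Λ : LogNCD.LogMod d D) (U : X.Opens) (hG : Good D U) :
    Function.Surjective ((Pi.lift Λ.res).app U) := by
  obtain ⟨hU, g, hg⟩ := hG
  obtain ⟨-, dl, hdl, hspan, hres, hres0⟩ := Λ.rule ⟨U, hU⟩ g hg
  intro t
  have hsurj : ∀ j (q : (ClSub.quotMod (D j)).val.obj (op U)),
      ∃ c : Γ(X, U), c • LogNCD.oneOn (D j) U = q := by
    intro j q
    obtain ⟨c, hc⟩ := (D j).subschemeι_app_surjective ⟨U, hU⟩ q
    exact ⟨c, (smul_oneOn (D j) U c).trans hc⟩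
  obtain ⟨x, hx⟩ := alg_surj (R := Γ(X, U)) (L := Λ.L.val.obj (op U))
    (Q := fun j => (ClSub.quotMod (D j)).val.obj (op U))
    (fun j => ((Λ.res j).val.app (op U)).hom) (fun j => LogNCD.oneOn (D j) U) dl hres hres0 hsurj
    (fun j => (Pi.π (fun i => ClSub.quotMod (D i)) j).app U t)
  refine ⟨x, ?_⟩
  apply prod_ext
  intro j
  have h1 : (Pi.lift Λ.res ≫ Pi.π _ j).app U x = (Λ.res j).app U x := by
    rw [Pi.lift_π]
  exact h1.trans (hx j)

theorem main {f : X ⟶ S} {Ω' : X.Modules} {d : OmegaSh.Der f Ω'} {r : ℕ}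
    {D : Fin r → X.IdealSheafData} (hD : LogNCD.IsNCD D f) (Λ : LogNCD.LogMod d D)
    (h : Λ.ι ≫ Pi.lift Λ.res = 0) :
    (ShortComplex.mk Λ.ι (Pi.lift Λ.res) h).ShortExact :=
  { exact := Groth.Agent.Lib.Helper48.Conormal.exact_of_basis _ _ (isBasis_good D f hD)
      (fun U hU s hs => exact_on_good Λ U hU s hs)
    mono_f := Λ.mono
    epi_g := Groth.Agent.Lib.Helper48.Conormal.epi_of_basis _ _ (isBasis_good D f hD)
      (fun U hU => surj_on_good Λ U hU) }

end Groth.Agent.Lib.Helper14.LogResSES
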