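import Groth.Agent.Lib.Helper14.LogResSES
import Mathlib.Topology.Sheaves.SheafCondition.Sites

set_option autoImplicit false
universe u
open CategoryTheory CategoryTheory.Limits AlgebraicGeometry Opposite TopologicalSpace

namespace Groth.Agent.Lib.Helper14.LogSub

open Groth.Agent.Lib.Helper14.LogResSES Groth.Agent.Lib.Helper48.OmegaAff

section Alg

theorem alg_gamma {R A M : Type*} [CommRing R] [AddCommGroup A] [Module R A]
    [AddCommGroup M] [Module R M] (ι : A →ₗ[R] M) {r : ℕ} (g : Fin r → R) (dg : Fin r → A)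
    (dl : Fin r → M) (hdl : ∀ j, g j • dl j = ι (dg j)) (a₀ : A) (c : Fin r → R) :
    (∏ k, g k) • (ι a₀ + ∑ j, c j • dl j) =
      ι ((∏ k, g k) • a₀ + ∑ j, c j • (∏ k ∈ Finset.univ.erase j, g k) • dg j) := by
  classical
  rw [smul_add, map_add, map_smul, Finset.smul_sum, map_sum]
  congr 1
  refine Finset.sum_congr rfl fun j _ => ?_
  rw [map_smul, map_smul, ← hdl j, ← Finset.mul_prod_erase Finset.univ g (Finset.mem_univ j)]
  rw [smul_smul, smul_smul, smul_smul]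
  congr 1
  ring

theorem alg_sub_exists {R A L' L : Type*} [CommRing R] [AddCommGroup A] [Module R A]
    [AddCommGroup L'] [Module R L'] [AddCommGroup L] [Module R L]
    (ι' : A →ₗ[R] L') (ι : A →ₗ[R] L) (hι' : Function.Injective ι') (γ : R)
    (hγL : ∀ y : L, γ • y = 0 → y = 0)
    (hex : ∀ x : L', ∃ y : L, ∃ a : A, γ • x = ι' a ∧ γ • y = ι a) :
    ∃ φ : L' →ₗ[R] L, ∀ a, φ (ι' a) = ι a := by
  have huniq : ∀ (x : L') (y1 y2 : L), (∃ a, γ • x = ι' a ∧ γ • y1 = ι a) →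
      (∃ a, γ • x = ι' a ∧ γ • y2 = ι a) → y1 = y2 := by
    rintro x y1 y2 ⟨a1, h1, h1'⟩ ⟨a2, h2, h2'⟩
    have ha : a1 = a2 := hι' (h1.symm.trans h2)
    subst ha
    rw [← sub_eq_zero]
    apply hγL
    rw [smul_sub, h1', h2', sub_self]
  choose φ hφ using hex
  refine ⟨{ toFun := φ
            map_add' := fun x1 x2 => huniq (x1 + x2) _ _ (hφ _) ?_
            map_smul' := fun c x => huniq (c • x) _ _ (hφ _) ?_ }, fun a =>
    huniq (ι' a) _ _ (hφ _) ⟨γ • a, by rw [map_smul], by rw [map_smul]⟩⟩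
  · obtain ⟨a1, h1, h1'⟩ := hφ x1
    obtain ⟨a2, h2, h2'⟩ := hφ x2
    exact ⟨a1 + a2, by rw [smul_add, h1, h2, map_add], by rw [smul_add, h1', h2', map_add]⟩
  · obtain ⟨a1, h1, h1'⟩ := hφ x
    exact ⟨c • a1, by rw [smul_comm, h1, map_smul],
      by rw [RingHom.id_apply, smul_comm, h1', map_smul]⟩

theorem alg_exact_sub {R A L' L Q : Type*} [CommRing R] [AddCommGroup A] [Module R A]
    [AddCommGroup L'] [Module R L'] [AddCommGroup L] [Module R L] [AddCommGroup Q] [Module R Q]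
    {r : ℕ} (i : Fin (r + 1)) (ι' : A →ₗ[R] L') (ι : A →ₗ[R] L) (κ : L' →ₗ[R] L)
    (hκ : ∀ a, κ (ι' a) = ι a) (resi : L →ₗ[R] Q) (one : Q) (g : Fin (r + 1) → R)
    (dg : Fin (r + 1) → A) (dl : Fin (r + 1) → L) (dl' : Fin r → L')
    (hdl : ∀ j, g j • dl j = ι (dg j))
    (hspan : Submodule.span R (Set.range ι ∪ Set.range dl) = ⊤)
    (hresi : resi (dl i) = one) (hres0 : ∀ j, j ≠ i → resi (dl j) = 0)
    (hresι : ∀ a, resi (ι a) = 0) (hker : ∀ c : R, c • one = 0 → ∃ e, c = e * g i)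
    (hκdl : ∀ k, κ (dl' k) = dl (i.succAbove k)) (s : L) (hs : resi s = 0) :
    ∃ t, κ t = s := by
  classical
  obtain ⟨a, c, rfl⟩ := alg_decomp ι dl hspan s
  have hc : c i • one = 0 := by
    rw [map_add, hresι, zero_add, map_sum, Finset.sum_eq_single i] at hs
    · rwa [map_smul, hresi] at hs
    · intro j _ hji
      rw [map_smul, hres0 j hji, smul_zero]
    · intro hj
      exact absurd (Finset.mem_univ i) hj
  obtain ⟨e, he⟩ := hker (c i) hc
  refine ⟨ι' (a + e • dg i) + ∑ k, c (i.succAbove k) • dl' k, ?_⟩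
  rw [map_add, hκ, map_sum, Fin.sum_univ_succAbove _ i, map_add, map_smul, ← hdl i, he, mul_smul,
    add_assoc]
  congr 2
  refine Finset.sum_congr rfl fun k _ => ?_
  rw [map_smul, hκdl]

end Alg

section Glue

variable {X : Scheme.{u}}

theorem hom_ext_of_basis {M N : X.Modules} (α β : M ⟶ N) (𝓑 : Set X.Opens)
    (h𝓑 : Opens.IsBasis 𝓑) (h : ∀ U ∈ 𝓑, ∀ s : Γ(M, U), α.app U s = β.app U s) : α = β := by
  apply Scheme.Modules.hom_ext
  intro W
  ext s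
  rw [← sub_eq_zero]
  apply eq_zero_of_locally N
  intro z hz
  obtain ⟨U, hU, hzU, hUW⟩ := Opens.isBasis_iff_nbhd.mp h𝓑 hz
  refine ⟨U, hUW, hzU, ?_⟩
  rw [map_sub, ← hom_app_map, ← hom_app_map, h U hU, sub_self]

theorem exists_hom_of_basis (M N : X.Modules) (P : X.Opens → Prop)
    (hB : Opens.IsBasis (Set.range (Subtype.val : {U : X.Opens // P U} → X.Opens)))
    (φ : ∀ U : X.Opens, P U → (Γ(M, U) →+ Γ(N, U)))
    (hres : ∀ (U U' : X.Opens) (hU : P U) (hU' : P U') (i : U' ≤ U) (s : Γ(M, U)),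
      φ U' hU' (M.presheaf.map (homOfLE i).op s) = N.presheaf.map (homOfLE i).op (φ U hU s))
    (hsmul : ∀ (U : X.Opens) (hU : P U) (r : Γ(X, U)) (s : Γ(M, U)),
      φ U hU (r • s) = r • φ U hU s) :
    ∃ κ : M ⟶ N, ∀ (U : X.Opens) (hU : P U) (s : Γ(M, U)), κ.app U s = φ U hU s := by
  let bn : (inducedFunctor (Subtype.val : {U : X.Opens // P U} → X.Opens)).op ⋙ M.presheaf ⟶
      (inducedFunctor (Subtype.val : {U : X.Opens // P U} → X.Opens)).op ⋙ N.presheaf :=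
    { app := fun i => AddCommGrpCat.ofHom
        (φ (show {U : X.Opens // P U} from i.unop).1 (show {U : X.Opens // P U} from i.unop).2)
      naturality := fun i j g => by
        ext s
        exact hres _ _ (show {U : X.Opens // P U} from i.unop).2
          (show {U : X.Opens // P U} from j.unop).2 g.unop.hom.le s }
  let gn : M.presheaf ⟶ N.presheaf :=
    TopCat.Sheaf.restrictHomEquivHom M.presheaf ⟨N.presheaf, N.isSheaf⟩ hB bn
  have gn_good : ∀ (U : X.Opens) (hU : P U) (s : Γ(M, U)), gn.app (op U) s = φ U hU s := by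
    intro U hU s
    have h := TopCat.Sheaf.extend_hom_app M.presheaf ⟨N.presheaf, N.isSheaf⟩ hB bn ⟨U, hU⟩
    exact congr($h s)
  have gn_res : ∀ {W U : X.Opens} (i : U ≤ W) (s : Γ(M, W)),
      N.presheaf.map (homOfLE i).op (gn.app (op W) s) =
        gn.app (op U) (M.presheaf.map (homOfLE i).op s) :=
    fun i s => (congr($(gn.naturality (homOfLE i).op) s)).symm
  have gn_smul : ∀ (W : X.Opens) (r : Γ(X, W)) (s : Γ(M, W)),
      gn.app (op W) (r • s) = r • gn.app (op W) s := by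
    intro W r s
    rw [← sub_eq_zero]
    apply eq_zero_of_locally N
    intro z hz
    obtain ⟨U, ⟨⟨U', hU'⟩, rfl⟩, hzU, hUW⟩ := Opens.isBasis_iff_nbhd.mp hB hz
    refine ⟨U', hUW, hzU, ?_⟩
    rw [map_sub, gn_res, Scheme.Modules.map_smul, Scheme.Modules.map_smul, gn_res,
      gn_good _ hU', gn_good _ hU', hsmul, sub_self]
  exact ⟨⟨PresheafOfModules.homMk gn (fun U r m => gn_smul U.unop r m)⟩,
    fun U hU s => gn_good U hU s⟩

end Glue


section Alg2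

theorem alg_kappa_dl {R A L' L : Type*} [CommRing R] [AddCommGroup A] [Module R A]
    [AddCommGroup L'] [Module R L'] [AddCommGroup L] [Module R L]
    (ι' : A →ₗ[R] L') (ι : A →ₗ[R] L) (κ : L' →ₗ[R] L) (hκ : ∀ a, κ (ι' a) = ι a)
    {n : ℕ} (g : Fin n → R) (htf : ∀ y : L, (∏ j, g j) • y = 0 → y = 0) (j : Fin n) (a : A)
    (x' : L') (y : L) (hx' : g j • x' = ι' a) (hy : g j • y = ι a) : κ x' = y := by
  classical
  rw [← sub_eq_zero]
  apply htf
  rw [← Finset.mul_prod_erase Finset.univ g (Finset.mem_univ j), mul_comm, mul_smul, smul_sub,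
    ← map_smul, hx', hκ, hy, sub_self, smul_zero]

theorem alg_kappa_inj {R A L' L : Type*} [CommRing R] [AddCommGroup A] [Module R A]
    [AddCommGroup L'] [Module R L'] [AddCommGroup L] [Module R L]
    (ι' : A →ₗ[R] L') (ι : A →ₗ[R] L) (κ : L' →ₗ[R] L) (hκ : ∀ a, κ (ι' a) = ι a)
    (hι : Function.Injective ι) (γ : R) (hγ' : ∀ x : L', ∃ a, γ • x = ι' a)
    (htf' : ∀ x : L', γ • x = 0 → x = 0) : Function.Injective κ := by
  rw [injective_iff_map_eq_zero]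
  intro x hx
  obtain ⟨a, ha⟩ := hγ' x
  have h1 : ι a = 0 := by
    rw [← hκ, ← ha, map_smul, hx, smul_zero]
  have h2 : a = 0 := hι (h1.trans (map_zero ι).symm)
  apply htf'
  rw [ha, h2, map_zero]

end Alg2

section Chart

variable {X S : Scheme.{u}} {f : X ⟶ S} {Ω' : X.Modules} {d : OmegaSh.Der f Ω'}

theorem app_injective_of_mono {M N : X.Modules} (φ : M ⟶ N) [Mono φ] (U : X.Opens) :
    Function.Injective (φ.app U) := by
  have h1 : Mono ((Scheme.Modules.toPresheaf X).map φ) := inferInstance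
  have h2 : Mono (((Scheme.Modules.toPresheaf X).map φ).app (op U)) := inferInstance
  exact (AddCommGrpCat.mono_iff_injective _).mp h2

theorem tf_restrict {n : ℕ} {D : Fin n → X.IdealSheafData} (Λ : LogNCD.LogMod d D)
    {U V : X.Opens} (hU : IsAffineOpen U) (hV : IsAffineOpen V) (hVU : V ≤ U)
    (g : Fin n → Γ(X, U)) (hg : ∀ j, (D j).ideal ⟨U, hU⟩ = Ideal.span {g j})
    (y : Γ(Λ.L, V)) (hy : X.presheaf.map (homOfLE hVU).op (∏ j, g j) • y = 0) : y = 0 := by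
  have hg' : ∀ j, (D j).ideal ⟨V, hV⟩ =
      Ideal.span {X.presheaf.map (homOfLE hVU).op (g j)} := by
    intro j
    rw [← (D j).map_ideal (U := ⟨V, hV⟩) (V := ⟨U, hU⟩) hVU, hg j, Ideal.map_span,
      Set.image_singleton]
    rfl
  obtain ⟨htf, -⟩ := Λ.rule ⟨V, hV⟩ _ hg'
  apply htf
  have h1 : X.presheaf.map (homOfLE hVU).op (∏ j, g j) =
      ∏ j, X.presheaf.map (homOfLE hVU).op (g j) :=
    map_prod (X.presheaf.map (homOfLE hVU).op).hom g Finset.univ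
  rw [← h1]
  exact hy

theorem gamma_smul_mem {n : ℕ} {D : Fin n → X.IdealSheafData} (Λ : LogNCD.LogMod d D)
    {U : X.Opens} (hU : IsAffineOpen U) (g : Fin n → Γ(X, U))
    (hg : ∀ j, (D j).ideal ⟨U, hU⟩ = Ideal.span {g j}) (x : Γ(Λ.L, U)) :
    ∃ a : Γ(Ω', U), (∏ k, g k) • x = Λ.ι.app U a := by
  obtain ⟨-, dl, hdl, hspan, -, -⟩ := Λ.rule ⟨U, hU⟩ g hg
  obtain ⟨a₀, c, hx⟩ := alg_decomp (R := Γ(X, U)) (A := Ω'.val.obj (op U))
    (L := Λ.L.val.obj (op U)) (Λ.ι.val.app (op U)).hom dl hspan x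
  have h1 := alg_gamma (R := Γ(X, U)) (A := Ω'.val.obj (op U)) (M := Λ.L.val.obj (op U))
    (Λ.ι.val.app (op U)).hom g (fun j => d.app U (g j)) dl hdl a₀ c
  subst hx
  exact ⟨_, h1⟩

variable {r : ℕ} {D : Fin (r + 1) → X.IdealSheafData} (i : Fin (r + 1))
  (Λ : LogNCD.LogMod d D) (Λ' : LogNCD.LogMod d (D ∘ i.succAbove))

theorem chart_exists {U : X.Opens} (hG : Good D U) :
    ∃ φ : Γ(Λ'.L, U) →+ Γ(Λ.L, U), (∀ (c : Γ(X, U)) (s : Γ(Λ'.L, U)), φ (c • s) = c • φ s) ∧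
      ∀ a : Γ(Ω', U), φ (Λ'.ι.app U a) = Λ.ι.app U a := by
  obtain ⟨hU, g, hg⟩ := hG
  obtain ⟨htf, dl, hdl, hspan, -, -⟩ := Λ.rule ⟨U, hU⟩ g hg
  obtain ⟨-, dl', hdl', hspan', -, -⟩ := Λ'.rule ⟨U, hU⟩ (g ∘ i.succAbove)
    (fun k => hg (i.succAbove k))
  have hγL : ∀ y : Λ.L.val.obj (op U), (∏ k, g (i.succAbove k)) • y = 0 → y = 0 := by
    intro y hy
    apply htf
    rw [Fin.prod_univ_succAbove g i, mul_smul, hy, smul_zero]
  have hex : ∀ x : Λ'.L.val.obj (op U), ∃ y : Λ.L.val.obj (op U), ∃ a : Ω'.val.obj (op U),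
      (∏ k, g (i.succAbove k)) • x = (Λ'.ι.val.app (op U)).hom a ∧
        (∏ k, g (i.succAbove k)) • y = (Λ.ι.val.app (op U)).hom a := by
    intro x
    obtain ⟨a₀, c, hx⟩ := alg_decomp (R := Γ(X, U)) (A := Ω'.val.obj (op U))
      (L := Λ'.L.val.obj (op U)) (Λ'.ι.val.app (op U)).hom dl' hspan' x
    have h1 := alg_gamma (R := Γ(X, U)) (A := Ω'.val.obj (op U)) (M := Λ'.L.val.obj (op U))
      (Λ'.ι.val.app (op U)).hom (g ∘ i.succAbove)
      (fun k => d.app U (g (i.succAbove k))) dl' hdl' a₀ c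
    have h2 := alg_gamma (R := Γ(X, U)) (A := Ω'.val.obj (op U)) (M := Λ.L.val.obj (op U))
      (Λ.ι.val.app (op U)).hom (g ∘ i.succAbove)
      (fun k => d.app U (g (i.succAbove k))) (fun k => dl (i.succAbove k))
      (fun k => hdl (i.succAbove k)) a₀ c
    subst hx
    exact ⟨_, _, h1, h2⟩
  obtain ⟨φ, hφ⟩ := alg_sub_exists (R := Γ(X, U)) (A := Ω'.val.obj (op U))
    (L' := Λ'.L.val.obj (op U)) (L := Λ.L.val.obj (op U)) (Λ'.ι.val.app (op U)).hom
    (Λ.ι.val.app (op U)).hom (have := Λ'.mono; app_injective_of_mono Λ'.ι U)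
    (∏ k, g (i.succAbove k)) hγL hex
  exact ⟨φ.toAddMonoidHom, fun c s => φ.map_smul c s, hφ⟩

theorem chart_res {U U' : X.Opens} (hG : Good D U) (hG' : Good D U') (hle : U' ≤ U)
    (φ : Γ(Λ'.L, U) →+ Γ(Λ.L, U))
    (hφs : ∀ (c : Γ(X, U)) (s : Γ(Λ'.L, U)), φ (c • s) = c • φ s)
    (hφι : ∀ a : Γ(Ω', U), φ (Λ'.ι.app U a) = Λ.ι.app U a)
    (φ' : Γ(Λ'.L, U') →+ Γ(Λ.L, U'))
    (hφs' : ∀ (c : Γ(X, U')) (s : Γ(Λ'.L, U')), φ' (c • s) = c • φ' s)
    (hφι' : ∀ a : Γ(Ω', U'), φ' (Λ'.ι.app U' a) = Λ.ι.app U' a) (x : Γ(Λ'.L, U)) :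
    φ' (Λ'.L.presheaf.map (homOfLE hle).op x) = Λ.L.presheaf.map (homOfLE hle).op (φ x) := by
  obtain ⟨hU, g, hg⟩ := hG
  obtain ⟨hU', -⟩ := hG'
  obtain ⟨a, ha⟩ := gamma_smul_mem Λ' hU (g ∘ i.succAbove) (fun k => hg (i.succAbove k)) x
  rw [← sub_eq_zero]
  apply tf_restrict Λ hU hU' hle g hg
  rw [Fin.prod_univ_succAbove g i, map_mul, mul_smul]
  have h1 : X.presheaf.map (homOfLE hle).op (∏ k, g (i.succAbove k)) •
      φ' (Λ'.L.presheaf.map (homOfLE hle).op x) =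
        Λ.ι.app U' (Ω'.presheaf.map (homOfLE hle).op a) := by
    rw [← hφs', ← Scheme.Modules.map_smul]
    erw [ha]
    rw [← hom_app_map, hφι']
  have h2 : X.presheaf.map (homOfLE hle).op (∏ k, g (i.succAbove k)) •
      Λ.L.presheaf.map (homOfLE hle).op (φ x) =
        Λ.ι.app U' (Ω'.presheaf.map (homOfLE hle).op a) := by
    rw [← Scheme.Modules.map_smul, ← hφs]
    erw [ha]
    rw [hφι, ← hom_app_map]
  rw [smul_sub, h1, h2, sub_self, smul_zero]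

theorem exists_kappa (hD : LogNCD.IsNCD D f) : ∃ κ : Λ'.L ⟶ Λ.L, Λ'.ι ≫ κ = Λ.ι := by
  have hB := isBasis_good D f hD
  have hB' : Opens.IsBasis (Set.range (Subtype.val : {U : X.Opens // Good D U} → X.Opens)) := by
    rw [Subtype.range_coe_subtype]
    exact hB
  choose φ hφs hφι using fun (U : X.Opens) (hG : Good D U) => chart_exists i Λ Λ' hG
  obtain ⟨κ, hκ⟩ := exists_hom_of_basis Λ'.L Λ.L (Good D) hB' φ
    (fun U U' hU hU' hle s => chart_res i Λ Λ' hU hU' hle (φ U hU) (hφs U hU) (hφι U hU)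
      (φ U' hU') (hφs U' hU') (hφι U' hU') s)
    (fun U hU c s => hφs U hU c s)
  refine ⟨κ, hom_ext_of_basis _ _ _ hB (fun U hU s => ?_)⟩
  show κ.app U (Λ'.ι.app U s) = Λ.ι.app U s
  rw [hκ U hU, hφι]

end Chart


section SES

variable {X S : Scheme.{u}} {f : X ⟶ S} {Ω' : X.Modules} {d : OmegaSh.Der f Ω'}
  {r : ℕ} {D : Fin (r + 1) → X.IdealSheafData} (i : Fin (r + 1))
  (Λ : LogNCD.LogMod d D) (Λ' : LogNCD.LogMod d (D ∘ i.succAbove))
  (κ : Λ'.L ⟶ Λ.L) (hκ : Λ'.ι ≫ κ = Λ.ι)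

include hκ

theorem kappa_ι_app (U : X.Opens) (a : Ω'.val.obj (op U)) :
    (κ.val.app (op U)).hom ((Λ'.ι.val.app (op U)).hom a) = (Λ.ι.val.app (op U)).hom a := by
  have h1 : (Λ'.ι ≫ κ).app U a = Λ.ι.app U a := by rw [hκ]
  exact h1

theorem inj_chart {U : X.Opens} (hG : Good D U) : Function.Injective (κ.app U) := by
  obtain ⟨hU, g, hg⟩ := hG
  obtain ⟨htf', -⟩ := Λ'.rule ⟨U, hU⟩ (g ∘ i.succAbove) (fun k => hg (i.succAbove k))
  exact alg_kappa_inj (R := Γ(X, U)) (A := Ω'.val.obj (op U)) (L' := Λ'.L.val.obj (op U))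
    (L := Λ.L.val.obj (op U)) (Λ'.ι.val.app (op U)).hom (Λ.ι.val.app (op U)).hom
    (κ.val.app (op U)).hom (kappa_ι_app i Λ Λ' κ hκ U)
    (have := Λ.mono; app_injective_of_mono Λ.ι U) (∏ k, (g ∘ i.succAbove) k)
    (fun x => gamma_smul_mem Λ' hU (g ∘ i.succAbove) (fun k => hg (i.succAbove k)) x) htf'

theorem exact_chart {U : X.Opens} (hG : Good D U) (s : Γ(Λ.L, U))
    (hs : (Λ.res i).app U s = 0) : ∃ t : Γ(Λ'.L, U), κ.app U t = s := by
  obtain ⟨hU, g, hg⟩ := hG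
  obtain ⟨htf, dl, hdl, hspan, hres, hres0⟩ := Λ.rule ⟨U, hU⟩ g hg
  obtain ⟨-, dl', hdl', -, -, -⟩ := Λ'.rule ⟨U, hU⟩ (g ∘ i.succAbove)
    (fun k => hg (i.succAbove k))
  have hresι : ∀ a : Ω'.val.obj (op U),
      ((Λ.res i).val.app (op U)).hom ((Λ.ι.val.app (op U)).hom a) = 0 := by
    intro a
    have h1 : (Λ.ι ≫ Λ.res i).app U a = 0 := by
      rw [Λ.res_ι i]
      rfl
    exact h1
  have hker : ∀ c : Γ(X, U), c • LogNCD.oneOn (D i) U = 0 → ∃ e, c = e * g i := by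
    intro c hc
    rw [smul_oneOn] at hc
    have h2 : c ∈ (D i).ideal ⟨U, hU⟩ := by
      rw [← (D i).ker_subschemeι_app ⟨U, hU⟩]
      exact hc
    rw [hg i] at h2
    obtain ⟨e, he⟩ := Ideal.mem_span_singleton'.mp h2
    exact ⟨e, he.symm⟩
  have hκdl : ∀ k, (κ.val.app (op U)).hom (dl' k) = dl (i.succAbove k) := by
    intro k
    exact alg_kappa_dl (R := Γ(X, U)) (A := Ω'.val.obj (op U)) (L' := Λ'.L.val.obj (op U))
      (L := Λ.L.val.obj (op U)) (Λ'.ι.val.app (op U)).hom (Λ.ι.val.app (op U)).hom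
      (κ.val.app (op U)).hom (kappa_ι_app i Λ Λ' κ hκ U) g htf (i.succAbove k)
      (d.app U (g (i.succAbove k))) (dl' k) (dl (i.succAbove k)) (hdl' k) (hdl (i.succAbove k))
  exact alg_exact_sub (R := Γ(X, U)) (A := Ω'.val.obj (op U)) (L' := Λ'.L.val.obj (op U))
    (L := Λ.L.val.obj (op U)) (Q := (ClSub.quotMod (D i)).val.obj (op U)) i
    (Λ'.ι.val.app (op U)).hom (Λ.ι.val.app (op U)).hom (κ.val.app (op U)).hom
    (kappa_ι_app i Λ Λ' κ hκ U) ((Λ.res i).val.app (op U)).hom (LogNCD.oneOn (D i) U) g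
    (fun j => d.app U (g j)) dl dl' hdl hspan (hres i) (fun j hj => hres0 j i hj) hresι hker
    hκdl s hs

omit hκ in
theorem surj_chart {U : X.Opens} (hG : Good D U) : Function.Surjective ((Λ.res i).app U) := by
  obtain ⟨hU, g, hg⟩ := hG
  obtain ⟨-, dl, -, -, hres, -⟩ := Λ.rule ⟨U, hU⟩ g hg
  intro q
  obtain ⟨c, hc⟩ := (D i).subschemeι_app_surjective ⟨U, hU⟩ q
  refine ⟨c • dl i, ?_⟩
  have h1 : (Λ.res i).app U (c • dl i) = c • (Λ.res i).app U (dl i) :=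
    (Λ.res i).app_smul c (dl i)
  rw [h1]
  have h2 : (Λ.res i).app U (dl i) = LogNCD.oneOn (D i) U := hres i
  rw [h2]
  exact (smul_oneOn (D i) U c).trans hc

theorem shortExact_of_isSubLog (hD : LogNCD.IsNCD D f) (h : κ ≫ Λ.res i = 0) :
    (ShortComplex.mk κ (Λ.res i) h).ShortExact :=
  { exact := Groth.Agent.Lib.Helper48.Conormal.exact_of_basis _ _ (isBasis_good D f hD)
      (fun _ hU s hs => exact_chart i Λ Λ' κ hκ hU s hs)
    mono_f := Groth.Agent.Lib.Helper48.Conormal.mono_of_basis κ _ (isBasis_good D f hD)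
      (fun _ hU => inj_chart i Λ Λ' κ hκ hU)
    epi_g := Groth.Agent.Lib.Helper48.Conormal.epi_of_basis _ _ (isBasis_good D f hD)
      (fun _ hU => surj_chart i Λ hU) }

end SES

theorem main {X S : Scheme.{u}} {f : X ⟶ S} {Ω' : X.Modules} {d : OmegaSh.Der f Ω'}
    {r : ℕ} {D : Fin (r + 1) → X.IdealSheafData} (hD : LogNCD.IsNCD D f) (i : Fin (r + 1))
    (Λ : LogNCD.LogMod d D) (Λ' : LogNCD.LogMod d (D ∘ i.succAbove)) :
    (∃ κ : Λ'.L ⟶ Λ.L, LogNCD.IsSubLog Λ' Λ κ) ∧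
      ∀ (κ : Λ'.L ⟶ Λ.L) (_ : LogNCD.IsSubLog Λ' Λ κ) (h : κ ≫ Λ.res i = 0),
        (ShortComplex.mk κ (Λ.res i) h).ShortExact :=
  ⟨exists_kappa i Λ Λ' hD, fun κ hκ h => shortExact_of_isSubLog i Λ Λ' κ hκ hD h⟩

end Groth.Agent.Lib.Helper14.LogSub
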