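import Mathlib
import Groth.Agent.Lib.Helper73.DimFT.Catenary

set_option autoImplicit false
universe u
open TensorProduct

namespace Groth.Agent.Lib.Helper14.MovDK

theorem exists_ne_zero_mem_ker {k : Type u} [Field k] {r : ℕ} (R : Type u) [CommRing R]
    [Algebra k R] [Algebra.FiniteType k R] (hdim : ringKrullDim R < (r : WithBot ℕ∞))
    (φ : MvPolynomial (Fin r) k →ₐ[k] R) :
    ∃ h : MvPolynomial (Fin r) k, h ≠ 0 ∧ φ h = 0 := by
  by_contra hcon
  push Not at hcon
  have hinj : Function.Injective φ := by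
    rw [injective_iff_map_eq_zero]
    intro h hh
    by_contra hne
    exact hcon h hne hh
  let S : Submonoid R := (nonZeroDivisors (MvPolynomial (Fin r) k)).map
    (φ : MvPolynomial (Fin r) k →* R)
  have hdisj : Disjoint ((⊥ : Ideal R) : Set R) (S : Set R) := by
    rw [Set.disjoint_left]
    rintro x hx ⟨h, hh, rfl⟩
    have h0 : φ h = 0 := hx
    have hne : h ≠ 0 := nonZeroDivisors.ne_zero hh
    exact hcon h hne h0
  obtain ⟨q, hq, -, hqS⟩ := Ideal.exists_le_prime_disjoint ⊥ S hdisj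
  have hψinj : Function.Injective ((Ideal.Quotient.mkₐ k q).comp φ) := by
    rw [injective_iff_map_eq_zero]
    intro h hh
    by_contra hne
    have h1 : φ h ∈ q := by
      have h2 : (Ideal.Quotient.mkₐ k q) (φ h) = 0 := hh
      exact Ideal.Quotient.eq_zero_iff_mem.mp h2
    have h3 : φ h ∈ S := ⟨h, mem_nonZeroDivisors_of_ne_zero hne, rfl⟩
    exact Set.disjoint_left.mp hqS h1 h3
  have hFT : Algebra.FiniteType k (R ⧸ q) :=
    Algebra.FiniteType.of_surjective (Ideal.Quotient.mkₐ k q) (Ideal.Quotient.mkₐ_surjective k q)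
  have hDom : IsDomain (R ⧸ q) := Ideal.Quotient.isDomain q
  obtain ⟨d, hd⟩ := Groth.Agent.Lib.Helper73.exists_nat_ringKrullDim_eq k (R ⧸ q)
  have htr := Groth.Agent.Lib.Helper73.trdeg_eq_of_ringKrullDim_eq k (A := R ⧸ q)
    (FractionRing (R ⧸ q)) d hd
  let ψ : MvPolynomial (Fin r) k →ₐ[k] FractionRing (R ⧸ q) :=
    (IsScalarTower.toAlgHom k (R ⧸ q) (FractionRing (R ⧸ q))).comp
      ((Ideal.Quotient.mkₐ k q).comp φ)
  have hψ : Function.Injective ψ := by
    have h1 : Function.Injective (algebraMap (R ⧸ q) (FractionRing (R ⧸ q))) :=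
      IsFractionRing.injective _ _
    exact h1.comp hψinj
  have hai : AlgebraicIndependent k (fun i : Fin r => ψ (MvPolynomial.X i)) := by
    rw [algebraicIndependent_iff_injective_aeval]
    have h2 : MvPolynomial.aeval (fun i : Fin r => ψ (MvPolynomial.X i)) = ψ := by
      apply MvPolynomial.algHom_ext
      intro i
      simp
    rw [h2]
    exact hψ
  have hle := hai.lift_cardinalMk_le_trdeg
  rw [htr, Cardinal.mk_fin] at hle
  have hrd : r ≤ d := by
    simpa using hle
  have h5 : ringKrullDim (R ⧸ q) ≤ ringKrullDim R := ringKrullDim_quotient_le q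
  rw [hd] at h5
  have h6 : ((r : ℕ∞) : WithBot ℕ∞) ≤ ((d : ℕ∞) : WithBot ℕ∞) := by exact_mod_cast hrd
  have h7 : ((d : ℕ∞) : WithBot ℕ∞) < (r : WithBot ℕ∞) := lt_of_le_of_lt (by exact_mod_cast h5) hdim
  exact absurd (lt_of_le_of_lt h6 h7) (lt_irrefl _)

end Groth.Agent.Lib.Helper14.MovDK
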