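import Mathlib
import Groth.Agent.Lib.Helper72.SchDense

set_option autoImplicit false
universe u
open CategoryTheory CategoryTheory.Limits AlgebraicGeometry TopologicalSpace

namespace Groth.Agent.Lib.Helper14.NeronDescC

open Groth.Agent.Lib.Helper72.SchDense

lemma ext_of_schDominant_of_isSeparated {W X Y Z : Scheme.{u}} {f g : X ⟶ Y} (s : Y ⟶ Z)
    [IsSeparated s] (h : f ≫ s = g ≫ s) (ι : W ⟶ X) [IsSchemeTheoreticallyDominant ι]
    (hU : ι ≫ f = ι ≫ g) : f = g := by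
  let X' : Over Z := Over.mk (f ≫ s)
  let Y' : Over Z := Over.mk s
  let U' : Over Z := Over.mk (ι ≫ f ≫ s)
  let f' : X' ⟶ Y' := Over.homMk f
  let g' : X' ⟶ Y' := Over.homMk g
  let ι' : U' ⟶ X' := Over.homMk ι
  have : IsSeparated Y'.hom := ‹_›
  have hlift : (equalizer.lift ι' (show ι' ≫ f' = ι' ≫ g' by ext1; exact hU)).left ≫
      (equalizer.ι f' g').left = ι := by
    rw [← Over.comp_left, equalizer.lift_ι]; rfl
  have hker : (equalizer.ι f' g').left.ker = ⊥ := by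
    have h1 := Scheme.Hom.le_ker_comp
      (equalizer.lift ι' (show ι' ≫ f' = ι' ≫ g' by ext1; exact hU)).left (equalizer.ι f' g').left
    rw [hlift, ι.ker_eq_bot] at h1
    exact le_bot_iff.mp h1
  have : IsIso (equalizer.ι f' g').left := IsClosedImmersion.isIso_iff_ker_eq_bot.mpr hker
  rw [← cancel_epi (equalizer.ι f' g').left]
  exact congr($(equalizer.condition f' g').left)

theorem eq_of_factor {Y Y' N T : Scheme.{u}} (p : Y' ⟶ Y) (V : Y.Opens)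
    (a : V.toScheme ⟶ N) (h' : Y' ⟶ N)
    (hagree : (p ⁻¹ᵁ V).ι ≫ h' = (p ∣_ V) ≫ a)
    (t1 t2 : T ⟶ Y') (ht : t1 ≫ p = t2 ≫ p)
    (hT : ∀ x : T, (t1 ≫ p).base x ∈ V) : t1 ≫ h' = t2 ≫ h' := by
  have hr1 : Set.range t1.base ⊆ Set.range (p ⁻¹ᵁ V).ι.base := by
    rintro _ ⟨x, rfl⟩
    rw [Scheme.Opens.range_ι]
    exact hT x
  have hr2 : Set.range t2.base ⊆ Set.range (p ⁻¹ᵁ V).ι.base := by
    rintro _ ⟨x, rfl⟩
    rw [Scheme.Opens.range_ι]
    have := hT x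
    rw [ht] at this
    exact this
  let k1 := IsOpenImmersion.lift (p ⁻¹ᵁ V).ι t1 hr1
  let k2 := IsOpenImmersion.lift (p ⁻¹ᵁ V).ι t2 hr2
  have hk1 : k1 ≫ (p ⁻¹ᵁ V).ι = t1 := IsOpenImmersion.lift_fac _ _ _
  have hk2 : k2 ≫ (p ⁻¹ᵁ V).ι = t2 := IsOpenImmersion.lift_fac _ _ _
  have hkk : k1 ≫ (p ∣_ V) = k2 ≫ (p ∣_ V) := by
    rw [← cancel_mono V.ι, Category.assoc, Category.assoc, morphismRestrict_ι,
      reassoc_of% hk1, reassoc_of% hk2, ht]
  rw [← hk1, ← hk2, Category.assoc, Category.assoc, hagree, reassoc_of% hkk]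

theorem cocycle {S Y Y' N : Scheme.{u}} [IsLocallyNoetherian S] (U : S.Opens)
    (hU : CInt.IsSchematicallyDense U) (q : Y ⟶ S) (p : Y' ⟶ Y) [Flat p] [Flat (p ≫ q)]
    (πN : N ⟶ S) [IsSeparated πN] (a : (q ⁻¹ᵁ U).toScheme ⟶ N) (h' : Y' ⟶ N)
    (hh' : h' ≫ πN = p ≫ q)
    (hagree : (p ⁻¹ᵁ q ⁻¹ᵁ U).ι ≫ h' = (p ∣_ (q ⁻¹ᵁ U)) ≫ a) :
    pullback.fst p p ≫ h' = pullback.snd p p ≫ h' := by
  let r : pullback p p ⟶ S := pullback.fst p p ≫ p ≫ q
  have hr : Flat r := inferInstance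
  have hdense : CInt.IsSchematicallyDense (r ⁻¹ᵁ U) := preimage_of_flat r U hU
  have hqc : QuasiCompact (r ⁻¹ᵁ U).ι :=
    MorphismProperty.of_isPullback (P := @QuasiCompact) (isPullback_morphismRestrict r U)
      inferInstance
  have hdom : IsSchemeTheoreticallyDominant (r ⁻¹ᵁ U).ι :=
    dominant_of_isSchematicallyDense _ hdense
  refine ext_of_schDominant_of_isSeparated πN ?_ (r ⁻¹ᵁ U).ι ?_
  · rw [Category.assoc, Category.assoc, hh', pullback.condition_assoc]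
  · have := eq_of_factor p (q ⁻¹ᵁ U) a h' hagree ((r ⁻¹ᵁ U).ι ≫ pullback.fst p p)
      ((r ⁻¹ᵁ U).ι ≫ pullback.snd p p)
      (by rw [Category.assoc, Category.assoc, pullback.condition])
      (fun x => x.2)
    simpa only [Category.assoc] using this

end Groth.Agent.Lib.Helper14.NeronDescC
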