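import Mathlib
import Groth.Agent.Lib.Helper14.NeronDescC

set_option autoImplicit false
universe u
open CategoryTheory CategoryTheory.Limits AlgebraicGeometry TopologicalSpace

namespace Groth.Agent.Lib.Helper14.NeronDescA

set_option backward.isDefEq.respectTransparency.types false in
theorem faithfullyFlat_stalkMap {Y Y' : Scheme.{u}} (p : Y' ⟶ Y) [Flat p] (y' : Y') :
    (p.stalkMap y').hom.FaithfullyFlat := by
  algebraize [(p.stalkMap y').hom]
  have : Module.FaithfullyFlat (Y.presheaf.stalk (p y')) (Y'.presheaf.stalk y') :=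
    @Module.FaithfullyFlat.of_flat_of_isLocalHom _ _ _ _ _ _ _
      (Flat.stalkMap p y') (p.toLRSHom.prop y')
  exact ‹RingHom.FaithfullyFlat _›

theorem flat_specMap_stalkMap {Y Y' : Scheme.{u}} (p : Y' ⟶ Y) [Flat p] (y' : Y') :
    Flat (Spec.map (p.stalkMap y')) :=
  ((flat_and_surjective_SpecMap_iff _).2 (faithfullyFlat_stalkMap p y')).1

theorem surjective_specMap_stalkMap {Y Y' : Scheme.{u}} (p : Y' ⟶ Y) [Flat p] (y' : Y') :
    Surjective (Spec.map (p.stalkMap y')) :=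
  ((flat_and_surjective_SpecMap_iff _).2 (faithfullyFlat_stalkMap p y')).2

theorem agree_of_factor {Y Y' N T T' : Scheme.{u}} (p : Y' ⟶ Y) (V : Y.Opens)
    (a : V.toScheme ⟶ N) (h' : Y' ⟶ N)
    (hagree : (p ⁻¹ᵁ V).ι ≫ h' = (p ∣_ V) ≫ a)
    (e : T' ⟶ T) (t1 : T' ⟶ Y') (tV : T ⟶ V.toScheme)
    (ht : t1 ≫ p = e ≫ tV ≫ V.ι) : t1 ≫ h' = e ≫ tV ≫ a := by
  have hr1 : Set.range t1.base ⊆ Set.range (p ⁻¹ᵁ V).ι.base := by
    rintro _ ⟨x, rfl⟩
    rw [Scheme.Opens.range_ι]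
    change (t1 ≫ p).base x ∈ V
    rw [ht]
    exact (tV.base (e.base x)).2
  let k := IsOpenImmersion.lift (p ⁻¹ᵁ V).ι t1 hr1
  have hk : k ≫ (p ⁻¹ᵁ V).ι = t1 := IsOpenImmersion.lift_fac _ _ _
  have hkk : k ≫ (p ∣_ V) = e ≫ tV := by
    rw [← cancel_mono V.ι, Category.assoc, morphismRestrict_ι, reassoc_of% hk, ht,
      Category.assoc]
  rw [← hk, Category.assoc, hagree, reassoc_of% hkk]

theorem agreement {Y Y' N T : Scheme.{u}} (p : Y' ⟶ Y) [Flat p] (V : Y.Opens)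
    (a : V.toScheme ⟶ N) (h' : Y' ⟶ N)
    (hagree : (p ⁻¹ᵁ V).ι ≫ h' = (p ∣_ V) ≫ a) (y' : Y')
    (φ : Spec (Y.presheaf.stalk (p y')) ⟶ N)
    (hφ : Spec.map (p.stalkMap y') ≫ φ = Y'.fromSpecStalk y' ≫ h')
    (t : T ⟶ Spec (Y.presheaf.stalk (p y'))) (tV : T ⟶ V.toScheme)
    (ht : t ≫ Y.fromSpecStalk (p y') = tV ≫ V.ι) : t ≫ φ = tV ≫ a := by
  have hfl := flat_specMap_stalkMap p y'
  have hsu := surjective_specMap_stalkMap p y'
  have hepi : Epi (pullback.fst t (Spec.map (p.stalkMap y'))) :=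
    Flat.epi_of_flat_of_surjective _
  rw [← cancel_epi (pullback.fst t (Spec.map (p.stalkMap y')))]
  have h1 := agree_of_factor p V a h' hagree (pullback.fst t (Spec.map (p.stalkMap y')))
    (pullback.snd t (Spec.map (p.stalkMap y')) ≫ Y'.fromSpecStalk y') tV (by
      rw [Category.assoc, ← Scheme.SpecMap_stalkMap_fromSpecStalk, ← pullback.condition_assoc, ht])
  rw [← h1, Category.assoc, ← hφ, pullback.condition_assoc]

end Groth.Agent.Lib.Helper14.NeronDescA
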