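import Mathlib
import Groth.Agent.Lib.Helper45.NeronDescT

set_option autoImplicit false
universe u
open CategoryTheory CategoryTheory.Limits AlgebraicGeometry TopologicalSpace

namespace Groth.Agent.Lib.Helper14.NeronDescS

variable {Y N : Scheme.{u}}

theorem germ_agree (V W : Y.Opens) (a : V.toScheme ⟶ N) (f : W.toScheme ⟶ N)
    (y : Y) (hyW : y ∈ W)
    (hgerm : ∀ (T : Scheme.{u}) (t : T ⟶ Spec (Y.presheaf.stalk y)) (tV : T ⟶ V.toScheme),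
      t ≫ Y.fromSpecStalk y = tV ≫ V.ι → t ≫ W.fromSpecStalkOfMem y hyW ≫ f = tV ≫ a)
    (ξ : Y) (hξ : ξ ∈ W ⊓ V) (h : ξ ⤳ y) :
    (W ⊓ V).toScheme.fromSpecStalk ⟨ξ, hξ⟩ ≫ Y.homOfLE (inf_le_left : W ⊓ V ≤ W) ≫ f =
      (W ⊓ V).toScheme.fromSpecStalk ⟨ξ, hξ⟩ ≫ Y.homOfLE (inf_le_right : W ⊓ V ≤ V) ≫ a := by
  let x : (W ⊓ V).toScheme := ⟨ξ, hξ⟩
  obtain ⟨t, ht⟩ : ∃ t : Spec ((W ⊓ V).toScheme.presheaf.stalk x) ⟶ Spec (Y.presheaf.stalk y),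
      t ≫ Y.fromSpecStalk y = (W ⊓ V).toScheme.fromSpecStalk x ≫ (W ⊓ V).ι := by
    refine ⟨Spec.map ((W ⊓ V).ι.stalkMap x) ≫ Spec.map (Y.presheaf.stalkSpecializes h), ?_⟩
    simp only [Category.assoc]
    rw [Scheme.SpecMap_stalkSpecializes_fromSpecStalk]
    exact Scheme.SpecMap_stalkMap_fromSpecStalk (W ⊓ V).ι (x := x)
  have h1 := hgerm _ t ((W ⊓ V).toScheme.fromSpecStalk x ≫ Y.homOfLE inf_le_right)
    (by rw [ht, Category.assoc, Scheme.homOfLE_ι])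
  have h2 : t ≫ W.fromSpecStalkOfMem y hyW =
      (W ⊓ V).toScheme.fromSpecStalk x ≫ Y.homOfLE inf_le_left := by
    rw [← cancel_mono W.ι, Category.assoc, Category.assoc, Scheme.Opens.fromSpecStalkOfMem_ι, ht,
      Scheme.homOfLE_ι]
  rw [← Category.assoc, ← h2, Category.assoc, h1, Category.assoc]

theorem unique_spread {X N : Scheme.{u}} [IsLocallyNoetherian X] (f g : X ⟶ N) (x : X)
    (e : X.fromSpecStalk x ≫ f = X.fromSpecStalk x ≫ g) :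
    ∃ U : X.Opens, x ∈ U ∧ U.ι ≫ f = U.ι ≫ g :=
  spread_out_unique_of_isGermInjective' f g e

theorem agree_iSup (V W : Y.Opens) (a : V.toScheme ⟶ N) (f : W.toScheme ⟶ N) {J : Type*}
    (U : J → Y.Opens) (h1 : ∀ j, U j ≤ W) (h2 : ∀ j, U j ≤ V)
    (h : ∀ j, Y.homOfLE (h1 j) ≫ f = Y.homOfLE (h2 j) ≫ a) :
    Y.homOfLE (iSup_le h1) ≫ f = Y.homOfLE (iSup_le h2) ≫ a := by
  refine (Scheme.Opens.iSupOpenCover U).hom_ext _ _ fun j => ?_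
  change Y.homOfLE (le_iSup U j) ≫ _ = Y.homOfLE (le_iSup U j) ≫ _
  rw [Scheme.homOfLE_homOfLE_assoc, Scheme.homOfLE_homOfLE_assoc]
  exact h j

theorem agree_image (V W : Y.Opens) (a : V.toScheme ⟶ N) (f : W.toScheme ⟶ N)
    (U : (W ⊓ V).toScheme.Opens)
    (hU : U.ι ≫ Y.homOfLE (inf_le_left : W ⊓ V ≤ W) ≫ f =
      U.ι ≫ Y.homOfLE (inf_le_right : W ⊓ V ≤ V) ≫ a) :
    Y.homOfLE (((W ⊓ V).ι_image_le U).trans inf_le_left) ≫ f =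
      Y.homOfLE (((W ⊓ V).ι_image_le U).trans inf_le_right) ≫ a := by
  have key : ((W ⊓ V).ι.isoImage U).hom ≫ Y.homOfLE ((W ⊓ V).ι_image_le U) = U.ι := by
    rw [← cancel_mono (W ⊓ V).ι, Category.assoc, Scheme.homOfLE_ι, Scheme.Hom.isoImage_hom_ι]
  rw [← cancel_epi ((W ⊓ V).ι.isoImage U).hom]
  rw [← Scheme.homOfLE_homOfLE Y ((W ⊓ V).ι_image_le U) inf_le_left,
    ← Scheme.homOfLE_homOfLE Y ((W ⊓ V).ι_image_le U) inf_le_right]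
  simp only [Category.assoc]
  rw [reassoc_of% key, reassoc_of% key]
  exact hU

theorem shrink_agree [IsLocallyNoetherian Y] (V W : Y.Opens) (a : V.toScheme ⟶ N)
    (f : W.toScheme ⟶ N) (y : Y) (hyW : y ∈ W)
    (hgerm : ∀ (T : Scheme.{u}) (t : T ⟶ Spec (Y.presheaf.stalk y)) (tV : T ⟶ V.toScheme),
      t ≫ Y.fromSpecStalk y = tV ≫ V.ι → t ≫ W.fromSpecStalkOfMem y hyW ≫ f = tV ≫ a) :
    ∃ (W' : Y.Opens) (hW' : W' ≤ W), y ∈ W' ∧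
      Y.homOfLE (inf_le_left : W' ⊓ V ≤ W') ≫ Y.homOfLE hW' ≫ f =
        Y.homOfLE (inf_le_right : W' ⊓ V ≤ V) ≫ a := by
  let J := {U : Y.Opens // ∃ (h1 : U ≤ W) (h2 : U ≤ V), Y.homOfLE h1 ≫ f = Y.homOfLE h2 ≫ a}
  let O₀ : Y.Opens := ⨆ j : J, j.1
  have hO₀W : O₀ ≤ W := iSup_le fun j => j.2.choose
  have hO₀V : O₀ ≤ V := iSup_le fun j => j.2.choose_spec.choose
  have hO₀ : Y.homOfLE hO₀W ≫ f = Y.homOfLE hO₀V ≫ a :=
    agree_iSup V W a f (fun j : J => j.1) (fun j => j.2.choose) (fun j => j.2.choose_spec.choose)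
      (fun j => j.2.choose_spec.choose_spec)
  have hgen : ∀ ξ : Y, ξ ∈ W ⊓ V → ξ ⤳ y → ξ ∈ O₀ := by
    intro ξ hξ h
    have hg := germ_agree V W a f y hyW hgerm ξ hξ h
    have hLN : IsLocallyNoetherian (W ⊓ V).toScheme := inferInstance
    obtain ⟨U, hxU, hU⟩ := unique_spread (X := (W ⊓ V).toScheme) (Y.homOfLE inf_le_left ≫ f)
      (Y.homOfLE inf_le_right ≫ a) ⟨ξ, hξ⟩ hg
    have hj := agree_image V W a f U hU
    let j : J := ⟨(W ⊓ V).ι ''ᵁ U, _, _, hj⟩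
    have hmem : ξ ∈ (W ⊓ V).ι ''ᵁ U := ⟨⟨ξ, hξ⟩, hxU, rfl⟩
    exact TopologicalSpace.Opens.mem_iSup.mpr ⟨j, hmem⟩
  obtain ⟨W₂, hW₂, hyW₂, hW₂W⟩ : ∃ W₂ : Y.Opens, IsAffineOpen W₂ ∧ y ∈ W₂ ∧ W₂ ≤ W := by
    obtain ⟨_, ⟨W₂, hW₂, rfl⟩, hyW₂, hW₂W⟩ :=
      Y.isBasis_affineOpens.exists_subset_of_mem_open hyW W.2
    exact ⟨W₂, hW₂, hyW₂, hW₂W⟩
  have hW₂W' : W₂ ≤ W := hW₂W
  have : IsAffine W₂.toScheme := hW₂
  have hLN₂ : IsLocallyNoetherian W₂.toScheme := inferInstance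
  have hCS₂ : CompactSpace W₂.toScheme := inferInstance
  have : IsNoetherian W₂.toScheme := { }
  have hNoe : NoetherianSpace W₂.toScheme := inferInstance
  have hQS : QuasiSober W₂.toScheme := inferInstance
  let A : Set W₂.toScheme := {w | w.1 ∈ V}
  let B : Set W₂.toScheme := {w | w.1 ∈ O₀}
  have hA : IsOpen A := V.2.preimage continuous_subtype_val
  have hB : IsOpen B := O₀.2.preimage continuous_subtype_val
  have hBA : B ⊆ A := fun z hz => hO₀V hz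
  have hyAB : ∀ ξ ∈ A, ξ ⤳ (⟨y, hyW₂⟩ : W₂.toScheme) → ξ ∈ B := by
    intro ξ hξ hsp
    have h3 : ξ.1 ⤳ y := hsp.map continuous_subtype_val
    exact hgen ξ.1 ⟨hW₂W' ξ.2, hξ⟩ h3
  have hT := Groth.Agent.Lib.Helper45.NeronDescT.exists_open_nhd_inter_subset
    (W := W₂.toScheme) A B hA hB hBA ⟨y, hyW₂⟩ hyAB
  obtain ⟨W's, hW'o, hyW', hsub⟩ := hT
  let W'op : W₂.toScheme.Opens := ⟨W's, hW'o⟩
  refine ⟨W₂.ι ''ᵁ W'op, (W₂.ι_image_le W'op).trans hW₂W', ⟨⟨y, hyW₂⟩, hyW', rfl⟩, ?_⟩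
  have hle : (W₂.ι ''ᵁ W'op) ⊓ V ≤ O₀ := by
    rintro z ⟨⟨w, hw, rfl⟩, hzV⟩
    exact hsub ⟨hw, hzV⟩
  rw [Scheme.homOfLE_homOfLE_assoc]
  rw [← Scheme.homOfLE_homOfLE_assoc Y hle hO₀W, hO₀, Scheme.homOfLE_homOfLE_assoc]

end Groth.Agent.Lib.Helper14.NeronDescS
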