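import Mathlib
import Groth.Agent.Lib.Helper14.Abhyankar

set_option autoImplicit false
universe u
namespace Groth.Agent.Lib.Helper14.ValChain
open Groth.Agent.Lib.Helper14.Abhyankar


theorem exp_aux {R ι : Type*} [CommRing R] [IsDomain R] [Fintype ι] [LinearOrder ι]
    (P : ι → Ideal R) [hP : ∀ i, (P i).IsPrime] (x : ι → R)
    (hxP : ∀ i, x i ∈ P i) (hxn : ∀ i j, i < j → x j ∉ P i) (c c' : R)
    (hc' : ∀ i, c' ∉ P i) (a b : ι → ℕ) (i : ι)
    (hlt : ∀ j, j < i → b j = 0) (hai : a i ≠ 0) (hbi : b i = 0)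
    (h : c * ∏ j, x j ^ a j = c' * ∏ j, x j ^ b j) : False := by
  classical
  have hL : c * ∏ j, x j ^ a j ∈ P i := by
    apply Ideal.mul_mem_left
    have hdvd : x i ^ a i ∣ ∏ j, x j ^ a j := Finset.dvd_prod_of_mem _ (Finset.mem_univ i)
    have hmem : x i ^ a i ∈ P i := Ideal.pow_mem_of_mem _ (hxP i) _ (Nat.pos_of_ne_zero hai)
    exact Ideal.mem_of_dvd _ hdvd hmem
  rw [h] at hL
  rcases (hP i).mem_or_mem hL with h1 | h1
  · exact hc' i h1
  · rw [Ideal.IsPrime.prod_mem_iff] at h1
    obtain ⟨j, _, hj⟩ := h1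
    rcases lt_trichotomy j i with hji | hji | hji
    · rw [hlt j hji, pow_zero] at hj
      exact (hP i).ne_top ((Ideal.eq_top_iff_one _).2 hj)
    · rw [hji, hbi, pow_zero] at hj
      exact (hP i).ne_top ((Ideal.eq_top_iff_one _).2 hj)
    · exact hxn i j hji ((hP i).mem_of_pow_mem _ hj)

theorem exp_disjoint {R ι : Type*} [CommRing R] [IsDomain R] [Fintype ι] [LinearOrder ι]
    (P : ι → Ideal R) [hP : ∀ i, (P i).IsPrime] (x : ι → R)
    (hxP : ∀ i, x i ∈ P i) (hxn : ∀ i j, i < j → x j ∉ P i) (c c' : R)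
    (hc : ∀ i, c ∉ P i) (hc' : ∀ i, c' ∉ P i) (a b : ι → ℕ)
    (hab : ∀ i, a i = 0 ∨ b i = 0)
    (h : c * ∏ j, x j ^ a j = c' * ∏ j, x j ^ b j) : ∀ i, a i = 0 ∧ b i = 0 := by
  classical
  by_contra hne
  push Not at hne
  let S : Finset ι := Finset.univ.filter fun i => ¬ (a i = 0 ∧ b i = 0)
  have hS : S.Nonempty := by
    obtain ⟨i, hi⟩ := hne
    exact ⟨i, by simp only [S, Finset.mem_filter, Finset.mem_univ, true_and]; tauto⟩
  have hiS : S.min' hS ∈ S := Finset.min'_mem S hS
  have hmin : ∀ j, j < S.min' hS → a j = 0 ∧ b j = 0 := by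
    intro j hj
    by_contra hcon
    have hjS : j ∈ S := by
      simp only [S, Finset.mem_filter, Finset.mem_univ, true_and]; exact hcon
    exact absurd (Finset.min'_le S j hjS) (not_le.2 hj)
  generalize S.min' hS = i at hiS hmin
  simp only [S, Finset.mem_filter, Finset.mem_univ, true_and] at hiS
  rcases hab i with hai | hbi
  · have hbi : b i ≠ 0 := fun hb => hiS ⟨hai, hb⟩
    exact exp_aux P x hxP hxn c' c hc b a i (fun j hj => (hmin j hj).1) hbi hai h.symm
  · have hai : a i ≠ 0 := fun ha => hiS ⟨ha, hbi⟩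
    exact exp_aux P x hxP hxn c c' hc' a b i (fun j hj => (hmin j hj).2) hai hbi h

theorem exp_eq_of_chain {R ι : Type*} [CommRing R] [IsDomain R] [Fintype ι] [LinearOrder ι]
    (P : ι → Ideal R) [hP : ∀ i, (P i).IsPrime] (x : ι → R) (hx0 : ∀ i, x i ≠ 0)
    (hxP : ∀ i, x i ∈ P i) (hxn : ∀ i j, i < j → x j ∉ P i) (c c' : R)
    (hc : ∀ i, c ∉ P i) (hc' : ∀ i, c' ∉ P i) (a b : ι → ℕ)
    (h : c * ∏ j, x j ^ a j = c' * ∏ j, x j ^ b j) : a = b := by
  classical
  have hA : ∏ j, x j ^ a j =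
      (∏ j, x j ^ (min (a j) (b j))) * ∏ j, x j ^ (a j - min (a j) (b j)) := by
    rw [← Finset.prod_mul_distrib]
    refine Finset.prod_congr rfl fun j _ => ?_
    rw [← pow_add]
    congr 1
    omega
  have hB : ∏ j, x j ^ b j =
      (∏ j, x j ^ (min (a j) (b j))) * ∏ j, x j ^ (b j - min (a j) (b j)) := by
    rw [← Finset.prod_mul_distrib]
    refine Finset.prod_congr rfl fun j _ => ?_
    rw [← pow_add]
    congr 1
    omega
  have hM : (∏ j, x j ^ (min (a j) (b j))) ≠ 0 := by
    rw [Finset.prod_ne_zero_iff]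
    intro j _
    exact pow_ne_zero _ (hx0 j)
  have h2 : c * ∏ j, x j ^ (a j - min (a j) (b j)) = c' * ∏ j, x j ^ (b j - min (a j) (b j)) := by
    apply mul_left_cancel₀ hM
    rw [hA, hB] at h
    linear_combination h
  have := exp_disjoint P x hxP hxn c c' hc hc' _ _ (fun i => by omega) h2
  funext i
  have := this i
  omega



section
variable {K Γ : Type*} [Field K] [LinearOrderedCommGroupWithZero Γ] (v : Valuation K Γ)

theorem val_natCast_le_one (n : ℕ) : v (n : K) ≤ 1 := by
  induction n with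
  | zero => simp
  | succ n ih =>
    rw [Nat.cast_succ]
    exact (v.map_add _ _).trans (max_le ih (by simp))

theorem val_intCast_le_one (z : ℤ) : v (z : K) ≤ 1 := by
  rcases Int.eq_nat_or_neg z with ⟨n, rfl | rfl⟩
  · simpa using val_natCast_le_one v n
  · simpa [Valuation.map_neg] using val_natCast_le_one v n

def ltIdeal : Ideal ℤ where
  carrier := {z | v (z : K) < 1}
  add_mem' := by
    intro a b ha hb
    simp only [Set.mem_ofPred_eq, Int.cast_add] at *
    exact lt_of_le_of_lt (v.map_add _ _) (max_lt ha hb)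
  zero_mem' := by simp
  smul_mem' := by
    intro c a ha
    simp only [Set.mem_ofPred_eq, smul_eq_mul, Int.cast_mul, map_mul] at *
    calc v c * v a ≤ 1 * v a := by gcongr; exact val_intCast_le_one v c
      _ = v a := one_mul _
      _ < 1 := ha

theorem mem_ltIdeal (z : ℤ) : z ∈ ltIdeal v ↔ v (z : K) < 1 := Iff.rfl

theorem ltIdeal_isPrime : (ltIdeal v).IsPrime := by
  refine ⟨?_, ?_⟩
  · rw [Ne, Ideal.eq_top_iff_one, mem_ltIdeal]
    simp
  · intro a b hab
    rw [mem_ltIdeal] at hab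
    simp only [mem_ltIdeal]
    by_contra hcon
    rw [not_or, not_lt, not_lt] at hcon
    have ha : v (a : K) = 1 := le_antisymm (val_intCast_le_one v a) hcon.1
    have hb : v (b : K) = 1 := le_antisymm (val_intCast_le_one v b) hcon.2
    rw [Int.cast_mul, map_mul, ha, hb, one_mul] at hab
    exact lt_irrefl _ hab

theorem exists_int_val : ∃ l : ℤ, (l : K) ≠ 0 ∧
    ∀ z : ℤ, (z : K) ≠ 0 → ∃ r : ℕ, v (z : K) = v (l : K) ^ r := by
  by_cases hcase : ∀ z : ℤ, (z : K) ≠ 0 → v (z : K) = 1
  · exact ⟨1, by simp, fun z hz => ⟨0, by rw [hcase z hz, pow_zero]⟩⟩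
  · push Not at hcase
    obtain ⟨z0, hz0, hvz0⟩ := hcase
    have hz0lt : v (z0 : K) < 1 := lt_of_le_of_ne (val_intCast_le_one v z0) hvz0
    have := ltIdeal_isPrime v
    have hne : ltIdeal v ≠ ⊥ := by
      intro h
      have hm : z0 ∈ ltIdeal v := hz0lt
      rw [h, Ideal.mem_bot] at hm
      apply hz0
      rw [hm, Int.cast_zero]
    have hprime := Submodule.IsPrincipal.prime_generator_of_isPrime (ltIdeal v) hne
    set l := Submodule.IsPrincipal.generator (ltIdeal v) with hl
    have hmemdvd : ∀ z : ℤ, z ∈ ltIdeal v ↔ l ∣ z := fun z =>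
      Submodule.IsPrincipal.mem_iff_generator_dvd (ltIdeal v)
    have hl0 : (l : K) ≠ 0 := by
      obtain ⟨w, hw⟩ := (hmemdvd z0).1 hz0lt
      intro h0
      apply hz0
      rw [hw, Int.cast_mul, h0, zero_mul]
    refine ⟨l, hl0, fun z hz => ?_⟩
    have hz' : z ≠ 0 := by
      rintro rfl
      exact hz Int.cast_zero
    obtain ⟨n, a, hna, rfl⟩ := WfDvdMonoid.max_power_factor hz' hprime.irreducible
    refine ⟨n, ?_⟩
    have hva : v (a : K) = 1 := by
      refine le_antisymm (val_intCast_le_one v a) ?_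
      by_contra hlt
      rw [not_le] at hlt
      exact hna ((hmemdvd a).1 hlt)
    rw [Int.cast_mul, Int.cast_pow, map_mul, map_pow, hva, mul_one]

theorem exists_prime_field_val : ∃ l : ℤ, (l : K) ≠ 0 ∧
    ∀ k ∈ (⊥ : Subfield K), k ≠ 0 → ∃ m : ℤ, v k = v (l : K) ^ m := by
  obtain ⟨l, hl0, hl⟩ := exists_int_val v
  refine ⟨l, hl0, fun k hk hk0 => ?_⟩
  rw [← Subfield.closure_empty, Subfield.mem_closure_iff, Subring.closure_empty] at hk
  obtain ⟨y, hy, z, hz, rfl⟩ := hk
  rw [Subring.mem_bot] at hy hz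
  obtain ⟨a, rfl⟩ := hy
  obtain ⟨b, rfl⟩ := hz
  have ha0 : (a : K) ≠ 0 := fun h => hk0 (by rw [h, zero_div])
  have hb0 : (b : K) ≠ 0 := fun h => hk0 (by rw [h, div_zero])
  obtain ⟨r1, hr1⟩ := hl a ha0
  obtain ⟨r2, hr2⟩ := hl b hb0
  refine ⟨(r1 : ℤ) - r2, ?_⟩
  have hvl : v (l : K) ≠ 0 := by rwa [Ne, map_eq_zero]
  rw [map_div₀, hr1, hr2, zpow_sub₀ hvl, zpow_natCast, zpow_natCast]

end


section
variable {K Γ B : Type*} [Field K] [LinearOrderedCommGroupWithZero Γ]
    (v : Valuation K Γ) [CommRing B] [IsDomain B] (φ : B →+* K) (hφ : Function.Injective φ)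
    (Q : Ideal B)
    (hQ : ∀ X Y : B, X ≠ 0 → Y ≠ 0 → v (φ X) = v (φ Y) →
      ∃ c c' : B, c ∉ Q ∧ c' ∉ Q ∧ c * X = c' * Y)
    (l : B) (hl0 : l ≠ 0)
    (hl : ∀ k ∈ (⊥ : Subfield K), k ≠ 0 → ∃ m : ℤ, v k = v (φ l) ^ m)

include hφ hQ hl0 hl in
theorem exists_eq_of_val_eq (X X' : B) (hX : X ≠ 0) (hX' : X' ≠ 0) (k : K)
    (hk : k ∈ (⊥ : Subfield K)) (hk0 : k ≠ 0) (h : v (φ X) = v k * v (φ X')) :
    ∃ (e e' : ℕ) (c c' : B), c ∉ Q ∧ c' ∉ Q ∧ c * (l ^ e * X) = c' * (l ^ e' * X') := by
  obtain ⟨m, hm⟩ := hl k hk hk0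
  refine ⟨(-m).toNat, m.toNat, ?_⟩
  have hvl : v (φ l) ≠ 0 := by
    rw [Ne, map_eq_zero, map_eq_zero_iff _ hφ]
    exact hl0
  have hv : v (φ (l ^ (-m).toNat * X)) = v (φ (l ^ m.toNat * X')) := by
    rw [map_mul, map_mul, map_pow, map_pow, map_mul, map_mul, map_pow, map_pow, h, hm,
      ← mul_assoc]
    congr 1
    rw [← zpow_natCast, ← zpow_natCast, ← zpow_add₀ hvl]
    congr 1
    omega
  exact hQ _ _ (mul_ne_zero (pow_ne_zero _ hl0) hX) (mul_ne_zero (pow_ne_zero _ hl0) hX') hv

include hφ hQ hl0 hl in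
theorem exists_algIndep_of_chain (p : LTSeries (PrimeSpectrum B)) (hp : p.last.asIdeal ≤ Q) :
    ∃ (s : Type) (_ : Fintype s) (y : s → B), p.length ≤ Fintype.card s + 1 ∧
      AlgebraicIndependent (⊥ : Subfield K) (fun j => φ (y j)) := by
  classical
  have hstep : ∀ i : Fin p.length,
      ∃ xi : B, xi ∈ (p i.succ).asIdeal ∧ xi ∉ (p i.castSucc).asIdeal := by
    intro i
    have hlt : (p i.castSucc).asIdeal < (p i.succ).asIdeal := p.step i
    obtain ⟨xi, h1, h2⟩ := SetLike.exists_of_lt hlt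
    exact ⟨xi, h1, h2⟩
  choose x hx1 hx2 using hstep
  let P : Fin p.length → Ideal B := fun i => (p i.succ).asIdeal
  have hPprime : ∀ i, (P i).IsPrime := fun i => (p i.succ).isPrime
  have hmono : ∀ a b : Fin (p.length + 1), a ≤ b → (p a).asIdeal ≤ (p b).asIdeal :=
    fun a b hab => p.monotone hab
  have hPQ : ∀ i, P i ≤ Q := fun i => (hmono _ (Fin.last _) (Fin.le_last _)).trans hp
  have hx0 : ∀ i, x i ≠ 0 := fun i h0 => hx2 i (h0 ▸ Ideal.zero_mem _)
  have hxn : ∀ i j, i < j → x j ∉ P i := by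
    intro i j hij hmem
    apply hx2 j
    refine hmono i.succ j.castSucc ?_ hmem
    rw [Fin.le_def]
    simp only [Fin.val_succ, Fin.val_castSucc]
    exact hij
  have hcQ : ∀ c : B, c ∉ Q → ∀ i, c ∉ P i := fun c hc i hci => hc (hPQ i hci)
  by_cases hB : ∃ i, l ∈ P i
  · let S : Finset (Fin p.length) := Finset.univ.filter fun i => l ∈ P i
    have hS : S.Nonempty := by
      obtain ⟨i, hi⟩ := hB
      exact ⟨i, by simp only [S, Finset.mem_filter, Finset.mem_univ, true_and]; exact hi⟩
    have hiS : S.min' hS ∈ S := Finset.min'_mem S hS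
    have hmin : ∀ j, j < S.min' hS → l ∉ P j := by
      intro j hj hcon
      have hjS : j ∈ S := by
        simp only [S, Finset.mem_filter, Finset.mem_univ, true_and]; exact hcon
      exact absurd (Finset.min'_le S j hjS) (not_le.2 hj)
    generalize S.min' hS = i₀ at hiS hmin
    simp only [S, Finset.mem_filter, Finset.mem_univ, true_and] at hiS
    let x' : Fin p.length → B := Function.update x i₀ l
    have hx0' : ∀ i, x' i ≠ 0 := by
      intro i
      by_cases hi : i = i₀
      · simp only [x', hi, Function.update_self]; exact hl0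
      · simp only [x', Function.update_of_ne hi]; exact hx0 i
    have hx1' : ∀ i, x' i ∈ P i := by
      intro i
      by_cases hi : i = i₀
      · rw [hi]; simp only [x', Function.update_self]; exact hiS
      · simp only [x', Function.update_of_ne hi]; exact hx1 i
    have hxn' : ∀ i j, i < j → x' j ∉ P i := by
      intro i j hij
      by_cases hj : j = i₀
      · rw [hj]; simp only [x', Function.update_self]; exact hmin i (hj ▸ hij)
      · simp only [x', Function.update_of_ne hj]; exact hxn i j hij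
    refine ⟨{i : Fin p.length // i ≠ i₀}, inferInstance, fun j => x j.1, ?_, ?_⟩
    · have : Fintype.card {i : Fin p.length // i ≠ i₀} = p.length - 1 := by
        simp [Fintype.card_subtype_compl]
      omega
    · apply algebraicIndependent_of_distinct_val (K := (⊥ : Subfield K)) v
        (F := (⊥ : Subfield K)) Subtype.val_injective
      · intro c hc
        exact ⟨c, hc, rfl⟩
      · intro j
        rw [Ne, map_eq_zero_iff _ hφ]
        exact hx0 j.1
      · intro β β' k hk hv
        have hprod : ∀ γ : {i : Fin p.length // i ≠ i₀} →₀ ℕ,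
            (γ.prod fun j e => φ (x j.1) ^ e) = φ (∏ j, x j.1 ^ γ j) := by
          intro γ
          rw [Finsupp.prod_fintype _ _ (fun _ => pow_zero _), map_prod]
          simp only [map_pow]
        rw [hprod, hprod] at hv
        have hne : ∀ γ : {i : Fin p.length // i ≠ i₀} →₀ ℕ, (∏ j, x j.1 ^ γ j) ≠ 0 := by
          intro γ
          rw [Finset.prod_ne_zero_iff]
          intro j _
          exact pow_ne_zero _ (hx0 j.1)
        have hk0 : (k : K) ≠ 0 := by
          intro h0
          exact hk (Subtype.ext h0)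
        obtain ⟨e, e', c, c', hc, hc', hcc⟩ := exists_eq_of_val_eq v φ hφ Q hQ l hl0 hl _ _
          (hne β) (hne β') (k : K) k.2 hk0 hv
        have hkey : ∀ (γ : {i : Fin p.length // i ≠ i₀} →₀ ℕ) (d : ℕ),
            ∏ i, x' i ^ (if h : i = i₀ then d else γ ⟨i, h⟩) = l ^ d * ∏ j, x j.1 ^ γ j := by
          intro γ d
          rw [← Finset.mul_prod_erase Finset.univ _ (Finset.mem_univ i₀)]
          congr 1
          · simp only [x', Function.update_self, dif_pos]
          · rw [Finset.prod_subtype (Finset.univ.erase i₀) (p := fun i => i ≠ i₀)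
              (fun i => by simp)]
            refine Finset.prod_congr rfl fun j _ => ?_
            simp only [x', Function.update_of_ne j.2, dif_neg j.2]
        have := exp_eq_of_chain P x' hx0' hx1' hxn' c c' (hcQ c hc) (hcQ c' hc')
          (fun i => if h : i = i₀ then e else β ⟨i, h⟩)
          (fun i => if h : i = i₀ then e' else β' ⟨i, h⟩) (by rw [hkey, hkey]; exact hcc)
        ext j
        have hj := congr_fun this j.1
        simpa only [dif_neg j.2] using hj
  · rw [not_exists] at hB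
    refine ⟨Fin p.length, inferInstance, x, by simp, ?_⟩
    apply algebraicIndependent_of_distinct_val (K := (⊥ : Subfield K)) v
      (F := (⊥ : Subfield K)) Subtype.val_injective
    · intro c hc
      exact ⟨c, hc, rfl⟩
    · intro j
      rw [Ne, map_eq_zero_iff _ hφ]
      exact hx0 j
    · intro β β' k hk hv
      have hprod : ∀ γ : Fin p.length →₀ ℕ,
          (γ.prod fun j e => φ (x j) ^ e) = φ (∏ j, x j ^ γ j) := by
        intro γ
        rw [Finsupp.prod_fintype _ _ (fun _ => pow_zero _), map_prod]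
        simp only [map_pow]
      rw [hprod, hprod] at hv
      have hne : ∀ γ : Fin p.length →₀ ℕ, (∏ j, x j ^ γ j) ≠ 0 := by
        intro γ
        rw [Finset.prod_ne_zero_iff]
        intro j _
        exact pow_ne_zero _ (hx0 j)
      have hk0 : (k : K) ≠ 0 := by
        intro h0
        exact hk (Subtype.ext h0)
      obtain ⟨e, e', c, c', hc, hc', hcc⟩ := exists_eq_of_val_eq v φ hφ Q hQ l hl0 hl _ _
        (hne β) (hne β') (k : K) k.2 hk0 hv
      have hav : ∀ (c : B) (e : ℕ), c ∉ Q → ∀ i, c * l ^ e ∉ P i := by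
        intro c e hc i hmem
        rcases (hPprime i).mem_or_mem hmem with h1 | h1
        · exact hcQ c hc i h1
        · exact hB i ((hPprime i).mem_of_pow_mem _ h1)
      have := exp_eq_of_chain P x hx0 hx1 hxn (c * l ^ e) (c' * l ^ e') (hav c e hc)
        (hav c' e' hc') (fun j => β j) (fun j => β' j)
        (by rw [mul_assoc, mul_assoc]; exact hcc)
      exact DFunLike.coe_injective this

end
end Groth.Agent.Lib.Helper14.ValChain
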