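import Mathlib
import Groth.Agent.Lib.Helper14.ValChain
import Groth.Agent.Lib.Helper14.FinTrdeg

set_option autoImplicit false
universe u
namespace Groth.Agent.Lib.Helper14.PruferInter
open Finset Groth.Agent.Lib.Helper14.ValChain Groth.Agent.Lib.Helper14.FinTrdeg


section
variable {R : Type u} [CommRing R] [IsDomain R]

local notation "aK" => algebraMap R (FractionRing R)

omit [IsDomain R] in
theorem aK_ne_zero {m : Ideal R} [m.IsPrime] {t : R} (ht : t ∉ m) : aK t ≠ 0 := by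
  rw [Ne, map_eq_zero_iff _ (IsFractionRing.injective R (FractionRing R))]
  rintro rfl
  exact ht (Ideal.zero_mem _)

def locSubring (m : Ideal R) [hm : m.IsPrime] : Subring (FractionRing R) where
  carrier := {x | ∃ r t : R, t ∉ m ∧ x = aK r / aK t}
  mul_mem' := by
    rintro x y ⟨r, t, ht, rfl⟩ ⟨r', t', ht', rfl⟩
    refine ⟨r * r', t * t', fun h => (hm.mem_or_mem h).elim ht ht', ?_⟩
    rw [map_mul, map_mul, div_mul_div_comm]
  one_mem' := ⟨1, 1, fun h => hm.ne_top ((Ideal.eq_top_iff_one _).2 h), by simp⟩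
  add_mem' := by
    rintro x y ⟨r, t, ht, rfl⟩ ⟨r', t', ht', rfl⟩
    refine ⟨r * t' + r' * t, t * t', fun h => (hm.mem_or_mem h).elim ht ht', ?_⟩
    have h1 := aK_ne_zero ht
    have h2 := aK_ne_zero ht'
    rw [map_add, map_mul, map_mul, map_mul]
    field_simp
  zero_mem' := ⟨0, 1, fun h => hm.ne_top ((Ideal.eq_top_iff_one _).2 h), by simp⟩
  neg_mem' := by
    rintro x ⟨r, t, ht, rfl⟩
    exact ⟨-r, t, ht, by rw [map_neg, neg_div]⟩

theorem mem_locSubring (m : Ideal R) [m.IsPrime] (x : FractionRing R) :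
    x ∈ locSubring m ↔ ∃ r t : R, t ∉ m ∧ x = aK r / aK t := Iff.rfl

theorem algebraMap_mem_locSubring (m : Ideal R) [hm : m.IsPrime] (r : R) : aK r ∈ locSubring m :=
  ⟨r, 1, fun h => hm.ne_top ((Ideal.eq_top_iff_one _).2 h), by simp⟩

theorem inv_mem_locSubring (m : Ideal R) [m.IsPrime] (r : R) (hr : r ∉ m) :
    (aK r)⁻¹ ∈ locSubring m :=
  ⟨1, r, hr, by simp⟩

theorem inv_mem_locSubring_iff (m : Ideal R) [hm : m.IsPrime] (r : R) (hr0 : r ≠ 0) :
    (aK r)⁻¹ ∈ locSubring m ↔ r ∉ m := by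
  refine ⟨fun h hrm => ?_, inv_mem_locSubring m r⟩
  obtain ⟨r', t, ht, he⟩ := h
  have h1 := aK_ne_zero ht
  have hr0' : aK r ≠ 0 := by
    rwa [Ne, map_eq_zero_iff _ (IsFractionRing.injective R (FractionRing R))]
  have : aK t = aK (r * r') := by
    rw [map_mul]
    field_simp at he
    rw [he]
  have := IsFractionRing.injective R (FractionRing R) this
  exact ht (this ▸ Ideal.mul_mem_right _ _ hrm)

theorem mem_or_inv_mem_locSubring (m : Ideal R) [hm : m.IsPrime]
    (hV : ValuationRing (Localization.AtPrime m)) (x : FractionRing R) :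
    x ∈ locSubring m ∨ x⁻¹ ∈ locSubring m := by
  obtain ⟨r, t, ht, rfl⟩ := IsFractionRing.div_surjective (A := R) x
  have ht0 : t ≠ 0 := nonZeroDivisors.ne_zero ht
  by_cases hr0 : r = 0
  · left
    rw [hr0, map_zero, zero_div]
    exact Subring.zero_mem _
  have hinjL : Function.Injective (algebraMap R (Localization.AtPrime m)) :=
    IsLocalization.injective (Localization.AtPrime m) m.primeCompl_le_nonZeroDivisors
  obtain ⟨c, hc⟩ := ValuationRing.cond (algebraMap R (Localization.AtPrime m) r)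
    (algebraMap R (Localization.AtPrime m) t)
  obtain ⟨c1, c2, rfl⟩ := IsLocalization.exists_mk'_eq m.primeCompl c
  have hc2 : (c2 : R) ∉ m := c2.2
  have hc20 := aK_ne_zero hc2
  have hr0' : aK r ≠ 0 := by
    rwa [Ne, map_eq_zero_iff _ (IsFractionRing.injective R (FractionRing R))]
  have ht0' : aK t ≠ 0 := by
    rwa [Ne, map_eq_zero_iff _ (IsFractionRing.injective R (FractionRing R))]
  rcases hc with hc | hc
  · right
    have h1 : r * c1 = t * c2 := by
      apply hinjL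
      rw [map_mul, map_mul, ← hc, mul_assoc, IsLocalization.mk'_spec]
    refine ⟨c1, c2, hc2, ?_⟩
    have h2 : aK r * aK c1 = aK t * aK c2 := by rw [← map_mul, ← map_mul, h1]
    rw [inv_div, div_eq_div_iff hr0' hc20, ← h2, mul_comm]
  · left
    have h1 : t * c1 = r * c2 := by
      apply hinjL
      rw [map_mul, map_mul, ← hc, mul_assoc, IsLocalization.mk'_spec]
    refine ⟨c1, c2, hc2, ?_⟩
    have h2 : aK t * aK c1 = aK r * aK c2 := by rw [← map_mul, ← map_mul, h1]
    rw [div_eq_div_iff ht0' hc20, ← h2, mul_comm]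

def locVal (m : Ideal R) [hm : m.IsPrime] (hV : ValuationRing (Localization.AtPrime m)) :
    ValuationSubring (FractionRing R) :=
  { locSubring m with mem_or_inv_mem' := mem_or_inv_mem_locSubring m hV }

theorem mem_locVal (m : Ideal R) [hm : m.IsPrime] (hV : ValuationRing (Localization.AtPrime m))
    (x : FractionRing R) : x ∈ locVal m hV ↔ x ∈ locSubring m := Iff.rfl

theorem mem_range_of_forall_mem (x : FractionRing R)
    (h : ∀ (m : Ideal R) [m.IsMaximal], x ∈ locSubring m) : ∃ r : R, aK r = x := by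
  let I : Ideal R :=
    { carrier := {t | ∃ r : R, x * aK t = aK r}
      add_mem' := by
        rintro t t' ⟨r, hr⟩ ⟨r', hr'⟩
        exact ⟨r + r', by rw [map_add, map_add, mul_add, hr, hr']⟩
      zero_mem' := ⟨0, by simp⟩
      smul_mem' := by
        rintro c t ⟨r, hr⟩
        exact ⟨c * r, by rw [smul_eq_mul, map_mul, map_mul, mul_left_comm, hr]⟩ }
  have hI : I = ⊤ := by
    by_contra hne
    obtain ⟨m, hm, hIm⟩ := Ideal.exists_le_maximal I hne
    obtain ⟨r, t, ht, he⟩ := h m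
    apply ht
    apply hIm
    refine ⟨r, ?_⟩
    rw [he, div_mul_cancel₀ _ (aK_ne_zero ht)]
  have h1 : (1 : R) ∈ I := by rw [hI]; trivial
  obtain ⟨r, hr⟩ := h1
  exact ⟨r, by rw [← hr, map_one, mul_one]⟩

end


theorem geom_sum_two_primes {A : Type*} [CommRing A] [IsLocalRing A] (X : A) {t t' : ℕ}
    (ht : t.Prime) (ht' : t'.Prime) (hne : t ≠ t')
    (h1 : ¬ IsUnit (∑ i ∈ range t, X ^ i)) (h2 : ¬ IsUnit (∑ i ∈ range t', X ^ i)) : False := by
  have hres : ∀ n : ℕ, ¬ IsUnit (∑ i ∈ range n, X ^ i) →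
      ∑ i ∈ range n, (IsLocalRing.residue A X) ^ i = 0 := by
    intro n hn
    have : IsLocalRing.residue A (∑ i ∈ range n, X ^ i) = 0 := by
      rw [IsLocalRing.residue_eq_zero_iff]
      exact hn
    simpa [map_sum, map_pow] using this
  have hpow : ∀ n : ℕ, ¬ IsUnit (∑ i ∈ range n, X ^ i) → (IsLocalRing.residue A X) ^ n = 1 := by
    intro n hn
    have := geom_sum_mul (IsLocalRing.residue A X) n
    rw [hres n hn, zero_mul] at this
    exact (sub_eq_zero.1 this.symm)
  have hcop : Nat.Coprime t t' := (Nat.coprime_primes ht ht').2 hne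
  have hx1 : IsLocalRing.residue A X = 1 :=
    (pow_eq_one_iff_of_coprime hcop).1 ⟨hpow t h1, hpow t' h2⟩
  have hcast : ∀ n : ℕ, ¬ IsUnit (∑ i ∈ range n, X ^ i) →
      (n : IsLocalRing.ResidueField A) = 0 := by
    intro n hn
    have := hres n hn
    rw [hx1] at this
    simpa using this
  obtain ⟨a, b, hab⟩ := (Nat.isCoprime_iff_coprime.2 hcop)
  have h3 := congrArg (Int.cast : ℤ → IsLocalRing.ResidueField A) hab
  simp only [Int.cast_add, Int.cast_mul, Int.cast_natCast, hcast t h1, hcast t' h2, mul_zero,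
    add_zero, Int.cast_one] at h3
  exact zero_ne_one h3

theorem geom_sum_isUnit_of_mem {A : Type*} [CommRing A] [IsLocalRing A] (Y : A)
    (hY : Y ∈ IsLocalRing.maximalIdeal A) (t : ℕ) (ht : 1 ≤ t) :
    IsUnit (∑ i ∈ range t, Y ^ i) := by
  obtain ⟨n, rfl⟩ : ∃ n, t = n + 1 := ⟨t - 1, by omega⟩
  apply IsLocalRing.isUnit_of_mem_nonunits_one_sub_self
  rw [geom_sum_succ]
  have : 1 - (Y * ∑ i ∈ range n, Y ^ i + 1) = -(Y * ∑ i ∈ range n, Y ^ i) := by ring
  rw [this]
  change -(Y * ∑ i ∈ range n, Y ^ i) ∈ IsLocalRing.maximalIdeal A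
  exact neg_mem (Ideal.mul_mem_right _ _ hY)

theorem geom_sum_reflect {K : Type*} [Field K] (x : K) (hx : x ≠ 0) (t : ℕ) (ht : 1 ≤ t) :
    ∑ i ∈ range t, x ^ i = x ^ (t - 1) * ∑ j ∈ range t, (x⁻¹) ^ j := by
  rw [← Finset.sum_range_reflect, Finset.mul_sum]
  refine Finset.sum_congr rfl fun j hj => ?_
  rw [Finset.mem_range] at hj
  rw [pow_sub₀ _ hx (by omega : j ≤ t - 1), inv_pow]



section
variable {R : Type u} [CommRing R] [IsDomain R]
  (hR : ∀ (p : Ideal R) [p.IsPrime], ValuationRing (Localization.AtPrime p))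

local notation "aK" => algebraMap R (FractionRing R)

noncomputable def W (m' : MaximalSpectrum R) : ValuationSubring (FractionRing R) :=
  @locVal R _ _ m'.asIdeal m'.isMaximal.isPrime (@hR m'.asIdeal m'.isMaximal.isPrime)

theorem mem_W (m' : MaximalSpectrum R) (x : FractionRing R) :
    x ∈ W hR m' ↔ x ∈ @locSubring R _ _ m'.asIdeal m'.isMaximal.isPrime := Iff.rfl

theorem coe_geom_sum {K : Type*} [Field K] (V : ValuationSubring K) (X : V) (t : ℕ) :
    ((∑ i ∈ range t, X ^ i : V) : K) = ∑ i ∈ range t, (X : K) ^ i := by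
  rw [AddSubmonoidClass.coe_finsetSum]
  simp

theorem geom_sum_good [Finite (MaximalSpectrum R)] (x : FractionRing R) :
    ∃ t : ℕ, t.Prime ∧ ∀ (m' : MaximalSpectrum R) (hx : x ∈ W hR m'),
      IsUnit (∑ i ∈ range t, (⟨x, hx⟩ : W hR m') ^ i) := by
  classical
  let bad : MaximalSpectrum R → Set ℕ := fun m' =>
    {t | t.Prime ∧ ∃ hx : x ∈ W hR m', ¬ IsUnit (∑ i ∈ range t, (⟨x, hx⟩ : W hR m') ^ i)}
  have hbad : ∀ m', (bad m').Subsingleton := by
    intro m' t ht t' ht'
    by_contra hne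
    obtain ⟨hp, hx, h1⟩ := ht
    obtain ⟨hp', _, h2⟩ := ht'
    exact geom_sum_two_primes (⟨x, hx⟩ : W hR m') hp hp' hne h1 h2
  have hfin : (⋃ m', bad m').Finite := Set.finite_iUnion fun m' => (hbad m').finite
  obtain ⟨t, htp, htb⟩ := Nat.infinite_setOfPred_prime.exists_notMem_finite hfin
  refine ⟨t, htp, fun m' hx => ?_⟩
  by_contra hnu
  apply htb
  rw [Set.mem_iUnion]
  exact ⟨m', htp, hx, hnu⟩

theorem inv_geom_sum_mem (m' : MaximalSpectrum R) (x : FractionRing R) (t : ℕ) (ht : 2 ≤ t)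
    (hgood : ∀ (hx : x ∈ W hR m'), IsUnit (∑ i ∈ range t, (⟨x, hx⟩ : W hR m') ^ i)) :
    (∑ i ∈ range t, x ^ i)⁻¹ ∈ W hR m' ∧ x * (∑ i ∈ range t, x ^ i)⁻¹ ∈ W hR m' ∧
      (x ∈ W hR m' → (∑ i ∈ range t, x ^ i) ≠ 0 ∧ (∑ i ∈ range t, x ^ i) ∈ W hR m') := by
  by_cases hx : x ∈ W hR m'
  · obtain ⟨U', hU'⟩ := (hgood hx).exists_right_inv
    have h1 : (∑ i ∈ range t, x ^ i) * (U' : FractionRing R) = 1 := by
      have := congrArg (Subtype.val : W hR m' → FractionRing R) hU'
      rw [MulMemClass.coe_mul, coe_geom_sum] at this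
      exact this
    have hu0 : (∑ i ∈ range t, x ^ i) ≠ 0 := left_ne_zero_of_mul_eq_one h1
    have h2 : (∑ i ∈ range t, x ^ i)⁻¹ = (U' : FractionRing R) :=
      (eq_inv_of_mul_eq_one_right h1).symm
    refine ⟨by rw [h2]; exact U'.2, by rw [h2]; exact mul_mem hx U'.2, fun _ => ⟨hu0, ?_⟩⟩
    rw [← coe_geom_sum (W hR m') ⟨x, hx⟩ t]
    exact Subtype.mem _
  · have hx0 : x ≠ 0 := by
      rintro rfl
      exact hx (zero_mem _)
    have hxi : x⁻¹ ∈ W hR m' := ((W hR m').mem_or_inv_mem x).resolve_left hx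
    have hY : (⟨x⁻¹, hxi⟩ : W hR m') ∈ IsLocalRing.maximalIdeal (W hR m') := by
      rw [IsLocalRing.mem_maximalIdeal, mem_nonunits_iff]
      intro hu
      obtain ⟨Y', hY'⟩ := hu.exists_right_inv
      have := congrArg (Subtype.val : W hR m' → FractionRing R) hY'
      rw [MulMemClass.coe_mul] at this
      have h3 : (Y' : FractionRing R) = x := by
        have h4 : x⁻¹ * (Y' : FractionRing R) = 1 := this
        field_simp at h4
        exact h4
      exact hx (h3 ▸ Y'.2)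
    obtain ⟨W'', hW''⟩ := (geom_sum_isUnit_of_mem _ hY t (by omega)).exists_right_inv
    have h1 : (∑ j ∈ range t, (x⁻¹) ^ j) * (W'' : FractionRing R) = 1 := by
      have := congrArg (Subtype.val : W hR m' → FractionRing R) hW''
      rw [MulMemClass.coe_mul, coe_geom_sum] at this
      exact this
    have hs0 : (∑ j ∈ range t, (x⁻¹) ^ j) ≠ 0 := left_ne_zero_of_mul_eq_one h1
    have h2 : (∑ j ∈ range t, (x⁻¹) ^ j)⁻¹ = (W'' : FractionRing R) :=
      (eq_inv_of_mul_eq_one_right h1).symm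
    have h5 : (∑ i ∈ range t, x ^ i)⁻¹ = (x⁻¹) ^ (t - 1) * (W'' : FractionRing R) := by
      rw [geom_sum_reflect x hx0 t (by omega), mul_inv, h2, inv_pow]
    refine ⟨?_, ?_, fun h => absurd h hx⟩
    · rw [h5]
      exact mul_mem (pow_mem hxi _) W''.2
    · rw [h5]
      have h6 : x * ((x⁻¹) ^ (t - 1) * (W'' : FractionRing R)) =
          (x⁻¹) ^ (t - 2) * (W'' : FractionRing R) := by
        have : t - 1 = (t - 2) + 1 := by omega
        rw [this, pow_succ]
        field_simp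
      rw [h6]
      exact mul_mem (pow_mem hxi _) W''.2

theorem exists_frac_of_mem [Finite (MaximalSpectrum R)] (E : Subfield (FractionRing R))
    (m : MaximalSpectrum R) (x : FractionRing R) (hxE : x ∈ E) (hxV : x ∈ W hR m) :
    ∃ b c : R, aK b ∈ E ∧ aK c ∈ E ∧ c ∉ m.asIdeal ∧ x * aK c = aK b := by
  obtain ⟨t, htp, hgood⟩ := geom_sum_good hR x
  have hkey := fun m' => inv_geom_sum_mem hR m' x t htp.two_le (hgood m')
  have huE : (∑ i ∈ range t, x ^ i) ∈ E := sum_mem fun i _ => pow_mem hxE i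
  obtain ⟨c, hc⟩ := mem_range_of_forall_mem ((∑ i ∈ range t, x ^ i)⁻¹) (fun m' hm' =>
    (hkey ⟨m', hm'⟩).1)
  obtain ⟨b, hb⟩ := mem_range_of_forall_mem (x * (∑ i ∈ range t, x ^ i)⁻¹) (fun m' hm' =>
    (hkey ⟨m', hm'⟩).2.1)
  obtain ⟨hu0, huV⟩ := (hkey m).2.2 hxV
  refine ⟨b, c, by rw [hb]; exact mul_mem hxE (inv_mem huE), by rw [hc]; exact inv_mem huE,
    ?_, by rw [hc, hb]⟩
  have := m.isMaximal.isPrime
  have hc0 : c ≠ 0 := by
    rintro rfl
    rw [map_zero] at hc
    exact inv_ne_zero hu0 hc.symm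
  rw [← inv_mem_locSubring_iff m.asIdeal c hc0, hc, inv_inv]
  exact huV

end


section
variable {R : Type u} [CommRing R] [IsDomain R]
  (hR : ∀ (p : Ideal R) [p.IsPrime], ValuationRing (Localization.AtPrime p))
  (E : Subfield (FractionRing R))

local notation "aK" => algebraMap R (FractionRing R)

def subR : Subring R := E.toSubring.comap aK

theorem mem_subR (r : R) : r ∈ subR E ↔ aK r ∈ E := Iff.rfl

noncomputable def cm (m : MaximalSpectrum R) : Ideal (subR E) :=
  m.asIdeal.comap (subR E).subtype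

theorem mem_cm (m : MaximalSpectrum R) (x : subR E) : x ∈ cm E m ↔ (x : R) ∈ m.asIdeal := Iff.rfl

theorem cm_isPrime (m : MaximalSpectrum R) : (cm E m).IsPrime := by
  have := m.isMaximal.isPrime
  exact Ideal.comap_isPrime _ _

theorem exists_maximal_ge [Finite (MaximalSpectrum R)] (𝔭 : Ideal (subR E)) (h𝔭 : 𝔭 ≠ ⊤) :
    ∃ m : MaximalSpectrum R, 𝔭 ≤ cm E m := by
  classical
  have := Fintype.ofFinite (MaximalSpectrum R)
  obtain ⟨m0, hm0⟩ := Ideal.exists_maximal R
  let m₀ : MaximalSpectrum R := ⟨m0, hm0⟩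
  have key := Ideal.subset_union_prime (s := (Finset.univ : Finset (MaximalSpectrum R)))
    (f := cm E) m₀ m₀ (fun i _ _ _ => cm_isPrime E i) (I := 𝔭)
  by_contra hcon
  rw [not_exists] at hcon
  have h1 : ¬ ((𝔭 : Set (subR E)) ⊆ ⋃ i ∈ ((Finset.univ : Finset (MaximalSpectrum R)) : Set _),
      (cm E i : Set (subR E))) := by
    rw [key]
    rintro ⟨i, _, hi⟩
    exact hcon i hi
  rw [Set.not_subset] at h1
  obtain ⟨x, hx𝔭, hxn⟩ := h1
  simp only [Set.mem_iUnion, not_exists] at hxn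
  have hxu : IsUnit (x : R) := by
    by_contra hnu
    obtain ⟨I, hI, hxI⟩ := exists_max_ideal_of_mem_nonunits (mem_nonunits_iff.2 hnu)
    exact hxn ⟨I, hI⟩ (by simp) hxI
  obtain ⟨y, hy⟩ := hxu.exists_right_inv
  have hyE : y ∈ subR E := by
    rw [mem_subR]
    have h2 : aK (x : R) * aK y = 1 := by rw [← map_mul, hy, map_one]
    rw [eq_inv_of_mul_eq_one_right h2]
    exact inv_mem x.2
  apply h𝔭
  rw [Ideal.eq_top_iff_one]
  have : x * ⟨y, hyE⟩ = 1 := Subtype.ext hy
  rw [← this]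
  exact Ideal.mul_mem_right _ _ hx𝔭

theorem finite_maximalSpectrum [Finite (MaximalSpectrum R)] :
    Finite (MaximalSpectrum (subR E)) := by
  classical
  have hch : ∀ 𝔐 : MaximalSpectrum (subR E), ∃ m : MaximalSpectrum R, 𝔐.asIdeal = cm E m := by
    intro 𝔐
    obtain ⟨m, hm⟩ := exists_maximal_ge E 𝔐.asIdeal 𝔐.isMaximal.ne_top
    exact ⟨m, 𝔐.isMaximal.eq_of_le (cm_isPrime E m).ne_top hm⟩
  choose f hf using hch
  apply Finite.of_injective f
  intro 𝔐 𝔐' h
  apply MaximalSpectrum.ext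
  rw [hf 𝔐, hf 𝔐', h]

include hR in
theorem exists_frac_subR [Finite (MaximalSpectrum R)] (m : MaximalSpectrum R)
    (A B : subR E) (hB : B ≠ 0) (hx : aK (A : R) / aK (B : R) ∈ W hR m) :
    ∃ b c : subR E, c ∉ cm E m ∧ A * c = b * B := by
  have hB0 : aK (B : R) ≠ 0 := by
    rw [Ne, map_eq_zero_iff _ (IsFractionRing.injective R (FractionRing R))]
    exact fun h => hB (Subtype.ext h)
  obtain ⟨b, c, hbE, hcE, hcm, he⟩ := exists_frac_of_mem hR E m _ (div_mem A.2 B.2) hx
  refine ⟨⟨b, hbE⟩, ⟨c, hcE⟩, hcm, ?_⟩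
  apply Subtype.ext
  apply IsFractionRing.injective R (FractionRing R)
  change aK ((A : R) * c) = aK (b * (B : R))
  rw [map_mul, map_mul, ← he]
  field_simp

include hR in
theorem valuationRing_localization [Finite (MaximalSpectrum R)] (𝔭 : Ideal (subR E))
    [h𝔭 : 𝔭.IsPrime] : ValuationRing (Localization.AtPrime 𝔭) := by
  obtain ⟨m, hm⟩ := exists_maximal_ge E 𝔭 h𝔭.ne_top
  refine { cond' := fun α β => ?_ }
  obtain ⟨a1, s1, rfl⟩ := IsLocalization.exists_mk'_eq 𝔭.primeCompl α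
  obtain ⟨b1, s2, rfl⟩ := IsLocalization.exists_mk'_eq 𝔭.primeCompl β
  by_cases ha : a1 = 0
  · exact ⟨0, Or.inr (by rw [ha, IsLocalization.mk'_zero, mul_zero])⟩
  by_cases hb : b1 = 0
  · exact ⟨0, Or.inl (by rw [hb, IsLocalization.mk'_zero, mul_zero])⟩
  have hs1 : (s1 : subR E) ≠ 0 := fun h => s1.2 (h ▸ Ideal.zero_mem _)
  have hs2 : (s2 : subR E) ≠ 0 := fun h => s2.2 (h ▸ Ideal.zero_mem _)
  have hinj := IsFractionRing.injective R (FractionRing R)
  rcases (W hR m).mem_or_inv_mem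
    (aK ((a1 * s2 : subR E) : R) / aK ((b1 * s1 : subR E) : R)) with hx | hx
  · obtain ⟨b, c, hc, he⟩ := exists_frac_subR hR E m (a1 * s2) (b1 * s1) (mul_ne_zero hb hs1) hx
    have hc𝔭 : c ∈ 𝔭.primeCompl := fun h => hc (hm h)
    refine ⟨IsLocalization.mk' _ b ⟨c, hc𝔭⟩, Or.inr ?_⟩
    rw [← IsLocalization.mk'_mul, IsLocalization.mk'_eq_iff_eq]
    congr 1
    simp only [Submonoid.coe_mul]
    linear_combination (-1 : subR E) * he
  · rw [inv_div] at hx
    obtain ⟨b, c, hc, he⟩ := exists_frac_subR hR E m (b1 * s1) (a1 * s2) (mul_ne_zero ha hs2) hx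
    have hc𝔭 : c ∈ 𝔭.primeCompl := fun h => hc (hm h)
    refine ⟨IsLocalization.mk' _ b ⟨c, hc𝔭⟩, Or.inl ?_⟩
    rw [← IsLocalization.mk'_mul, IsLocalization.mk'_eq_iff_eq]
    congr 1
    simp only [Submonoid.coe_mul]
    linear_combination (-1 : subR E) * he

end


section
variable {R : Type u} [CommRing R] [IsDomain R]
  (hR : ∀ (p : Ideal R) [p.IsPrime], ValuationRing (Localization.AtPrime p))

local notation "aK" => algebraMap R (FractionRing R)

include hR in
theorem length_le_subR [Finite (MaximalSpectrum R)] (s : Finset R)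
    (E : Subfield (FractionRing R)) (hE : E = Subfield.closure (aK '' (s : Set R)))
    (p : LTSeries (PrimeSpectrum (subR E))) :
    p.length ≤ s.card + 1 := by
  classical
  obtain ⟨m, hm⟩ := exists_maximal_ge E p.last.asIdeal p.last.isPrime.ne_top
  have hinj := IsFractionRing.injective R (FractionRing R)
  let v := (W hR m).valuation
  let φ : subR E →+* FractionRing R := (aK).comp (subR E).subtype
  have hφ : Function.Injective φ := hinj.comp Subtype.val_injective
  have hmprime := m.isMaximal.isPrime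
  have hQ : ∀ X Y : subR E, X ≠ 0 → Y ≠ 0 → v (φ X) = v (φ Y) →
      ∃ c c' : subR E, c ∉ cm E m ∧ c' ∉ cm E m ∧ c * X = c' * Y := by
    intro X Y hX hY hv
    have hXK : φ X ≠ 0 := by rwa [Ne, map_eq_zero_iff _ hφ]
    have hYK : φ Y ≠ 0 := by rwa [Ne, map_eq_zero_iff _ hφ]
    have hvY : v (φ Y) ≠ 0 := by rwa [Ne, map_eq_zero]
    have hvx : v (φ X / φ Y) = 1 := by rw [map_div₀, hv, div_self hvY]
    have hx : aK (X : R) / aK (Y : R) ∈ W hR m := by
      rw [← (W hR m).valuation_le_one_iff]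
      exact hvx.le
    obtain ⟨b, c, hc, he⟩ := exists_frac_subR hR E m X Y hY hx
    refine ⟨c, b, hc, ?_, by rw [mul_comm, he]⟩
    have hcK : φ c ≠ 0 := by
      rw [Ne, map_eq_zero_iff _ hφ]
      rintro rfl
      exact hc (Ideal.zero_mem _)
    have hc1 : v (φ c) = 1 := by
      refine le_antisymm ((W hR m).valuation_le_one_iff _ |>.2 (algebraMap_mem_locSubring _ _)) ?_
      have h1 : (φ c)⁻¹ ∈ W hR m := inv_mem_locSubring _ _ hc
      have h2 : v ((φ c)⁻¹) ≤ 1 := (W hR m).valuation_le_one_iff _ |>.2 h1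
      rw [map_inv₀] at h2
      have hvc : v (φ c) ≠ 0 := by rwa [Ne, map_eq_zero]
      have hpos : 0 < v (φ c) := zero_lt_iff.2 hvc
      rwa [inv_le_one₀ hpos] at h2
    have hbv : v (φ b) = 1 := by
      have h3 : φ b * φ Y = φ X * φ c := by
        rw [← map_mul, ← map_mul, he]
      have h4 := congrArg v h3
      rw [map_mul, map_mul, hc1, mul_one, hv] at h4
      exact mul_right_cancel₀ hvY (by rw [h4, one_mul])
    have hb0 : (b : R) ≠ 0 := by
      intro h0
      have : φ b = 0 := by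
        change aK (b : R) = 0
        rw [h0, map_zero]
      rw [this, map_zero] at hbv
      exact zero_ne_one hbv
    rw [mem_cm, ← inv_mem_locSubring_iff m.asIdeal (b : R) hb0]
    change (φ b)⁻¹ ∈ W hR m
    rw [← (W hR m).valuation_le_one_iff, map_inv₀]
    change (v (φ b))⁻¹ ≤ 1
    rw [hbv, inv_one]
  obtain ⟨l, hl0, hl⟩ := exists_prime_field_val v
  have hφl : φ ((l : ℤ) : subR E) = ((l : ℤ) : FractionRing R) := map_intCast φ l
  have hl0' : ((l : ℤ) : subR E) ≠ 0 := by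
    intro h
    apply hl0
    rw [← hφl, h, map_zero]
  have hl' : ∀ k ∈ (⊥ : Subfield (FractionRing R)), k ≠ 0 →
      ∃ n : ℤ, v k = v (φ ((l : ℤ) : subR E)) ^ n := by
    intro k hk hk0
    obtain ⟨n, hn⟩ := hl k hk hk0
    exact ⟨n, by rw [hn, hφl]⟩
  obtain ⟨s', _, y, hlen, hy⟩ := exists_algIndep_of_chain v φ hφ (cm E m) hQ
    ((l : ℤ) : subR E) hl0' hl' p hm
  have hcard := card_le_of_algIndep_closure (s.image aK) (fun j => φ (y j)) hy (by
    intro j
    rw [Finset.coe_image, ← hE]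
    exact (y j).2)
  have := Finset.card_image_le (s := s) (f := aK)
  omega

end
end Groth.Agent.Lib.Helper14.PruferInter
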