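import Groth.Prelude.Def_AlgSt5
import Mathlib

set_option autoImplicit false

universe u v' u' w' v₂ u₂

open CategoryTheory MonoidalCategory CartesianMonoidalCategory AlgebraicGeometry Opposite AlgSt

namespace Groth.Agent.Lib.Helper14.QuotStCalc

theorem descend_single {C : Type u'} [Category.{v'} C] (J : GrothendieckTopology C)
    (M : Cᵒᵖ ⥤ Type w') (hM : Presheaf.IsSheaf J M) {P T : C} (π : P ⟶ T)
    (hcov : Sieve.generate (Presieve.singleton π) ∈ J T) (m : M.obj (op P))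
    (hm : ∀ (Z : C) (g₁ g₂ : Z ⟶ P), g₁ ≫ π = g₂ ≫ π → M.map g₁.op m = M.map g₂.op m) :
    ∃! t : M.obj (op T), M.map π.op t = m := by
  have hs : Presieve.IsSheafFor M (Presieve.singleton π) := by
    rw [Presieve.isSheafFor_iff_generate]
    exact (isSheaf_iff_isSheaf_of_type J M).1 hM _ hcov
  rw [← Presieve.ofArrows_pUnit.{0}] at hs
  rw [Presieve.isSheafFor_arrows_iff] at hs
  obtain ⟨t, ht, hu⟩ := hs (fun _ => m) (fun _ _ Z g₁ g₂ h => hm Z g₁ g₂ h)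
  exact ⟨t, ht PUnit.unit, fun t' ht' => hu t' (fun _ => ht')⟩

section Gen

variable {C : Type u'} [Category.{v'} C] {M : Cᵒᵖ ⥤ Type w'}

theorem eqToHom_hom {a b : Stk.EltObj M} (h : a = b) :
    (eqToHom h).hom = eqToHom (congrArg Stk.EltObj.base h) := by
  subst h; rfl

theorem elt_eq (e : Stk.EltObj M) (b : C) (hb : e.base = b) :
    e = ⟨b, M.map (eqToHom hb.symm).op e.sec⟩ := by
  cases e
  subst hb
  simp

variable {𝒳 : BasedCategory.{v₂, u₂} C}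

theorem base_eq (ψ : 𝒳 ⥤ᵇ Stk.ofPsh M) (A : 𝒳.obj) : (ψ.obj A).base = 𝒳.p.obj A :=
  ψ.w_obj A

theorem map_hom_eq (ψ : 𝒳 ⥤ᵇ Stk.ofPsh M) {A B : 𝒳.obj} (g : A ⟶ B) :
    (ψ.map g).hom = eqToHom (base_eq ψ A) ≫ 𝒳.p.map g ≫ eqToHom (base_eq ψ B).symm := by
  have h0 : Functor.IsHomLift 𝒳.p (𝒳.p.map g) g := inferInstance
  have h1 : Functor.IsHomLift (Stk.ofPsh M).p (𝒳.p.map g) (ψ.map g) :=
    BasedFunctor.preserves_isHomLift ψ (𝒳.p.map g) g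
  exact IsHomLift.fac' (Stk.ofPsh M).p (𝒳.p.map g) (ψ.map g)

theorem based_ext (φ ψ : 𝒳 ⥤ᵇ Stk.ofPsh M) (h : ∀ a, φ.obj a = ψ.obj a) : φ = ψ := by
  have key : φ.toFunctor = ψ.toFunctor := by
    refine CategoryTheory.Functor.ext h ?_
    intro a b g
    apply Stk.EltObj.hom_ext
    rw [Stk.EltObj.comp_hom, Stk.EltObj.comp_hom, eqToHom_hom, eqToHom_hom]
    rw [map_hom_eq φ g, map_hom_eq ψ g]
    simp
  cases φ
  cases ψ
  simp only at key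
  subst key
  rfl

def secAt (ψ : 𝒳 ⥤ᵇ Stk.ofPsh M) (A : 𝒳.obj) : M.obj (op (𝒳.p.obj A)) :=
  M.map (eqToHom (base_eq ψ A).symm).op (ψ.obj A).sec

theorem obj_eq_secAt (ψ : 𝒳 ⥤ᵇ Stk.ofPsh M) (A : 𝒳.obj) :
    ψ.obj A = ⟨𝒳.p.obj A, secAt ψ A⟩ :=
  elt_eq (ψ.obj A) (𝒳.p.obj A) (base_eq ψ A)

theorem secAt_map (ψ : 𝒳 ⥤ᵇ Stk.ofPsh M) {A B : 𝒳.obj} (g : A ⟶ B) :
    M.map (𝒳.p.map g).op (secAt ψ B) = secAt ψ A := by
  unfold secAt
  rw [← (ψ.map g).map_sec, ← Functor.map_comp_apply, ← Functor.map_comp_apply, ← op_comp, ← op_comp,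
    map_hom_eq ψ g]
  simp

theorem secAt_congr (ψ ψ' : 𝒳 ⥤ᵇ Stk.ofPsh M) (h : ψ = ψ') (A : 𝒳.obj) :
    secAt ψ A = secAt ψ' A := by
  subst h; rfl

theorem ext_of_secAt (φ ψ : 𝒳 ⥤ᵇ Stk.ofPsh M) (h : ∀ a, secAt φ a = secAt ψ a) : φ = ψ := by
  apply based_ext
  intro a
  rw [obj_eq_secAt φ a, obj_eq_secAt ψ a, h a]

theorem secAt_of_hom (φ ψ : 𝒳 ⥤ᵇ Stk.ofPsh M) (e : φ ⟶ ψ) (a : 𝒳.obj) :
    secAt φ a = secAt ψ a := by
  have h1 : Functor.IsHomLift (Stk.ofPsh M).p (𝟙 (𝒳.p.obj a)) (e.toNatTrans.app a) :=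
    e.isHomLift' a
  have h2 := IsHomLift.fac' (Stk.ofPsh M).p (𝟙 (𝒳.p.obj a)) (e.toNatTrans.app a)
  have h3 : (e.toNatTrans.app a).hom = eqToHom (base_eq φ a) ≫ 𝟙 _ ≫ eqToHom (base_eq ψ a).symm := h2
  unfold secAt
  rw [← (e.toNatTrans.app a).map_sec, ← Functor.map_comp_apply, ← op_comp, h3]
  simp

theorem eq_of_hom (φ ψ : 𝒳 ⥤ᵇ Stk.ofPsh M) (e : φ ⟶ ψ) : φ = ψ :=
  ext_of_secAt φ ψ (secAt_of_hom φ ψ e)

theorem eq_of_nonempty_iso (φ ψ : 𝒳 ⥤ᵇ Stk.ofPsh M) (e : Nonempty (φ ≅ ψ)) : φ = ψ :=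
  eq_of_hom φ ψ e.some.hom


section PshMaps

variable {F N : Cᵒᵖ ⥤ Type w'}

theorem secAt_ofPshMap (φ : F ⟶ N) (a : (Stk.ofPsh F).obj) :
    secAt (Stk.ofPshMap φ) a = φ.app (op a.base) a.sec := by
  change N.map (eqToHom (rfl : a.base = a.base)).op (φ.app (op a.base) a.sec) = _
  rw [eqToHom_refl, op_id, N.map_id]
  rfl

def toNat (Ψ : Stk.ofPsh F ⥤ᵇ Stk.ofPsh N) : F ⟶ N where
  app T := TypeCat.ofHom fun x => secAt Ψ (⟨T.unop, x⟩ : Stk.EltObj F)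
  naturality T T' g := by
    ext x
    have h := secAt_map Ψ (A := (⟨T'.unop, F.map g x⟩ : Stk.EltObj F))
      (B := (⟨T.unop, x⟩ : Stk.EltObj F)) ⟨g.unop, rfl⟩
    exact h.symm

theorem toNat_app (Ψ : Stk.ofPsh F ⥤ᵇ Stk.ofPsh N) (a : (Stk.ofPsh F).obj) :
    (toNat Ψ).app (op a.base) a.sec = secAt Ψ a := rfl

theorem ofPshMap_toNat (Ψ : Stk.ofPsh F ⥤ᵇ Stk.ofPsh N) : Stk.ofPshMap (toNat Ψ) = Ψ := by
  apply ext_of_secAt
  intro a
  rw [secAt_ofPshMap, toNat_app]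

theorem toNat_ofPshMap (φ : F ⟶ N) : toNat (Stk.ofPshMap φ) = φ := by
  ext T x
  exact secAt_ofPshMap φ (⟨T.unop, x⟩ : Stk.EltObj F)

theorem ofPshMap_injective {φ φ' : F ⟶ N} (h : Stk.ofPshMap φ = Stk.ofPshMap φ') : φ = φ' := by
  rw [← toNat_ofPshMap φ, ← toNat_ofPshMap φ', h]

theorem secAt_comp_ofPshMap (Ψ : 𝒳 ⥤ᵇ Stk.ofPsh F) (φ : F ⟶ N) (a : 𝒳.obj) :
    secAt (BasedFunctor.comp Ψ (Stk.ofPshMap φ)) a = φ.app _ (secAt Ψ a) := by
  unfold secAt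
  have h := NatTrans.naturality_apply φ (eqToHom (base_eq Ψ a).symm).op (Ψ.obj a).sec
  exact h.symm

theorem ofPshMap_comp {L : Cᵒᵖ ⥤ Type w'} (φ : F ⟶ N) (φ' : N ⟶ L) :
    BasedFunctor.comp (Stk.ofPshMap φ) (Stk.ofPshMap φ') = Stk.ofPshMap (φ ≫ φ') := by
  apply ext_of_secAt
  intro a
  rw [secAt_comp_ofPshMap, secAt_ofPshMap, secAt_ofPshMap]
  rfl

end PshMaps

end Gen


section Quot

variable {S : Scheme.{u}} {G : Over S} [GrpObj G] {X : Over S} {aX : AlgGrp.Action G X}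

theorem f_nat (N : AlgSp.Sp S) (f : (AlgSp.yon S).obj X ⟶ N) {Z P : Over S} (g : Z ⟶ P) (x : P ⟶ X) :
    N.obj.map g.op (f.hom.app (op P) ⟨x⟩) = f.hom.app (op Z) ⟨g ≫ x⟩ := by
  exact (NatTrans.naturality_apply f.hom g.op (⟨x⟩ : ((AlgSp.yon S).obj X).obj.obj (op P))).symm

theorem f_inv (N : AlgSp.Sp S) (f : (AlgSp.yon S).obj X ⟶ N)
    (hf : (AlgSp.yon S).map aX.act ≫ f = (AlgSp.yon S).map (snd G X) ≫ f)
    {T : Over S} (y : T ⟶ G ⊗ X) :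
    f.hom.app (op T) ⟨y ≫ aX.act⟩ = f.hom.app (op T) ⟨y ≫ snd G X⟩ := by
  have := congrArg (fun h => h.hom.app (op T) ⟨y⟩) hf
  exact this

theorem inv_of_elt (N : AlgSp.Sp S) (f : (AlgSp.yon S).obj X ⟶ N)
    (h : f.hom.app (op (G ⊗ X)) ⟨aX.act⟩ = f.hom.app (op (G ⊗ X)) ⟨snd G X⟩) :
    (AlgSp.yon S).map aX.act ≫ f = (AlgSp.yon S).map (snd G X) ≫ f := by
  apply Sheaf.hom_ext
  ext T y
  have h1 := f_nat N f y.down aX.act
  have h2 := f_nat N f y.down (snd G X)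
  rw [h] at h1
  exact h1.symm.trans h2

theorem cover_pi (A : QuotObj Scheme.fppfPrecoverage G aX) :
    Sieve.generate (Presieve.singleton A.π) ∈ AlgSp.J S A.base := by
  obtain ⟨R, hR, hsec⟩ := A.loc
  rw [GrothendieckTopology.mem_over_iff]
  refine GrothendieckTopology.superset_covering _ ?_ (Precoverage.generate_mem_toGrothendieck hR)
  rw [Sieve.generate_le_iff]
  intro Z g hg
  obtain ⟨s, hs⟩ := hsec g hg
  rw [Sieve.overEquiv_iff]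
  have hs' : s ≫ A.π.left = g := hs
  have hw : s ≫ A.P.hom = g ≫ A.base.hom := by
    rw [← Over.w A.π, ← Category.assoc, hs']
  refine ⟨A.P, Over.homMk s hw, A.π, Presieve.singleton.mk, ?_⟩
  ext
  exact hs'

theorem map_pi_injective (N : AlgSp.Sp S) (A : QuotObj Scheme.fppfPrecoverage G aX)
    (t t' : N.obj.obj (op A.base)) (h : N.obj.map A.π.op t = N.obj.map A.π.op t') : t = t' := by
  have hu := descend_single (AlgSp.J S) N.obj N.property A.π (cover_pi A) (N.obj.map A.π.op t) (by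
    intro Z g₁ g₂ hg
    rw [← Functor.map_comp_apply, ← Functor.map_comp_apply, ← op_comp, ← op_comp, hg])
  exact hu.unique rfl h.symm

theorem exists_t (N : AlgSp.Sp S) (f : (AlgSp.yon S).obj X ⟶ N)
    (hf : (AlgSp.yon S).map aX.act ≫ f = (AlgSp.yon S).map (snd G X) ≫ f)
    (A : QuotObj Scheme.fppfPrecoverage G aX) :
    ∃! t : N.obj.obj (op A.base), N.obj.map A.π.op t = f.hom.app (op A.P) ⟨A.φ⟩ := by
  refine descend_single (AlgSp.J S) N.obj N.property A.π (cover_pi A) _ ?_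
  intro Z g₁ g₂ h
  obtain ⟨l, hl₁, hl₂⟩ : ∃ l : Z ⟶ G ⊗ A.P, l ≫ A.act.act = g₁ ∧ l ≫ snd G A.P = g₂ :=
    ⟨A.cart.lift g₁ g₂ h, A.cart.lift_fst _ _ _, A.cart.lift_snd _ _ _⟩
  rw [f_nat, f_nat, ← hl₁, ← hl₂, Category.assoc, Category.assoc, A.eqv]
  have h1 := f_inv N f hf (l ≫ (G ◁ A.φ))
  rw [Category.assoc, Category.assoc, whiskerLeft_snd] at h1
  exact h1

noncomputable def tOf (N : AlgSp.Sp S) (f : (AlgSp.yon S).obj X ⟶ N)
    (hf : (AlgSp.yon S).map aX.act ≫ f = (AlgSp.yon S).map (snd G X) ≫ f)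
    (A : QuotObj Scheme.fppfPrecoverage G aX) : N.obj.obj (op A.base) :=
  (exists_t N f hf A).choose

theorem tOf_spec (N : AlgSp.Sp S) (f : (AlgSp.yon S).obj X ⟶ N)
    (hf : (AlgSp.yon S).map aX.act ≫ f = (AlgSp.yon S).map (snd G X) ≫ f)
    (A : QuotObj Scheme.fppfPrecoverage G aX) :
    N.obj.map A.π.op (tOf N f hf A) = f.hom.app (op A.P) ⟨A.φ⟩ :=
  (exists_t N f hf A).choose_spec.1

theorem tOf_unique (N : AlgSp.Sp S) (f : (AlgSp.yon S).obj X ⟶ N)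
    (hf : (AlgSp.yon S).map aX.act ≫ f = (AlgSp.yon S).map (snd G X) ≫ f)
    (A : QuotObj Scheme.fppfPrecoverage G aX) (t : N.obj.obj (op A.base))
    (ht : N.obj.map A.π.op t = f.hom.app (op A.P) ⟨A.φ⟩) : t = tOf N f hf A :=
  (exists_t N f hf A).choose_spec.2 t ht

theorem tOf_map (N : AlgSp.Sp S) (f : (AlgSp.yon S).obj X ⟶ N)
    (hf : (AlgSp.yon S).map aX.act ≫ f = (AlgSp.yon S).map (snd G X) ≫ f)
    {A B : QuotObj Scheme.fppfPrecoverage G aX} (h : A ⟶ B) :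
    N.obj.map h.base.op (tOf N f hf B) = tOf N f hf A := by
  apply tOf_unique
  have h1 : N.obj.map A.π.op (N.obj.map h.base.op (tOf N f hf B)) =
      N.obj.map h.top.op (N.obj.map B.π.op (tOf N f hf B)) := by
    rw [← Functor.map_comp_apply, ← Functor.map_comp_apply, ← op_comp, ← op_comp,
      h.cart.w]
  rw [h1, tOf_spec, f_nat, h.wφ]

noncomputable def Φ (N : AlgSp.Sp S) (f : (AlgSp.yon S).obj X ⟶ N)
    (hf : (AlgSp.yon S).map aX.act ≫ f = (AlgSp.yon S).map (snd G X) ≫ f) :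
    AlgSt.QuotSt Scheme.fppfPrecoverage G aX ⥤ᵇ AlgSt.ofSp N where
  toFunctor :=
    { obj := fun A => ⟨A.base, tOf N f hf A⟩
      map := fun h => ⟨h.base, tOf_map N f hf h⟩
      map_id := fun _ => Stk.EltObj.hom_ext rfl
      map_comp := fun _ _ => Stk.EltObj.hom_ext rfl }
  w := rfl

theorem comp_eq (N : AlgSp.Sp S) (f : (AlgSp.yon S).obj X ⟶ N)
    (hf : (AlgSp.yon S).map aX.act ≫ f = (AlgSp.yon S).map (snd G X) ≫ f) :
    BasedFunctor.comp (AlgSt.quotMap Scheme.fppfPrecoverage G aX) (Φ N f hf) = AlgSt.ofSpMap f := by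
  apply based_ext
  intro a
  have key : tOf N f hf ((AlgSt.quotMap Scheme.fppfPrecoverage G aX).obj a) =
      f.hom.app (op a.base) a.sec := by
    refine (tOf_unique N f hf ((AlgSt.quotMap Scheme.fppfPrecoverage G aX).obj a) _ ?_).symm
    have h1 := f_nat N f (snd G a.base) a.sec.down
    have h2 := f_inv N f hf (G ◁ a.sec.down)
    rw [whiskerLeft_snd] at h2
    exact h1.trans h2.symm
  change (⟨a.base, tOf N f hf ((AlgSt.quotMap Scheme.fppfPrecoverage G aX).obj a)⟩ :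
    Stk.EltObj N.obj) = ⟨a.base, f.hom.app (op a.base) a.sec⟩
  rw [key]

open MonObj in
noncomputable def chi (A : QuotObj Scheme.fppfPrecoverage G aX) :
    (AlgSt.quotMap Scheme.fppfPrecoverage G aX).obj (⟨A.P, ⟨A.φ⟩⟩ : (AlgSt.ofSch X).obj) ⟶ A where
  base := A.π
  top := A.act.act
  eqv := by
    change (AlgSt.leftMul G A.P).act ≫ A.act.act = (G ◁ A.act.act) ≫ A.act.act
    have hμ : fst (G ⊗ G) A.P ≫ μ[G] =
        (fst _ _ ≫ fst G G) * (fst _ _ ≫ snd G G) := by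
      rw [Hom.mul_def, ← comp_lift, lift_fst_snd, Category.comp_id]
    have h1 : (AlgSt.leftMul G A.P).act = (α_ G G A.P).inv ≫ (μ[G] ▷ A.P) := by
      apply CartesianMonoidalCategory.hom_ext
      · simp only [AlgSt.leftMul, Category.assoc, lift_fst, whiskerRight_fst, hμ, MonObj.comp_mul,
          associator_inv_fst_fst, associator_inv_fst_snd]
      · simp only [AlgSt.leftMul, Category.assoc, lift_snd, whiskerRight_snd, associator_inv_snd]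
    rw [h1, Category.assoc, A.act.mul_act, Iso.inv_hom_id_assoc]
  cart := A.cart
  wφ := A.eqv

theorem secAt_pi (N : AlgSp.Sp S)
    (ψ : AlgSt.QuotSt Scheme.fppfPrecoverage G aX ⥤ᵇ AlgSt.ofSp N)
    (A : QuotObj Scheme.fppfPrecoverage G aX) :
    N.obj.map A.π.op (secAt ψ A) =
      secAt (BasedFunctor.comp (AlgSt.quotMap Scheme.fppfPrecoverage G aX) ψ)
        (⟨A.P, ⟨A.φ⟩⟩ : (AlgSt.ofSch X).obj) :=
  secAt_map ψ (chi A)

theorem ext_of_quotMap (N : AlgSp.Sp S)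
    (ψ ψ' : AlgSt.QuotSt Scheme.fppfPrecoverage G aX ⥤ᵇ AlgSt.ofSp N)
    (h : BasedFunctor.comp (AlgSt.quotMap Scheme.fppfPrecoverage G aX) ψ =
      BasedFunctor.comp (AlgSt.quotMap Scheme.fppfPrecoverage G aX) ψ') : ψ = ψ' := by
  apply ext_of_secAt
  intro A
  apply map_pi_injective N A
  rw [secAt_pi, secAt_pi, secAt_congr _ _ h]

noncomputable def toSh (N : AlgSp.Sp S)
    (ψ : AlgSt.QuotSt Scheme.fppfPrecoverage G aX ⥤ᵇ AlgSt.ofSp N) : (AlgSp.yon S).obj X ⟶ N :=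
  ⟨toNat (BasedFunctor.comp (AlgSt.quotMap Scheme.fppfPrecoverage G aX) ψ)⟩

theorem ofSpMap_toSh (N : AlgSp.Sp S)
    (ψ : AlgSt.QuotSt Scheme.fppfPrecoverage G aX ⥤ᵇ AlgSt.ofSp N) :
    AlgSt.ofSpMap (toSh N ψ) = BasedFunctor.comp (AlgSt.quotMap Scheme.fppfPrecoverage G aX) ψ :=
  ofPshMap_toNat _

theorem toSh_app (N : AlgSp.Sp S)
    (ψ : AlgSt.QuotSt Scheme.fppfPrecoverage G aX ⥤ᵇ AlgSt.ofSp N) {T : Over S} (x : T ⟶ X) :
    (toSh N ψ).hom.app (op T) ⟨x⟩ =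
      secAt ψ ((AlgSt.quotMap Scheme.fppfPrecoverage G aX).obj (⟨T, ⟨x⟩⟩ : (AlgSt.ofSch X).obj)) :=
  rfl

theorem toSh_invariant (N : AlgSp.Sp S)
    (ψ : AlgSt.QuotSt Scheme.fppfPrecoverage G aX ⥤ᵇ AlgSt.ofSp N) :
    (AlgSp.yon S).map aX.act ≫ toSh N ψ = (AlgSp.yon S).map (snd G X) ≫ toSh N ψ := by
  apply inv_of_elt
  have h1 := secAt_pi N ψ ((AlgSt.quotMap Scheme.fppfPrecoverage G aX).obj
    (⟨X, ⟨𝟙 X⟩⟩ : (AlgSt.ofSch X).obj))
  have h2 : (toSh N ψ).hom.app (op (G ⊗ X)) ⟨aX.act⟩ =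
      N.obj.map (snd G X).op ((toSh N ψ).hom.app (op X) ⟨𝟙 X⟩) := by
    refine Eq.trans ?_ h1.symm
    change _ = secAt ψ ((AlgSt.quotMap Scheme.fppfPrecoverage G aX).obj
      (⟨G ⊗ X, ⟨(G ◁ 𝟙 X) ≫ aX.act⟩⟩ : (AlgSt.ofSch X).obj))
    rw [toSh_app, MonoidalCategory.whiskerLeft_id, Category.id_comp]
  rw [h2, f_nat, Category.comp_id]

theorem toSh_of_comp_eq (N : AlgSp.Sp S)
    (ψ : AlgSt.QuotSt Scheme.fppfPrecoverage G aX ⥤ᵇ AlgSt.ofSp N) (f : (AlgSp.yon S).obj X ⟶ N)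
    (h : BasedFunctor.comp (AlgSt.quotMap Scheme.fppfPrecoverage G aX) ψ = AlgSt.ofSpMap f) :
    toSh N ψ = f := by
  apply Sheaf.hom_ext
  change toNat _ = f.hom
  rw [h]
  exact toNat_ofPshMap f.hom

theorem ofSpMap_injective {F N : AlgSp.Sp S} {a b : F ⟶ N} (h : AlgSt.ofSpMap a = AlgSt.ofSpMap b) :
    a = b :=
  Sheaf.hom_ext (ofPshMap_injective h)

theorem ofSpMap_comp {F N L : AlgSp.Sp S} (a : F ⟶ N) (b : N ⟶ L) :
    BasedFunctor.comp (AlgSt.ofSpMap a) (AlgSt.ofSpMap b) = AlgSt.ofSpMap (a ≫ b) :=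
  ofPshMap_comp a.hom b.hom

end Quot


section Rep

variable {S : Scheme.{u}} {N : AlgSp.Sp S} {Z : Over S} (e : N.obj.RepresentableBy Z)

noncomputable def repMap {Y : Over S} (χ : Y ⟶ Z) : (AlgSp.yon S).obj Y ⟶ N :=
  ⟨{ app := fun T => TypeCat.ofHom fun y => e.homEquiv (y.down ≫ χ)
     naturality := fun T T' g => by
       ext y
       change e.homEquiv ((g.unop ≫ y.down) ≫ χ) = N.obj.map g (e.homEquiv (y.down ≫ χ))
       rw [Category.assoc, e.homEquiv_comp]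
       rfl }⟩

theorem repMap_app {Y : Over S} (χ : Y ⟶ Z) {T : Over S} (y : T ⟶ Y) :
    (repMap e χ).hom.app (op T) ⟨y⟩ = e.homEquiv (y ≫ χ) := rfl

theorem eq_repMap {Y : Over S} (g : (AlgSp.yon S).obj Y ⟶ N) :
    g = repMap e (e.homEquiv.symm (g.hom.app (op Y) ⟨𝟙 Y⟩)) := by
  apply Sheaf.hom_ext
  ext T y
  change g.hom.app T y = e.homEquiv (y.down ≫ e.homEquiv.symm (g.hom.app (op Y) ⟨𝟙 Y⟩))
  rw [e.homEquiv_comp, Equiv.apply_symm_apply]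
  have h2 := NatTrans.naturality_apply g.hom y.down.op
    (⟨𝟙 Y⟩ : ((AlgSp.yon S).obj Y).obj.obj (op Y))
  refine Eq.trans ?_ h2
  congr 1

theorem repMap_injective {Y : Over S} {χ χ' : Y ⟶ Z} (h : repMap e χ = repMap e χ') : χ = χ' := by
  have h1 := congrArg (fun g => g.hom.app (op Y) ⟨𝟙 Y⟩) h
  simp only [repMap_app, Category.id_comp] at h1
  exact e.homEquiv.injective h1

theorem yon_map_comp_repMap {X Y : Over S} (f : X ⟶ Y) (χ : Y ⟶ Z) :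
    (AlgSp.yon S).map f ≫ repMap e χ = repMap e (f ≫ χ) := by
  apply Sheaf.hom_ext
  ext T x
  change e.homEquiv ((x.down ≫ f) ≫ χ) = e.homEquiv (x.down ≫ f ≫ χ)
  rw [Category.assoc]

def yonRep (Y : Over S) : ((AlgSp.yon S).obj Y).obj.RepresentableBy Y where
  homEquiv := Equiv.ulift.symm
  homEquiv_comp := fun _ _ => rfl

end Rep

end Groth.Agent.Lib.Helper14.QuotStCalc
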