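import Groth.Agent.Lib.Helper14.QuotStCalc
import Mathlib

set_option autoImplicit false

universe u

open CategoryTheory MonoidalCategory CartesianMonoidalCategory AlgebraicGeometry Opposite AlgSt MonObj

namespace Groth.Agent.Lib.Helper14.QuotStCalc

section Quot2

variable {S : Scheme.{u}} {K : Precoverage Scheme.{u}} {G : Over S} [GrpObj G] {X : Over S}
  {aX : AlgGrp.Action G X}

noncomputable def invHom {A B : QuotObj K G aX} (h : A ⟶ B) [IsIso h.base] : B ⟶ A :=
  have : IsIso h.top := h.cart.isIso_fst_of_isIso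
  { base := inv h.base
    top := inv h.top
    eqv := by
      rw [← cancel_mono h.top, Category.assoc, Category.assoc, IsIso.inv_hom_id, Category.comp_id,
        h.eqv, ← MonoidalCategory.whiskerLeft_comp_assoc, IsIso.inv_hom_id,
        MonoidalCategory.whiskerLeft_id, Category.id_comp]
    cart := IsPullback.of_horiz_isIso ⟨by
      rw [IsIso.eq_comp_inv, Category.assoc, ← h.cart.w, IsIso.inv_hom_id_assoc]⟩
    wφ := by rw [IsIso.inv_comp_eq, h.wφ] }

theorem isIso_of_isIso_base {A B : QuotObj K G aX} (h : A ⟶ B) [IsIso h.base] : IsIso h := by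
  have : IsIso h.top := h.cart.isIso_fst_of_isIso
  refine ⟨invHom h, ?_, ?_⟩
  · apply QuotObj.hom_ext
    · change h.base ≫ inv h.base = 𝟙 _
      simp
    · change h.top ≫ inv h.top = 𝟙 _
      simp
  · apply QuotObj.hom_ext
    · change inv h.base ≫ h.base = 𝟙 _
      simp
    · change inv h.top ≫ h.top = 𝟙 _
      simp


variable [K.HasIsos]

noncomputable def chiK (A : QuotObj K G aX) :
    (AlgSt.quotMap K G aX).obj (⟨A.P, ⟨A.φ⟩⟩ : (AlgSt.ofSch X).obj) ⟶ A where
  base := A.π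
  top := A.act.act
  eqv := by
    change (AlgSt.leftMul G A.P).act ≫ A.act.act = (G ◁ A.act.act) ≫ A.act.act
    have hμ : fst (G ⊗ G) A.P ≫ μ[G] =
        (fst _ _ ≫ fst G G) * (fst _ _ ≫ snd G G) := by
      rw [Hom.mul_def, ← comp_lift, lift_fst_snd, Category.comp_id]
    have h1 : (AlgSt.leftMul G A.P).act = (α_ G G A.P).inv ≫ (μ[G] ▷ A.P) := by
      apply CartesianMonoidalCategory.hom_ext
      · simp only [AlgSt.leftMul, Category.assoc, lift_fst, whiskerRight_fst, hμ, MonObj.comp_mul,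
          associator_inv_fst_fst, associator_inv_fst_snd]
      · simp only [AlgSt.leftMul, Category.assoc, lift_snd, whiskerRight_snd, associator_inv_snd]
    rw [h1, Category.assoc, A.act.mul_act, Iso.inv_hom_id_assoc]
  cart := A.cart
  wφ := A.eqv

noncomputable def triv (A : QuotObj K G aX) (s : A.base ⟶ A.P) (hs : s ≫ A.π = 𝟙 A.base) :
    (AlgSt.quotMap K G aX).obj (⟨A.base, ⟨s ≫ A.φ⟩⟩ : (AlgSt.ofSch X).obj) ⟶ A where
  base := 𝟙 A.base
  top := (G ◁ s) ≫ A.act.act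
  eqv := ((AlgSt.quotMap K G aX).map
    (⟨s, rfl⟩ : (⟨A.base, ⟨s ≫ A.φ⟩⟩ : (AlgSt.ofSch X).obj) ⟶ ⟨A.P, ⟨A.φ⟩⟩) ≫ chiK A).eqv
  cart := by
    have h1 := (AlgSt.isPullback_whiskerLeft (G := G) s).paste_horiz A.cart
    rwa [hs] at h1
  wφ := by
    change ((G ◁ s) ≫ A.act.act) ≫ A.φ = (G ◁ (s ≫ A.φ)) ≫ aX.act
    rw [Category.assoc, A.eqv, ← MonoidalCategory.whiskerLeft_comp_assoc]

theorem isIso_rtop {T : Over S} (g : T ⟶ G) :
    IsIso (lift (fst G T * (snd G T ≫ g)) (snd G T)) := by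
  refine ⟨⟨lift (fst G T * (snd G T ≫ g)⁻¹) (snd G T), ?_, ?_⟩⟩
  · apply CartesianMonoidalCategory.hom_ext
    · simp only [Category.assoc, lift_fst, comp_mul, GrpObj.comp_inv, lift_snd_assoc,
        Category.id_comp, mul_inv_cancel_right]
    · simp only [Category.assoc, lift_snd, Category.id_comp]
  · apply CartesianMonoidalCategory.hom_ext
    · simp only [Category.assoc, lift_fst, comp_mul, GrpObj.comp_inv, lift_snd_assoc,
        Category.id_comp, inv_mul_cancel_right]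
    · simp only [Category.assoc, lift_snd, Category.id_comp]

noncomputable def rmul {T : Over S} (g : T ⟶ G) (x' : T ⟶ X) :
    (AlgSt.quotMap K G aX).obj (⟨T, ⟨lift g x' ≫ aX.act⟩⟩ : (AlgSt.ofSch X).obj) ⟶
      (AlgSt.quotMap K G aX).obj (⟨T, ⟨x'⟩⟩ : (AlgSt.ofSch X).obj) where
  base := 𝟙 T
  top := lift (fst G T * (snd G T ≫ g)) (snd G T)
  eqv := by
    change (AlgSt.leftMul G T).act ≫ lift (fst G T * (snd G T ≫ g)) (snd G T) =
      (G ◁ lift (fst G T * (snd G T ≫ g)) (snd G T)) ≫ (AlgSt.leftMul G T).act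
    apply CartesianMonoidalCategory.hom_ext
    · simp only [AlgSt.leftMul, Category.assoc, lift_fst, lift_snd, lift_fst_assoc, lift_snd_assoc,
        comp_lift, comp_mul, whiskerLeft_fst, whiskerLeft_snd, whiskerLeft_fst_assoc,
        whiskerLeft_snd_assoc]
      rw [_root_.mul_assoc]
    · simp only [AlgSt.leftMul, Category.assoc, lift_fst, lift_snd, lift_fst_assoc, lift_snd_assoc,
        comp_lift, comp_mul, whiskerLeft_fst, whiskerLeft_snd, whiskerLeft_fst_assoc,
        whiskerLeft_snd_assoc]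
  cart := by
    change IsPullback (lift (fst G T * (snd G T ≫ g)) (snd G T)) (snd G T) (snd G T) (𝟙 T)
    have := isIso_rtop g
    exact IsPullback.of_horiz_isIso ⟨by rw [lift_snd, Category.comp_id]⟩
  wφ := by
    change lift (fst G T * (snd G T ≫ g)) (snd G T) ≫ (G ◁ x') ≫ aX.act =
      (G ◁ (lift g x' ≫ aX.act)) ≫ aX.act
    have hμ : fst (G ⊗ G) X ≫ μ[G] = (fst _ _ ≫ fst G G) * (fst _ _ ≫ snd G G) := by
      rw [Hom.mul_def, ← comp_lift, lift_fst_snd, Category.comp_id]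
    let w : G ⊗ T ⟶ (G ⊗ G) ⊗ X :=
      lift (lift (fst G T) (snd G T ≫ g)) (snd G T ≫ x')
    have h1 : lift (fst G T * (snd G T ≫ g)) (snd G T) ≫ (G ◁ x') =
        w ≫ (μ[G] ▷ X) := by
      apply CartesianMonoidalCategory.hom_ext
      · simp only [w, Category.assoc, lift_fst, whiskerLeft_fst, whiskerRight_fst, lift_fst_assoc,
          hμ, comp_mul, lift_snd]
      · simp only [w, Category.assoc, lift_snd, whiskerLeft_snd, whiskerRight_snd, lift_snd_assoc]
    have h3 : w ≫ (α_ G G X).hom = lift (fst G T) (snd G T ≫ lift g x') := by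
      apply CartesianMonoidalCategory.hom_ext
      · simp only [w, Category.assoc, associator_hom_fst, lift_fst_assoc, lift_fst]
      · apply CartesianMonoidalCategory.hom_ext
        · simp only [w, Category.assoc, associator_hom_snd_fst, lift_fst_assoc, lift_snd, lift_fst]
        · simp only [w, Category.assoc, associator_hom_snd_snd, lift_snd]
    have h2 : w ≫ (α_ G G X).hom ≫ (G ◁ aX.act) = G ◁ (lift g x' ≫ aX.act) := by
      rw [← Category.assoc, h3]
      apply CartesianMonoidalCategory.hom_ext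
      · simp only [Category.assoc, whiskerLeft_fst, lift_fst]
      · simp only [Category.assoc, whiskerLeft_snd, lift_snd_assoc]
    rw [← Category.assoc, h1, Category.assoc, aX.mul_act, ← h2, Category.assoc, Category.assoc]

theorem exists_rmul {T : Over S} (g : T ⟶ G) (x x' : T ⟶ X) (h : lift g x' ≫ aX.act = x) :
    ∃ ρ : (AlgSt.quotMap K G aX).obj (⟨T, ⟨x⟩⟩ : (AlgSt.ofSch X).obj) ⟶
      (AlgSt.quotMap K G aX).obj (⟨T, ⟨x'⟩⟩ : (AlgSt.ofSch X).obj), ρ.base = 𝟙 T := by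
  subst h
  exact ⟨rmul g x', rfl⟩

theorem fiber_iso_of_base_id {T : Over S} (A B : QuotObj K G aX) (hA : A.base = T) (hB : B.base = T)
    (φ : A ⟶ B) (hφ : φ.base = eqToHom hA ≫ eqToHom hB.symm) :
    Nonempty ((Functor.Fiber.mk (p := (AlgSt.QuotSt K G aX).p) hA) ≅
      (Functor.Fiber.mk (p := (AlgSt.QuotSt K G aX).p) hB)) := by
  subst hA
  have hi : IsIso φ.base := by rw [hφ]; infer_instance
  have hiφ : IsIso φ := isIso_of_isIso_base φ
  have hl : (AlgSt.QuotSt K G aX).p.IsHomLift (𝟙 A.base) φ := by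
    apply IsHomLift.of_fac' _ _ _ rfl hB
    change φ.base = eqToHom rfl ≫ 𝟙 A.base ≫ eqToHom hB.symm
    rw [hφ, Category.id_comp]
  have hl' : (AlgSt.QuotSt K G aX).p.IsHomLift (𝟙 A.base) (inv φ) :=
    @IsHomLift.lift_id_inv_isIso _ _ _ _ (AlgSt.QuotSt K G aX).p A.base A B φ hiφ hl
  let ψ : B ⟶ A := inv φ
  have h1 : φ ≫ ψ = 𝟙 A := IsIso.hom_inv_id φ
  have h2 : ψ ≫ φ = 𝟙 B := IsIso.inv_hom_id φ
  exact ⟨{ hom := ⟨φ, hl⟩
           inv := ⟨ψ, hl'⟩
           hom_inv_id := Subtype.ext h1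
           inv_hom_id := Subtype.ext h2 }⟩

theorem exists_point_of_nonempty {Ω : Type u} [Field Ω] [IsAlgClosed Ω] {T' : Scheme.{u}}
    (g : T' ⟶ Spec (CommRingCat.of Ω)) [LocallyOfFiniteType g] [Nonempty T'] :
    ∃ σ : Spec (CommRingCat.of Ω) ⟶ T', σ ≫ g = 𝟙 _ := by
  have hJ : JacobsonSpace T' := LocallyOfFiniteType.jacobsonSpace g
  have hne : (closedPoints T').Nonempty := by
    by_contra h
    rw [Set.not_nonempty_iff_eq_empty] at h
    have h2 := closure_closedPoints (X := T')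
    rw [h, closure_empty] at h2
    exact Set.empty_ne_univ h2
  obtain ⟨x, hx⟩ := hne
  exact ⟨pointOfClosedPoint g x hx, pointOfClosedPoint_comp g x hx⟩

theorem exists_section {Ω : Type u} [Field Ω] [IsAlgClosed Ω] (t : Spec (CommRingCat.of Ω) ⟶ S)
    (A : QuotObj Scheme.fppfPrecoverage G aX) (hA : A.base = Over.mk t) :
    ∃ s : A.base ⟶ A.P, s ≫ A.π = 𝟙 A.base := by
  obtain ⟨Ab, AP, act, π, cart, loc, φ, eqv⟩ := A
  change Ab = Over.mk t at hA
  subst hA
  obtain ⟨R, hR, hsec⟩ := loc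
  have hR' : R ∈ Scheme.precoverage (@Flat ⊓ @LocallyOfFinitePresentation) _ := hR
  obtain ⟨T', g, hg, x', hx'⟩ := Scheme.JointlySurjective.exists_eq R hR'
    (IsLocalRing.closedPoint Ω : Spec (CommRingCat.of Ω))
  have hP : (@Flat ⊓ @LocallyOfFinitePresentation : MorphismProperty Scheme.{u}) g := hR'.2 hg
  have h1 : LocallyOfFinitePresentation g := hP.2
  have h2 : Nonempty T' := ⟨x'⟩
  obtain ⟨σ, hσ⟩ := exists_point_of_nonempty g
  obtain ⟨s, hs⟩ := hsec g hg
  have hs' : s ≫ π.left = g := hs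
  have hw : (σ ≫ s) ≫ AP.hom = t := by
    have h3 : π.left ≫ t = AP.hom := Over.w π
    rw [← h3, Category.assoc, ← Category.assoc s, hs', ← Category.assoc, hσ, Category.id_comp]
  refine ⟨Over.homMk (σ ≫ s) hw, ?_⟩
  ext
  change (σ ≫ s) ≫ π.left = 𝟙 _
  rw [Category.assoc, hs', hσ]


theorem secAt_quotMap (N : AlgSp.Sp S)
    (π : AlgSt.QuotSt K G aX ⥤ᵇ AlgSt.ofSp N) (F : (AlgSp.yon S).obj X ⟶ N)
    (hπ : BasedFunctor.comp (AlgSt.quotMap K G aX) π = AlgSt.ofSpMap F)
    (a : (AlgSt.ofSch X).obj) :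
    secAt π ((AlgSt.quotMap K G aX).obj a) = F.hom.app (op a.base) a.sec := by
  have h1 : secAt π ((AlgSt.quotMap K G aX).obj a) =
      secAt (BasedFunctor.comp (AlgSt.quotMap K G aX) π) a := rfl
  rw [h1, secAt_congr _ _ hπ]
  exact secAt_ofPshMap F.hom a

theorem secAt_of_section (N : AlgSp.Sp S)
    (π : AlgSt.QuotSt K G aX ⥤ᵇ AlgSt.ofSp N) (F : (AlgSp.yon S).obj X ⟶ N)
    (hπ : BasedFunctor.comp (AlgSt.quotMap K G aX) π = AlgSt.ofSpMap F)
    (A : QuotObj K G aX) (s : A.base ⟶ A.P) (hs : s ≫ A.π = 𝟙 A.base) :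
    secAt π A = F.hom.app (op A.base) ⟨s ≫ A.φ⟩ := by
  have h1 := secAt_map π (triv A s hs)
  rw [secAt_quotMap N π F hπ] at h1
  refine Eq.trans ?_ h1
  change _ = N.obj.map (𝟙 A.base).op (secAt π A)
  rw [op_id, N.obj.map_id]
  rfl

end Quot2

end Groth.Agent.Lib.Helper14.QuotStCalc
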