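import Groth.Agent.Lib.Helper14.QuotStRep
import Mathlib

set_option autoImplicit false

universe u

open CategoryTheory CategoryTheory.Limits AlgebraicGeometry MorphismProperty Opposite

namespace Groth.Agent.Lib.Helper14.QuotStGeom

theorem flat_codescends : RingHom.CodescendsAlong RingHom.Flat RingHom.FaithfullyFlat := by
  refine .mk _ RingHom.Flat.respectsIso fun R S T _ _ _ _ _ h h' ↦ ?_
  rw [RingHom.flat_algebraMap_iff] at h' ⊢
  rw [RingHom.faithfullyFlat_algebraMap_iff] at h
  exact Module.Flat.of_flat_tensorProduct R T S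

theorem flat_descendsAlong_fpqc :
    MorphismProperty.DescendsAlong @Flat (@Surjective ⊓ @Flat ⊓ @QuasiCompact) :=
  HasRingHomProperty.descendsAlong_flat flat_codescends

theorem flat_descendsAlong_fppf :
    MorphismProperty.DescendsAlong @Flat (@Surjective ⊓ @Flat ⊓ @LocallyOfFinitePresentation) := by
  have := flat_descendsAlong_fpqc
  infer_instance

theorem desc_family {Pl B : Scheme.{u}} (p : Pl ⟶ B) (Q : MorphismProperty Scheme.{u})
    [Q.IsStableUnderBaseChange] [IsZariskiLocalAtTarget Q]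
    [Q.DescendsAlong (@Surjective ⊓ @Flat ⊓ @LocallyOfFinitePresentation)]
    (T : ↥B → Scheme.{u}) (g : ∀ b, T b ⟶ B) (hg1 : ∀ b, Flat (g b))
    (hg2 : ∀ b, LocallyOfFinitePresentation (g b)) (hsurj : ∀ b, b ∈ Set.range (g b))
    (hQ : ∀ b, ∃ (W : Scheme.{u}) (a : W ⟶ Pl) (c : W ⟶ T b), IsPullback a c p (g b) ∧ Q c) :
    Q p := by
  let f : ∐ T ⟶ B := Sigma.desc g
  have hf1 : Surjective f := ⟨fun b => by
    obtain ⟨x, hx⟩ := hsurj b
    refine ⟨Sigma.ι T b x, ?_⟩
    rw [← Scheme.Hom.comp_apply, Sigma.ι_desc]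
    exact hx⟩
  have hf2 : Flat f := IsZariskiLocalAtSource.sigmaDesc (P := @Flat) hg1
  have hf3 : LocallyOfFinitePresentation f :=
    IsZariskiLocalAtSource.sigmaDesc (P := @LocallyOfFinitePresentation) hg2
  refine MorphismProperty.of_pullback_fst_of_descendsAlong (P := Q)
    (Q := @Surjective ⊓ @Flat ⊓ @LocallyOfFinitePresentation) (f := f) (g := p)
    ⟨⟨hf1, hf2⟩, hf3⟩ ?_
  rw [IsZariskiLocalAtTarget.iff_of_openCover (P := Q) (sigmaOpenCover T)]
  intro b
  obtain ⟨W, a, c, sq, hc⟩ := hQ b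
  have sq1 := IsPullback.of_hasPullback (pullback.fst f p) (Sigma.ι T b)
  have sq2 := IsPullback.of_hasPullback f p
  have big := (sq1.flip.paste_vert sq2).flip
  have e : Sigma.ι T b ≫ f = g b := Sigma.ι_desc _ _
  rw [e] at big
  change Q (pullback.snd (pullback.fst f p) (Sigma.ι T b))
  rw [← big.isoIsPullback_hom_snd _ _ sq, Q.cancel_left_of_respectsIso]
  exact hc

section Torsor

open MonoidalCategory CartesianMonoidalCategory AlgSt

variable {S : Scheme.{u}} {G : Over S} [GrpObj G] {X : Over S} {aX : AlgGrp.Action G X}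

theorem exists_cover (A : QuotObj Scheme.fppfPrecoverage G aX) :
    ∃ (T : ↥A.base.left → Scheme.{u}) (g : ∀ b, T b ⟶ A.base.left),
      (∀ b, Flat (g b)) ∧ (∀ b, LocallyOfFinitePresentation (g b)) ∧
      (∀ b, b ∈ Set.range (g b)) ∧ ∀ b, ∃ s : T b ⟶ A.P.left, s ≫ A.π.left = g b := by
  obtain ⟨R, hR, hsec⟩ := A.loc
  have hR' : R ∈ Scheme.precoverage (@Flat ⊓ @LocallyOfFinitePresentation) _ := hR
  have hex : ∀ b : ↥A.base.left, ∃ (T' : Scheme.{u}) (g : T' ⟶ A.base.left),
      R g ∧ b ∈ Set.range g := by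
    intro b
    obtain ⟨T', g, hg, x', hx'⟩ := Scheme.JointlySurjective.exists_eq R hR' b
    exact ⟨T', g, hg, x', hx'⟩
  choose T g hgR hgs using hex
  refine ⟨T, g, fun b => (hR'.2 (hgR b)).1, fun b => (hR'.2 (hgR b)).2, hgs, fun b => ?_⟩
  obtain ⟨s, hs⟩ := hsec (g b) (hgR b)
  exact ⟨s, hs⟩

theorem pi_prop (Q : MorphismProperty Scheme.{u}) [Q.IsStableUnderBaseChange]
    [IsZariskiLocalAtTarget Q]
    [Q.DescendsAlong (@Surjective ⊓ @Flat ⊓ @LocallyOfFinitePresentation)] (hG : Q G.hom)
    (A : QuotObj Scheme.fppfPrecoverage G aX) : Q A.π.left := by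
  obtain ⟨T, g, hg1, hg2, hgs, hsec⟩ := exists_cover A
  refine desc_family A.π.left Q T g hg1 hg2 hgs ?_
  intro b
  obtain ⟨s, hs⟩ := hsec b
  let To : Over S := Over.mk (g b ≫ A.base.hom)
  have hw : s ≫ A.P.hom = To.hom := by
    have h3 : A.π.left ≫ A.base.hom = A.P.hom := Over.w A.π
    change s ≫ A.P.hom = g b ≫ A.base.hom
    rw [← h3, ← Category.assoc, hs]
  let so : To ⟶ A.P := Over.homMk s hw
  have sqO : IsPullback ((G ◁ so) ≫ A.act.act) (snd G To) A.π (so ≫ A.π) :=
    (AlgSt.isPullback_whiskerLeft (G := G) so).paste_horiz A.cart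
  have sqS : IsPullback ((G ◁ so) ≫ A.act.act).left (snd G To).left A.π.left (so ≫ A.π).left :=
    sqO.map (Over.forget S)
  have e : (so ≫ A.π).left = g b := hs
  rw [e] at sqS
  refine ⟨(G ⊗ To).left, ((G ◁ so) ≫ A.act.act).left, (snd G To).left, sqS, ?_⟩
  have sq2 : IsPullback (fst G To).left (snd G To).left (toUnit G).left (toUnit To).left :=
    (AlgSt.isPullback_fst_snd G To).map (Over.forget S)
  exact Q.of_isPullback sq2 hG

theorem pi_surj (A : QuotObj Scheme.fppfPrecoverage G aX) : Function.Surjective A.π.left := by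
  obtain ⟨T, g, -, -, hgs, hsec⟩ := exists_cover A
  intro b
  obtain ⟨x, hx⟩ := hgs b
  obtain ⟨s, hs⟩ := hsec b
  refine ⟨s x, ?_⟩
  rw [← Scheme.Hom.comp_apply, hs]
  exact hx

end Torsor

section Sheaf

variable {S : Scheme.{u}}

theorem locP_yon_map_of_prop (Q : MorphismProperty Scheme.{u})
    (h1 : ∀ ⦃A B C : Scheme.{u}⦄ (a : A ⟶ B) (m : B ⟶ C), Etale a → Q m → Q (a ≫ m))
    [Q.HasOfPostcompProperty @Etale] {T' T : Over S} (m : T' ⟶ T) (hm : Q m.left) :
    AlgSp.LocP Q ((AlgSp.yon S).map m) := by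
  intro U V a b h ha hb comm
  obtain ⟨a', rfl⟩ := (AlgSp.yon S).map_surjective a
  obtain ⟨b', rfl⟩ := (AlgSp.yon S).map_surjective b
  have ha' : Etale a'.left := (AlgSp.repWith_yon_map_iff _ _).1 ha
  have hb' : Etale b'.left := (AlgSp.repWith_yon_map_iff _ _).1 hb
  have e : a' ≫ m = h ≫ b' := (AlgSp.yon S).map_injective (by simpa using comm)
  have e' : a'.left ≫ m.left = h.left ≫ b'.left := by
    rw [← Over.comp_left, e, Over.comp_left]
  have q1 : Q (h.left ≫ b'.left) := e' ▸ h1 _ _ ha' hm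
  exact Q.of_postcomp (W' := @Etale) h.left b'.left hb' q1

theorem isSurjectiveMor_yon_map {W U : Over S} (a : W ⟶ U) (h : Function.Surjective a.left) :
    AlgSp.IsSurjectiveMor ((AlgSp.yon S).map a) := by
  intro p
  obtain ⟨w, hw⟩ := h (AlgSp.Points.toScheme U p)
  refine ⟨AlgSp.Points.ofScheme W w, ?_⟩
  rw [AlgSp.Points.map_ofPt, Category.id_comp]
  apply (AlgSp.Points.schemeEquiv U).symm.injective
  change AlgSp.Points.toScheme U (AlgSp.Points.ofPt ((AlgSp.yon S).map a) w) =
    AlgSp.Points.toScheme U p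
  rw [AlgSp.Points.toScheme_ofPt, hw]

theorem etale_le_diag (Q : MorphismProperty Scheme.{u})
    (hQ : ∀ ⦃A B : Scheme.{u}⦄ (f : A ⟶ B), Etale f → Q f) :
    (@Etale : MorphismProperty Scheme.{u}) ≤ Q.diagonal := by
  intro A B f hf
  have : Etale f := hf
  exact hQ _ (inferInstanceAs <| Etale (pullback.diagonal f))

instance flat_postcomp : MorphismProperty.HasOfPostcompProperty (@Flat : MorphismProperty Scheme.{u}) @Etale := by
  rw [MorphismProperty.hasOfPostcompProperty_iff_le_diagonal]
  exact etale_le_diag _ (fun _ _ f hf => by have : Etale f := hf; infer_instance)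

instance lfp_postcomp : MorphismProperty.HasOfPostcompProperty
    (@LocallyOfFinitePresentation : MorphismProperty Scheme.{u}) @Etale := by
  have : MorphismProperty.IsMultiplicative
      (@LocallyOfFinitePresentation : MorphismProperty Scheme.{u}) :=
    { id_mem := fun _ => inferInstance
      comp_mem := fun f g hf hg => by
        have : LocallyOfFinitePresentation f := hf
        have : LocallyOfFinitePresentation g := hg
        exact (inferInstance : LocallyOfFinitePresentation (f ≫ g)) }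
  rw [MorphismProperty.hasOfPostcompProperty_iff_le_diagonal]
  exact etale_le_diag _ (fun _ _ f hf => by have : Etale f := hf; infer_instance)

instance smooth_postcomp : MorphismProperty.HasOfPostcompProperty
    (@Smooth : MorphismProperty Scheme.{u}) @Etale := by
  have : MorphismProperty.IsMultiplicative (@Smooth : MorphismProperty Scheme.{u}) :=
    { id_mem := fun _ => inferInstance
      comp_mem := fun f g hf hg => by
        have : Smooth f := hf
        have : Smooth g := hg
        exact (inferInstance : Smooth (f ≫ g)) }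
  rw [MorphismProperty.hasOfPostcompProperty_iff_le_diagonal]
  exact etale_le_diag _ (fun _ _ f hf => by have : Etale f := hf; infer_instance)

end Sheaf

section Final

open AlgSt Groth.Agent.Lib.Helper14.QuotStRep

variable {S : Scheme.{u}} {G : Over S} [GrpObj G] {X : Over S} {aX : AlgGrp.Action G X}

theorem prop_pi0 (P : MorphismProperty (AlgSp.Sp S))
    (hP : ∀ (A : QuotObj Scheme.fppfPrecoverage G aX), P ((AlgSp.yon S).map A.π))
    (A : QuotObj Scheme.fppfPrecoverage G aX) (U : Over S) (h : A.base = U) :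
    P ((AlgSp.yon S).map (A.π ≫ eqToHom h)) := by
  subst h
  rw [eqToHom_refl, Category.comp_id]
  exact hP A

theorem rep_of (P : MorphismProperty (AlgSp.Sp S))
    (hP : ∀ (A : QuotObj Scheme.fppfPrecoverage G aX), P ((AlgSp.yon S).map A.π)) :
    AlgSt.RepByAlgSpWith P (fX Scheme.fppfPrecoverage G aX) := by
  intro U y
  refine ⟨⟨(AlgSp.yon S).obj (A0 y).P, AlgSp.IsAlgSpace.yon_obj _⟩, eF y, eF_isEquivOver y, ?_⟩
  rw [eF_fst, spMap_aF]
  exact prop_pi0 P hP (A0 y) U (hA0 y)

theorem rep_flat [Flat G.hom] [LocallyOfFinitePresentation G.hom] :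
    AlgSt.RepByAlgSpWith (AlgSp.LocP @Flat) (fX Scheme.fppfPrecoverage G aX) := by
  have := flat_descendsAlong_fppf.{u}
  refine rep_of _ (fun A => ?_)
  refine locP_yon_map_of_prop @Flat (fun _ _ _ a m ha hm => ?_) A.π
    (pi_prop @Flat (inferInstance : Flat G.hom) A)
  have : Etale a := ha
  have : Flat m := hm
  exact (inferInstance : Flat (a ≫ m))

theorem rep_lfp [Flat G.hom] [LocallyOfFinitePresentation G.hom] :
    AlgSt.RepByAlgSpWith (AlgSp.LocP @LocallyOfFinitePresentation)
      (fX Scheme.fppfPrecoverage G aX) := by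
  refine rep_of _ (fun A => ?_)
  refine locP_yon_map_of_prop @LocallyOfFinitePresentation (fun _ _ _ a m ha hm => ?_) A.π
    (pi_prop @LocallyOfFinitePresentation (inferInstance : LocallyOfFinitePresentation G.hom) A)
  have : Etale a := ha
  have : LocallyOfFinitePresentation m := hm
  exact (inferInstance : LocallyOfFinitePresentation (a ≫ m))

theorem rep_smooth [Smooth G.hom] :
    AlgSt.RepByAlgSpWith (AlgSp.LocP @Smooth) (fX Scheme.fppfPrecoverage G aX) := by
  refine rep_of _ (fun A => ?_)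
  refine locP_yon_map_of_prop @Smooth (fun _ _ _ a m ha hm => ?_) A.π
    (pi_prop @Smooth (inferInstance : Smooth G.hom) A)
  have : Etale a := ha
  have : Smooth m := hm
  exact (inferInstance : Smooth (a ≫ m))

theorem rep_surj :
    AlgSt.RepByAlgSpWith AlgSp.IsSurjectiveMor (fX Scheme.fppfPrecoverage G aX) :=
  rep_of _ (fun A => isSurjectiveMor_yon_map A.π (pi_surj A))

end Final

end Groth.Agent.Lib.Helper14.QuotStGeom
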