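import Groth.Agent.Lib.Helper14.QuotStCalc2
import Mathlib

set_option autoImplicit false

universe u

open CategoryTheory MonoidalCategory CartesianMonoidalCategory AlgebraicGeometry Opposite AlgSt MonObj

namespace Groth.Agent.Lib.Helper14.QuotStRep

open Groth.Agent.Lib.Helper14.QuotStCalc

section Cart

variable {S : Scheme.{u}} {K : Precoverage Scheme.{u}} {G : Over S} [GrpObj G] {X : Over S}
  {aX : AlgGrp.Action G X}

noncomputable def liftHom {B Y A : QuotObj K G aX} (τ : Y ⟶ A) (θ : B ⟶ A) (β : B.base ⟶ Y.base)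
    (hβ : β ≫ τ.base = θ.base) : B ⟶ Y where
  base := β
  top := τ.cart.lift θ.top (B.π ≫ β) (by rw [Category.assoc, hβ, θ.cart.w])
  eqv := by
    apply τ.cart.hom_ext
    · rw [Category.assoc, IsPullback.lift_fst, θ.eqv, Category.assoc, τ.eqv,
        ← MonoidalCategory.whiskerLeft_comp_assoc, IsPullback.lift_fst]
    · rw [Category.assoc, IsPullback.lift_snd, Category.assoc, Y.cart.w, whiskerLeft_snd_assoc,
        IsPullback.lift_snd, ← Category.assoc, B.cart.w, Category.assoc]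
  cart := by
    have h1 : τ.cart.lift θ.top (B.π ≫ β) (by rw [Category.assoc, hβ, θ.cart.w]) ≫ τ.top = θ.top :=
      IsPullback.lift_fst _ _ _ _
    have h2 : IsPullback (τ.cart.lift θ.top (B.π ≫ β) (by rw [Category.assoc, hβ, θ.cart.w]) ≫ τ.top)
        B.π A.π (β ≫ τ.base) := by
      rw [h1, hβ]
      exact θ.cart
    exact IsPullback.of_right h2 (IsPullback.lift_snd _ _ _ _) τ.cart
  wφ := by
    rw [← τ.wφ, ← Category.assoc, IsPullback.lift_fst, θ.wφ]

theorem liftHom_base {B Y A : QuotObj K G aX} (τ : Y ⟶ A) (θ : B ⟶ A) (β : B.base ⟶ Y.base)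
    (hβ : β ≫ τ.base = θ.base) : (liftHom τ θ β hβ).base = β := rfl

theorem liftHom_comp {B Y A : QuotObj K G aX} (τ : Y ⟶ A) (θ : B ⟶ A) (β : B.base ⟶ Y.base)
    (hβ : β ≫ τ.base = θ.base) : liftHom τ θ β hβ ≫ τ = θ := by
  apply QuotObj.hom_ext
  · exact hβ
  · exact IsPullback.lift_fst _ _ _ _

theorem hom_ext_cart {B Y A : QuotObj K G aX} (τ : Y ⟶ A) (h₁ h₂ : B ⟶ Y)
    (hb : h₁.base = h₂.base) (hc : h₁ ≫ τ = h₂ ≫ τ) : h₁ = h₂ := by
  apply QuotObj.hom_ext hb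
  apply τ.cart.hom_ext
  · exact congrArg QuotObj.Hom.top hc
  · rw [h₁.cart.w, h₂.cart.w, hb]

theorem inv_base {A B : QuotObj K G aX} (h : A ⟶ B) [IsIso h] :
    (inv h).base = inv ((QuotObj.forget K G aX).map h) :=
  Functor.map_inv (QuotObj.forget K G aX) h

noncomputable def unitSec (T : Over S) : T ⟶ G ⊗ T := lift (toUnit T ≫ η[G]) (𝟙 T)

theorem unitSec_snd (T : Over S) : unitSec (G := G) T ≫ snd G T = 𝟙 T := lift_snd _ _

theorem unitSec_nat {T' T : Over S} (g : T' ⟶ T) :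
    g ≫ unitSec (G := G) T = unitSec T' ≫ (G ◁ g) := by
  apply CartesianMonoidalCategory.hom_ext
  · simp only [unitSec, Category.assoc, comp_lift, lift_fst, whiskerLeft_fst]
    rw [← Category.assoc, toUnit_unique (g ≫ toUnit _) (toUnit _)]
  · simp only [unitSec, Category.assoc, comp_lift, lift_snd, whiskerLeft_snd, lift_snd_assoc,
      Category.comp_id, Category.id_comp]

theorem unitSec_act {P : Over S} (a : AlgGrp.Action G P) {T : Over S} (t : T ⟶ P) :
    unitSec T ≫ (G ◁ t) ≫ a.act = t := by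
  have h3 : unitSec T ≫ (G ◁ t) = t ≫ (λ_ P).inv ≫ (η[G] ▷ P) := by
    apply CartesianMonoidalCategory.hom_ext
    · simp only [unitSec, Category.assoc, whiskerLeft_fst, lift_fst, whiskerRight_fst,
        leftUnitor_inv_fst_assoc]
      rw [← Category.assoc, toUnit_unique (t ≫ toUnit P) (toUnit _)]
    · simp only [unitSec, Category.assoc, whiskerLeft_snd, lift_snd_assoc, Category.id_comp,
        whiskerRight_snd, leftUnitor_inv_snd, Category.comp_id]
  rw [← Category.assoc, h3, Category.assoc, Category.assoc, a.one_act, Iso.inv_hom_id,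
    Category.comp_id]

theorem whisker_unitSec_leftMul (T : Over S) :
    (G ◁ unitSec T) ≫ (AlgSt.leftMul G T).act = 𝟙 (G ⊗ T) := by
  apply CartesianMonoidalCategory.hom_ext
  · simp only [unitSec, AlgSt.leftMul, Category.assoc, lift_fst, comp_mul, whiskerLeft_fst,
      whiskerLeft_snd_assoc, lift_fst, Category.id_comp]
    have : toUnit T ≫ η[G] = (1 : T ⟶ G) := by rw [Hom.one_def]
    rw [this]
    simp
  · simp only [unitSec, AlgSt.leftMul, Category.assoc, lift_snd, whiskerLeft_snd_assoc,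
      Category.id_comp, Category.comp_id]

end Cart

section Pt

variable {S : Scheme.{u}} {K : Precoverage Scheme.{u}} [K.HasIsos] {G : Over S} [GrpObj G]
  {X : Over S} {aX : AlgGrp.Action G X}

noncomputable def topQ {a : (AlgSt.ofSch X).obj} {A : QuotObj K G aX}
    (θ : (AlgSt.quotMap K G aX).obj a ⟶ A) : G ⊗ a.base ⟶ A.P := θ.top

noncomputable def baseQ {a : (AlgSt.ofSch X).obj} {A : QuotObj K G aX}
    (θ : (AlgSt.quotMap K G aX).obj a ⟶ A) : a.base ⟶ A.base := θ.base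

noncomputable def ptOf {a : (AlgSt.ofSch X).obj} {A : QuotObj K G aX}
    (θ : (AlgSt.quotMap K G aX).obj a ⟶ A) : a.base ⟶ A.P := unitSec a.base ≫ topQ θ

theorem topQ_π {a : (AlgSt.ofSch X).obj} {A : QuotObj K G aX}
    (θ : (AlgSt.quotMap K G aX).obj a ⟶ A) : topQ θ ≫ A.π = snd G a.base ≫ baseQ θ := θ.cart.w

theorem topQ_φ {a : (AlgSt.ofSch X).obj} {A : QuotObj K G aX}
    (θ : (AlgSt.quotMap K G aX).obj a ⟶ A) : topQ θ ≫ A.φ = (G ◁ a.sec.down) ≫ aX.act := θ.wφ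

theorem topQ_eqv {a : (AlgSt.ofSch X).obj} {A : QuotObj K G aX}
    (θ : (AlgSt.quotMap K G aX).obj a ⟶ A) :
    (AlgSt.leftMul G a.base).act ≫ topQ θ = (G ◁ topQ θ) ≫ A.act.act := θ.eqv

theorem ptOf_π {a : (AlgSt.ofSch X).obj} {A : QuotObj K G aX}
    (θ : (AlgSt.quotMap K G aX).obj a ⟶ A) : ptOf θ ≫ A.π = baseQ θ := by
  unfold ptOf
  rw [Category.assoc, topQ_π, ← Category.assoc, unitSec_snd, Category.id_comp]

theorem ptOf_φ {a : (AlgSt.ofSch X).obj} {A : QuotObj K G aX}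
    (θ : (AlgSt.quotMap K G aX).obj a ⟶ A) : ptOf θ ≫ A.φ = a.sec.down := by
  unfold ptOf
  rw [Category.assoc, topQ_φ, unitSec_act]

theorem topQ_eq {a : (AlgSt.ofSch X).obj} {A : QuotObj K G aX}
    (θ : (AlgSt.quotMap K G aX).obj a ⟶ A) : topQ θ = (G ◁ ptOf θ) ≫ A.act.act := by
  unfold ptOf
  rw [MonoidalCategory.whiskerLeft_comp, Category.assoc, ← topQ_eqv, ← Category.assoc,
    whisker_unitSec_leftMul, Category.id_comp]

theorem ptOf_comp {a : (AlgSt.ofSch X).obj} {A A' : QuotObj K G aX}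
    (θ : (AlgSt.quotMap K G aX).obj a ⟶ A) (h : A ⟶ A') : ptOf (θ ≫ h) = ptOf θ ≫ h.top := by
  unfold ptOf
  rw [Category.assoc]
  rfl

theorem ptOf_map {a' a : (AlgSt.ofSch X).obj} {A : QuotObj K G aX} (m : a' ⟶ a)
    (θ : (AlgSt.quotMap K G aX).obj a ⟶ A) :
    ptOf ((AlgSt.quotMap K G aX).map m ≫ θ) = m.hom ≫ ptOf θ := by
  unfold ptOf
  rw [← Category.assoc, unitSec_nat, Category.assoc]
  rfl

noncomputable def canon (A : QuotObj K G aX) {T : Over S} (t : T ⟶ A.P) :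
    (AlgSt.quotMap K G aX).obj (⟨T, ⟨t ≫ A.φ⟩⟩ : (AlgSt.ofSch X).obj) ⟶ A :=
  (AlgSt.quotMap K G aX).map
    (⟨t, rfl⟩ : (⟨T, ⟨t ≫ A.φ⟩⟩ : (AlgSt.ofSch X).obj) ⟶ ⟨A.P, ⟨A.φ⟩⟩) ≫ chiK A

theorem canon_base (A : QuotObj K G aX) {T : Over S} (t : T ⟶ A.P) :
    (canon A t).base = t ≫ A.π := rfl

theorem canon_top (A : QuotObj K G aX) {T : Over S} (t : T ⟶ A.P) :
    topQ (canon A t) = (G ◁ t) ≫ A.act.act := rfl

theorem ptOf_canon (A : QuotObj K G aX) {T : Over S} (t : T ⟶ A.P) : ptOf (canon A t) = t := by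
  unfold ptOf
  rw [canon_top, unitSec_act]

theorem hom_ext_pt {a : (AlgSt.ofSch X).obj} {A : QuotObj K G aX}
    (θ θ' : (AlgSt.quotMap K G aX).obj a ⟶ A) (h : ptOf θ = ptOf θ') : θ = θ' := by
  apply QuotObj.hom_ext
  · change baseQ θ = baseQ θ'
    rw [← ptOf_π, ← ptOf_π, h]
  · change topQ θ = topQ θ'
    rw [topQ_eq, topQ_eq θ', h]

end Pt

section Clean

variable {S : Scheme.{u}} {K : Precoverage Scheme.{u}} {G : Over S} [GrpObj G] {X : Over S}
  {aX : AlgGrp.Action G X}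

theorem base_cancel {Y A : QuotObj K G aX} (τ : Y ⟶ A) {T U : Over S} (h : T ⟶ U) (hY : Y.base = T)
    (hA : A.base = U) (hτ : τ.base = eqToHom hY ≫ h ≫ eqToHom hA.symm) {t : T ⟶ A.P}
    (ht : t ≫ A.π ≫ eqToHom hA = h) :
    eqToHom hY.symm ≫ τ.base = t ≫ A.π := by
  rw [hτ, ← ht]
  simp

theorem base_cancel₂ {Y Y' : QuotObj K G aX} (m : Y ⟶ Y') {T T' : Over S} (gh : T ⟶ T')
    (hY : Y.base = T) (hY' : Y'.base = T') (hm : m.base = eqToHom hY ≫ gh ≫ eqToHom hY'.symm) :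
    eqToHom hY.symm ≫ m.base = gh ≫ eqToHom hY'.symm := by
  rw [hm]
  simp

theorem eqToHom_comp_of_heq {A B U : Over S} (h : A = B) (f : B ⟶ U) (g : A ⟶ U)
    (hfg : HEq f g) : eqToHom h ≫ f = g := by
  subst h
  simpa using hfg

theorem base_sq {Y Y' B B' : QuotObj K G aX} (m : Y ⟶ Y') (i : Y ⟶ B) (i' : Y' ⟶ B') (k : B ⟶ B')
    {T T' : Over S} (gh : T ⟶ T') (hY : Y.base = T) (hY' : Y'.base = T')
    (hm : m.base = eqToHom hY ≫ gh ≫ eqToHom hY'.symm) (hw : m ≫ i' = i ≫ k) :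
    gh ≫ eqToHom hY'.symm ≫ i'.base = (eqToHom hY.symm ≫ i.base) ≫ k.base := by
  have h1 : m.base ≫ i'.base = i.base ≫ k.base := congrArg QuotObj.Hom.base hw
  rw [hm] at h1
  rw [Category.assoc, ← h1]
  simp

theorem eqToHom_inv_base {B Y : QuotObj K G aX} (h : B ⟶ Y) (hi : IsIso h) (e : B.base = Y.base)
    (he : h.base = eqToHom e) : eqToHom e ≫ (@inv _ _ _ _ h hi).base = 𝟙 B.base := by
  have h2 : h.base ≫ (@inv _ _ _ _ h hi).base = 𝟙 B.base :=
    congrArg QuotObj.Hom.base (@IsIso.hom_inv_id _ _ _ _ h hi)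
  rw [← he]
  exact h2

theorem pt_base_clean {Y A B : QuotObj K G aX} (i : Y ⟶ B) (j : B ⟶ Y) (hij : i ≫ j = 𝟙 Y)
    (τ : Y ⟶ A) {T U : Over S} (h : T ⟶ U) (hY : Y.base = T) (hA : A.base = U)
    (hτ : τ.base = eqToHom hY ≫ h ≫ eqToHom hA.symm) :
    (eqToHom hY.symm ≫ i.base) ≫ (j ≫ τ).base ≫ eqToHom hA = h := by
  have h1 : i.base ≫ j.base = 𝟙 Y.base := congrArg QuotObj.Hom.base hij
  change (eqToHom hY.symm ≫ i.base) ≫ (j.base ≫ τ.base) ≫ eqToHom hA = h
  rw [hτ]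
  simp only [Category.assoc]
  rw [reassoc_of% h1]
  simp

theorem base_retract {Y B : QuotObj K G aX} (i : Y ⟶ B) (j : B ⟶ Y) (hij : i ≫ j = 𝟙 Y)
    {T : Over S} (hY : Y.base = T) :
    (eqToHom hY.symm ≫ i.base) ≫ j.base = eqToHom hY.symm := by
  have h1 : i.base ≫ j.base = 𝟙 Y.base := congrArg QuotObj.Hom.base hij
  rw [Category.assoc, h1, Category.comp_id]

theorem cat_aux {C : Type*} [Category C] {P Q R T : C} (E : P ⟶ Q) (εh : Q ⟶ P) (a : Q ⟶ R)
    (b : P ⟶ T) (j : T ⟶ R) (ih : R ⟶ T) (h1 : E ≫ a = b ≫ j) (h2 : εh ≫ E = 𝟙 Q)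
    (h3 : j ≫ ih = 𝟙 T) : a ≫ ih = εh ≫ b := by
  calc a ≫ ih = (εh ≫ E) ≫ a ≫ ih := by rw [h2, Category.id_comp]
    _ = εh ≫ (E ≫ a) ≫ ih := by simp only [Category.assoc]
    _ = εh ≫ b := by rw [h1, Category.assoc, h3, Category.comp_id]

theorem isIso_of_base_eqToHom {A B : QuotObj K G aX} (h : A ⟶ B) (e : A.base = B.base)
    (he : h.base = eqToHom e) : IsIso h := by
  have : IsIso h.base := by
    rw [he]
    infer_instance
  exact isIso_of_isIso_base h

end Clean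

section Equiv

set_option linter.unusedSectionVars false

variable {S : Scheme.{u}} {K : Precoverage Scheme.{u}} [K.HasIsos] {G : Over S} [GrpObj G]
  {X : Over S} {aX : AlgGrp.Action G X} {U : Over S}
  (y : FibCat.overCat U ⥤ᵇ AlgSt.QuotSt K G aX)

variable (K G aX) in
noncomputable abbrev fX : FibCat.overCat X ⥤ᵇ AlgSt.QuotSt K G aX :=
  BasedFunctor.comp (AlgSt.ofOverCat X) (AlgSt.quotMap K G aX)

def oneU (U : Over S) : (FibCat.overCat U).obj := Over.mk (𝟙 U)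

def homU (c : (FibCat.overCat U).obj) : (FibCat.overCat U).p.obj c ⟶ U := Comma.hom c

def toOne (c : (FibCat.overCat U).obj) : c ⟶ oneU U := Over.homMk (Comma.hom c)

theorem toOne_comp {c c' : (FibCat.overCat U).obj} (m : c ⟶ c') : m ≫ toOne c' = toOne c := by
  apply Over.OverMorphism.ext
  exact Over.w m

theorem map_homU {c c' : (FibCat.overCat U).obj} (m : c ⟶ c') :
    (FibCat.overCat U).p.map m ≫ homU c' = homU c := Over.w m

noncomputable def A0 : QuotObj K G aX := y.obj (oneU U)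

theorem hA0 : (A0 y).base = U := y.w_obj (oneU U)

theorem hc (c : (FibCat.overCat U).obj) : (y.obj c).base = (FibCat.overCat U).p.obj c := y.w_obj c

theorem y_map_base {c c' : (FibCat.overCat U).obj} (m : c ⟶ c') :
    (y.map m).base = eqToHom (hc y c) ≫ (FibCat.overCat U).p.map m ≫ eqToHom (hc y c').symm := by
  have h1 : Functor.IsHomLift (AlgSt.QuotSt K G aX).p ((FibCat.overCat U).p.map m) (y.map m) :=
    BasedFunctor.preserves_isHomLift y ((FibCat.overCat U).p.map m) m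
  exact IsHomLift.fac' (AlgSt.QuotSt K G aX).p ((FibCat.overCat U).p.map m) (y.map m)

noncomputable def tau (c : (FibCat.overCat U).obj) : y.obj c ⟶ A0 y := y.map (toOne c)

theorem tau_base (c : (FibCat.overCat U).obj) :
    (tau y c).base = eqToHom (hc y c) ≫ homU c ≫ eqToHom (hA0 y).symm :=
  y_map_base y (toOne c)

theorem tau_comp {c c' : (FibCat.overCat U).obj} (m : c ⟶ c') : y.map m ≫ tau y c' = tau y c :=
  (y.toFunctor.map_comp m (toOne c')).symm.trans (congrArg (fun k => y.map k) (toOne_comp m))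

noncomputable def pi0 : (A0 y).P ⟶ U := (A0 y).π ≫ eqToHom (hA0 y)

noncomputable def aF : AlgSt.ofSch (A0 y).P ⥤ᵇ FibCat.overCat U :=
  BasedFunctor.comp (AlgSt.ofSpMap ((AlgSp.yon S).map (pi0 y))) (AlgSt.toOverCat U)

noncomputable def bF : AlgSt.ofSch (A0 y).P ⥤ᵇ FibCat.overCat X :=
  BasedFunctor.comp (AlgSt.ofSpMap ((AlgSp.yon S).map (A0 y).φ)) (AlgSt.toOverCat X)

theorem hcw (w : (AlgSt.ofSch (A0 y).P).obj) : (y.obj ((aF y).obj w)).base = w.base :=
  y.w_obj ((aF y).obj w)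

theorem tau_base_w (w : (AlgSt.ofSch (A0 y).P).obj) :
    (tau y ((aF y).obj w)).base =
      eqToHom (hcw y w) ≫ (w.sec.down ≫ pi0 y) ≫ eqToHom (hA0 y).symm :=
  tau_base y ((aF y).obj w)

noncomputable abbrev bElt (w : (AlgSt.ofSch (A0 y).P).obj) : (AlgSt.ofSch X).obj :=
  ⟨w.base, ⟨w.sec.down ≫ (A0 y).φ⟩⟩

theorem fX_bF_obj (w : (AlgSt.ofSch (A0 y).P).obj) :
    (fX K G aX).obj ((bF y).obj w) = (AlgSt.quotMap K G aX).obj (bElt y w) := rfl

theorem epsInv_aux (w : (AlgSt.ofSch (A0 y).P).obj) :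
    eqToHom (hcw y w).symm ≫ (tau y ((aF y).obj w)).base = (canon (A0 y) w.sec.down).base :=
  base_cancel (tau y ((aF y).obj w)) (w.sec.down ≫ pi0 y) (hcw y w) (hA0 y) (tau_base_w y w) rfl

noncomputable def epsInv (w : (AlgSt.ofSch (A0 y).P).obj) :
    (AlgSt.quotMap K G aX).obj (bElt y w) ⟶ y.obj ((aF y).obj w) :=
  liftHom (tau y ((aF y).obj w)) (canon (A0 y) w.sec.down)
    (eqToHom (hcw y w).symm) (epsInv_aux y w)

theorem epsInv_base (w : (AlgSt.ofSch (A0 y).P).obj) :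
    (epsInv y w).base = eqToHom (hcw y w).symm := rfl

theorem epsInv_comp (w : (AlgSt.ofSch (A0 y).P).obj) :
    epsInv y w ≫ tau y ((aF y).obj w) = canon (A0 y) w.sec.down :=
  liftHom_comp _ _ _ _

theorem isIso_epsInv (w : (AlgSt.ofSch (A0 y).P).obj) : IsIso (epsInv y w) :=
  isIso_of_base_eqToHom (epsInv y w) (hcw y w).symm (epsInv_base y w)

theorem sec_of_hom {w w' : (AlgSt.ofSch (A0 y).P).obj} (g : w ⟶ w') :
    g.hom ≫ w'.sec.down = w.sec.down := congrArg ULift.down g.map_sec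

noncomputable def bEltMap {w w' : (AlgSt.ofSch (A0 y).P).obj} (g : w ⟶ w') :
    bElt y w ⟶ bElt y w' :=
  ⟨g.hom, by
    change (⟨g.hom ≫ w'.sec.down ≫ (A0 y).φ⟩ : ULift (w.base ⟶ X)) = ⟨w.sec.down ≫ (A0 y).φ⟩
    rw [← Category.assoc, sec_of_hom]⟩

theorem fX_bF_map {w w' : (AlgSt.ofSch (A0 y).P).obj} (g : w ⟶ w') :
    (fX K G aX).map ((bF y).map g) = (AlgSt.quotMap K G aX).map (bEltMap y g) := rfl

theorem y_aF_map_base {w w' : (AlgSt.ofSch (A0 y).P).obj} (g : w ⟶ w') :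
    (y.map ((aF y).map g)).base = eqToHom (hcw y w) ≫ g.hom ≫ eqToHom (hcw y w').symm :=
  y_map_base y ((aF y).map g)

theorem epsInv_nat {w w' : (AlgSt.ofSch (A0 y).P).obj} (g : w ⟶ w') :
    epsInv y w ≫ y.map ((aF y).map g) =
      (AlgSt.quotMap K G aX).map (bEltMap y g) ≫ epsInv y w' := by
  apply hom_ext_cart (tau y ((aF y).obj w'))
  · change (epsInv y w).base ≫ (y.map ((aF y).map g)).base = g.hom ≫ (epsInv y w').base
    rw [epsInv_base, epsInv_base]
    exact base_cancel₂ (y.map ((aF y).map g)) g.hom (hcw y w) (hcw y w') (y_aF_map_base y g)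
  · rw [Category.assoc, Category.assoc, tau_comp, epsInv_comp, epsInv_comp]
    apply hom_ext_pt
    rw [ptOf_canon, ptOf_map, ptOf_canon]
    exact (sec_of_hom y g).symm

noncomputable def epsIso (w : (AlgSt.ofSch (A0 y).P).obj) :
    (BasedFunctor.comp (aF y) y).obj w ≅ (BasedFunctor.comp (bF y) (fX K G aX)).obj w :=
  (@asIso _ _ _ _ (epsInv y w) (isIso_epsInv y w)).symm

theorem epsIso_inv (w : (AlgSt.ofSch (A0 y).P).obj) : (epsIso y w).inv = epsInv y w := rfl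

theorem epsIso_nat {w w' : (AlgSt.ofSch (A0 y).P).obj} (g : w ⟶ w') :
    (BasedFunctor.comp (aF y) y).map g ≫ (epsIso y w').hom =
      (epsIso y w).hom ≫ (BasedFunctor.comp (bF y) (fX K G aX)).map g := by
  rw [← Iso.inv_comp_eq, ← Category.assoc, ← Iso.eq_comp_inv, epsIso_inv, epsIso_inv]
  exact epsInv_nat y g

theorem epsInv_lift (w : (AlgSt.ofSch (A0 y).P).obj) :
    (AlgSt.QuotSt K G aX).p.IsHomLift (𝟙 w.base) (epsInv y w) := by
  apply IsHomLift.of_fac' _ _ _ rfl (hcw y w)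
  change (epsInv y w).base = eqToHom rfl ≫ 𝟙 w.base ≫ eqToHom (hcw y w).symm
  rw [epsInv_base]
  first
    | (simp; done)
    | (simp; rfl)

theorem epsIso_hom_lift (w : (AlgSt.ofSch (A0 y).P).obj) :
    (AlgSt.QuotSt K G aX).p.IsHomLift (𝟙 ((AlgSt.ofSch (A0 y).P).p.obj w)) (epsIso y w).hom :=
  @IsHomLift.lift_id_inv_isIso _ _ _ _ (AlgSt.QuotSt K G aX).p w.base _ _ (epsInv y w)
    (isIso_epsInv y w) (epsInv_lift y w)

noncomputable def epsNatIso :
    BasedFunctor.comp (aF y) y ≅ BasedFunctor.comp (bF y) (fX K G aX) :=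
  BasedNatIso.mkNatIso (NatIso.ofComponents (fun w => epsIso y w) (fun g => epsIso_nat y g))
    (fun w => epsIso_hom_lift y w)

noncomputable def eF : AlgSt.ofSch (A0 y).P ⥤ᵇ FibCat.fp y (fX K G aX) :=
  FibCat.fpLift (aF y) (bF y) (epsNatIso y)

theorem eF_fst : BasedFunctor.comp (eF y) (FibCat.fpFst y (fX K G aX)) = aF y := rfl

theorem spMap_aF : AlgSt.spMapOfOver (aF y) = (AlgSp.yon S).map (pi0 y) := by
  apply Sheaf.hom_ext
  ext T x
  apply ULift.ext
  change AlgSt.secHom (aF y) ⟨T.unop, x⟩ = x.down ≫ pi0 y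
  unfold AlgSt.secHom
  exact eqToHom_comp_of_heq _ _ _ HEq.rfl

section Inverse

local notation "FP" => FibCat.fp y (fX K G aX)

noncomputable def Tz (z : (FP).obj) : Over S := (FibCat.overCat U).p.obj z.obj.fst

noncomputable def bz (z : (FP).obj) : (AlgSt.ofSch X).obj := (AlgSt.ofOverCat X).obj z.obj.snd

noncomputable def isoHom (z : (FP).obj) :
    y.obj z.obj.fst ⟶ (AlgSt.quotMap K G aX).obj (bz y z) := z.obj.iso.hom

noncomputable def isoInv (z : (FP).obj) :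
    (AlgSt.quotMap K G aX).obj (bz y z) ⟶ y.obj z.obj.fst := z.obj.iso.inv

theorem isoHom_inv (z : (FP).obj) : isoHom y z ≫ isoInv y z = 𝟙 _ := z.obj.iso.hom_inv_id

theorem isoInv_hom (z : (FP).obj) : isoInv y z ≫ isoHom y z = 𝟙 _ := z.obj.iso.inv_hom_id

noncomputable def baseI {A : QuotObj K G aX} {a : (AlgSt.ofSch X).obj}
    (h : A ⟶ (AlgSt.quotMap K G aX).obj a) : A.base ⟶ a.base := h.base

noncomputable def thz (z : (FP).obj) : (AlgSt.quotMap K G aX).obj (bz y z) ⟶ A0 y :=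
  isoInv y z ≫ tau y z.obj.fst

noncomputable def mz (z : (FP).obj) : Tz y z ⟶ (bz y z).base :=
  eqToHom (hc y z.obj.fst).symm ≫ baseI (isoHom y z)

noncomputable def ptz (z : (FP).obj) : Tz y z ⟶ (A0 y).P := mz y z ≫ ptOf (thz y z)

noncomputable def sndMap {z z' : (FP).obj} (mm : z ⟶ z') : bz y z ⟶ bz y z' :=
  (AlgSt.ofOverCat X).map mm.hom.snd

noncomputable def fstMap {z z' : (FP).obj} (mm : z ⟶ z') : Tz y z ⟶ Tz y z' :=
  (FibCat.overCat U).p.map mm.hom.fst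

theorem mu_w {z z' : (FP).obj} (mm : z ⟶ z') :
    y.map mm.hom.fst ≫ isoHom y z' = isoHom y z ≫ (AlgSt.quotMap K G aX).map (sndMap y mm) :=
  mm.hom.w

theorem mu_w' {z z' : (FP).obj} (mm : z ⟶ z') :
    isoInv y z ≫ y.map mm.hom.fst = (AlgSt.quotMap K G aX).map (sndMap y mm) ≫ isoInv y z' := by
  have h := mu_w y mm
  have h2 : isoInv y z ≫ (y.map mm.hom.fst ≫ isoHom y z') ≫ isoInv y z' =
      isoInv y z ≫ (isoHom y z ≫ (AlgSt.quotMap K G aX).map (sndMap y mm)) ≫ isoInv y z' := by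
    rw [h]
  rw [Category.assoc, isoHom_inv, Category.comp_id, Category.assoc, ← Category.assoc (isoInv y z),
    isoInv_hom, Category.id_comp] at h2
  exact h2

theorem mz_nat {z z' : (FP).obj} (mm : z ⟶ z') :
    fstMap y mm ≫ mz y z' = mz y z ≫ (sndMap y mm).hom :=
  base_sq (y.map mm.hom.fst) (isoHom y z) (isoHom y z') ((AlgSt.quotMap K G aX).map (sndMap y mm))
    (fstMap y mm) (hc y z.obj.fst) (hc y z'.obj.fst) (y_map_base y mm.hom.fst) (mu_w y mm)

theorem thz_nat {z z' : (FP).obj} (mm : z ⟶ z') :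
    thz y z = (AlgSt.quotMap K G aX).map (sndMap y mm) ≫ thz y z' := by
  unfold thz
  rw [← tau_comp y mm.hom.fst, ← Category.assoc, mu_w', Category.assoc]

theorem ptz_nat {z z' : (FP).obj} (mm : z ⟶ z') : fstMap y mm ≫ ptz y z' = ptz y z := by
  unfold ptz
  rw [thz_nat y mm, ptOf_map, ← Category.assoc, mz_nat, Category.assoc]

noncomputable def Psi : FP ⥤ᵇ AlgSt.ofSch (A0 y).P where
  toFunctor :=
    { obj := fun z => ⟨Tz y z, ⟨ptz y z⟩⟩
      map := fun mm => ⟨fstMap y mm, congrArg ULift.up (ptz_nat y mm)⟩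
      map_id := fun _ => Stk.EltObj.hom_ext rfl
      map_comp := fun _ _ => Stk.EltObj.hom_ext rfl }
  w := rfl

theorem mz_eF (w : (AlgSt.ofSch (A0 y).P).obj) : mz y ((eF y).obj w) = 𝟙 w.base :=
  eqToHom_inv_base (epsInv y w) (isIso_epsInv y w) (hcw y w).symm (epsInv_base y w)

theorem thz_eF (w : (AlgSt.ofSch (A0 y).P).obj) :
    thz y ((eF y).obj w) = canon (A0 y) w.sec.down := epsInv_comp y w

theorem ptOf_thz_eF (w : (AlgSt.ofSch (A0 y).P).obj) :
    ptOf (thz y ((eF y).obj w)) = w.sec.down :=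
  (congrArg (fun k => ptOf k) (thz_eF y w)).trans (ptOf_canon _ _)

theorem ptz_eF (w : (AlgSt.ofSch (A0 y).P).obj) : ptz y ((eF y).obj w) = w.sec.down := by
  have h3 : (show w.base ⟶ w.base from mz y ((eF y).obj w)) ≫
      (show w.base ⟶ (A0 y).P from ptOf (thz y ((eF y).obj w))) = 𝟙 w.base ≫ w.sec.down :=
    congrArg₂ (fun (a : w.base ⟶ w.base) (b : w.base ⟶ (A0 y).P) => a ≫ b) (mz_eF y w)
      (ptOf_thz_eF y w)
  exact h3.trans (Category.id_comp _)

theorem Psi_eF_obj (w : (AlgSt.ofSch (A0 y).P).obj) :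
    (BasedFunctor.comp (eF y) (Psi y)).obj w = (BasedFunctor.id (AlgSt.ofSch (A0 y).P)).obj w := by
  obtain ⟨T, ⟨t⟩⟩ := w
  change (⟨T, ⟨ptz y ((eF y).obj ⟨T, ⟨t⟩⟩)⟩⟩ : Stk.EltObj ((AlgSp.yon S).obj (A0 y).P).obj) = ⟨T, ⟨t⟩⟩
  rw [ptz_eF]

def isoMkU {c c' : (FibCat.overCat U).obj}
    (hl : (FibCat.overCat U).p.obj c ≅ (FibCat.overCat U).p.obj c')
    (hw : hl.hom ≫ homU c' = homU c) : c ≅ c' := Over.isoMk hl hw

theorem isoMkU_hom {c c' : (FibCat.overCat U).obj}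
    (hl : (FibCat.overCat U).p.obj c ≅ (FibCat.overCat U).p.obj c')
    (hw : hl.hom ≫ homU c' = homU c) : (FibCat.overCat U).p.map (isoMkU hl hw).hom = hl.hom := rfl

theorem ptz_pi0 (z : (FP).obj) : ptz y z ≫ pi0 y = homU z.obj.fst := by
  have h1 : ptz y z ≫ pi0 y = mz y z ≫ (ptOf (thz y z) ≫ (A0 y).π) ≫ eqToHom (hA0 y) := by
    unfold ptz pi0
    simp only [Category.assoc]
  rw [h1, ptOf_π]
  exact pt_base_clean (isoHom y z) (isoInv y z) (isoHom_inv y z) (tau y z.obj.fst)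
    (homU z.obj.fst) (hc y z.obj.fst) (hA0 y) (tau_base y z.obj.fst)

theorem ptz_φ (z : (FP).obj) : ptz y z ≫ (A0 y).φ = mz y z ≫ (bz y z).sec.down := by
  unfold ptz
  rw [Category.assoc, ptOf_φ]

noncomputable def wz (z : (FP).obj) : (AlgSt.ofSch (A0 y).P).obj := (Psi y).obj z

noncomputable def e₁ (z : (FP).obj) : (aF y).obj (wz y z) ≅ z.obj.fst :=
  isoMkU (c := (aF y).obj (wz y z)) (c' := z.obj.fst) (Iso.refl (Tz y z))
    ((Category.id_comp _).trans (ptz_pi0 y z).symm)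

noncomputable def mzIso (z : (FP).obj) : Tz y z ≅ (bz y z).base :=
  eqToIso (hc y z.obj.fst).symm ≪≫ (QuotObj.forget K G aX).mapIso z.obj.iso

theorem mzIso_hom (z : (FP).obj) : (mzIso y z).hom = mz y z := rfl

noncomputable def e₂ (z : (FP).obj) : (bF y).obj (wz y z) ≅ z.obj.snd :=
  Over.isoMk (mzIso y z) (ptz_φ y z).symm

noncomputable def e₂Elt (z : (FP).obj) : bElt y (wz y z) ⟶ bz y z :=
  (AlgSt.ofOverCat X).map (e₂ y z).hom

theorem e₂Elt_hom (z : (FP).obj) : (e₂Elt y z).hom = mz y z := rfl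

theorem fX_e₂ (z : (FP).obj) :
    (fX K G aX).map (e₂ y z).hom = (AlgSt.quotMap K G aX).map (e₂Elt y z) := rfl

theorem y_e₁_base (z : (FP).obj) :
    (y.map (e₁ y z).hom).base =
      eqToHom (hcw y (wz y z)) ≫ 𝟙 (Tz y z) ≫ eqToHom (hc y z.obj.fst).symm :=
  y_map_base y (e₁ y z).hom

theorem cmp (z : (FP).obj) :
    epsInv y (wz y z) ≫ y.map (e₁ y z).hom =
      (AlgSt.quotMap K G aX).map (e₂Elt y z) ≫ isoInv y z := by
  apply hom_ext_cart (tau y z.obj.fst)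
  · change (epsInv y (wz y z)).base ≫ (y.map (e₁ y z).hom).base =
      (e₂Elt y z).hom ≫ (isoInv y z).base
    rw [epsInv_base, e₂Elt_hom]
    have h1 := base_cancel₂ (y.map (e₁ y z).hom) (𝟙 (Tz y z)) (hcw y (wz y z)) (hc y z.obj.fst)
      (y_e₁_base y z)
    have h2 := base_retract (isoHom y z) (isoInv y z) (isoHom_inv y z) (hc y z.obj.fst)
    rw [Category.id_comp] at h1
    exact h1.trans h2.symm
  · rw [Category.assoc, Category.assoc, tau_comp, epsInv_comp]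
    apply hom_ext_pt
    have h3 : isoInv y z ≫ tau y z.obj.fst = thz y z := rfl
    rw [h3, ptOf_canon, ptOf_map, e₂Elt_hom]
    rfl

theorem theta_w (z : (FP).obj) :
    y.map (e₁ y z).hom ≫ z.obj.iso.hom =
      (epsIso y (wz y z)).hom ≫ (fX K G aX).map (e₂ y z).hom :=
  cat_aux (C := QuotObj K G aX) (epsInv y (wz y z)) (epsIso y (wz y z)).hom (y.map (e₁ y z).hom)
    ((AlgSt.quotMap K G aX).map (e₂Elt y z)) (isoInv y z) z.obj.iso.hom (cmp y z)
    (epsIso y (wz y z)).hom_inv_id z.obj.iso.inv_hom_id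

noncomputable def thetaCP (z : (FP).obj) : ((eF y).obj ((Psi y).obj z)).obj ≅ z.obj :=
  CategoryTheory.Limits.CategoricalPullback.mkIso (e₁ y z) (e₂ y z) (theta_w y z)

noncomputable def theta (z : (FP).obj) : (eF y).obj ((Psi y).obj z) ≅ z :=
  ObjectProperty.isoMk _ (thetaCP y z)

theorem theta_nat {z z' : (FP).obj} (mm : z ⟶ z') :
    (eF y).map ((Psi y).map mm) ≫ (theta y z').hom = (theta y z).hom ≫ mm := by
  apply ObjectProperty.hom_ext
  apply CategoryTheory.Limits.CategoricalPullback.hom_ext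
  · apply Over.OverMorphism.ext
    change fstMap y mm ≫ 𝟙 _ = 𝟙 _ ≫ fstMap y mm
    rw [Category.comp_id, Category.id_comp]
  · apply Over.OverMorphism.ext
    exact mz_nat y mm

theorem eF_isEquivOver : FibCat.IsEquivOver (eF y) := by
  refine ⟨Psi y, ⟨eqToIso (based_ext _ _ (Psi_eF_obj y))⟩, ⟨?_⟩⟩
  refine BasedNatIso.mkNatIso (NatIso.ofComponents (fun z => theta y z) (fun mm => theta_nat y mm)) ?_
  intro z
  have h : (FP).p.map (theta y z).hom = 𝟙 (Tz y z) := rfl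
  have h2 := IsHomLift.map (FP).p (theta y z).hom
  rw [h] at h2
  exact h2

end Inverse

end Equiv

end Groth.Agent.Lib.Helper14.QuotStRep
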