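import Mathlib

set_option autoImplicit false
universe u
open CategoryTheory CategoryTheory.Limits AlgebraicGeometry TensorProduct

namespace Groth.Agent.Lib.Helper14.SD77PLUMB

theorem fromSpec_appLE_top {X : Scheme.{u}} {U : X.Opens} (hU : IsAffineOpen U)
    (h : ⊤ ≤ hU.fromSpec ⁻¹ᵁ U) :
    hU.fromSpec.appLE U ⊤ h = (Scheme.ΓSpecIso Γ(X, U)).inv := by
  rw [Scheme.Hom.appLE, hU.fromSpec_app_self, Category.assoc, ← Functor.map_comp]
  have h1 : (eqToHom hU.fromSpec_preimage_self).op ≫ (homOfLE h).op = 𝟙 _ :=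
    Subsingleton.elim _ _
  rw [h1, CategoryTheory.Functor.map_id, Category.comp_id]

theorem specMap_fromSpec_appLE {X : Scheme.{u}} {U : X.Opens} (hU : IsAffineOpen U)
    {B : CommRingCat.{u}} (φ : Γ(X, U) ⟶ B) (h : ⊤ ≤ (Spec.map φ ≫ hU.fromSpec) ⁻¹ᵁ U) :
    (Spec.map φ ≫ hU.fromSpec).appLE U ⊤ h = φ ≫ (Scheme.ΓSpecIso B).inv := by
  rw [← Scheme.Hom.appLE_comp_appLE (Spec.map φ) hU.fromSpec U ⊤ ⊤
    (by rw [hU.fromSpec_preimage_self]) le_top, fromSpec_appLE_top,
    Scheme.ΓSpecIso_inv_naturality]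
  congr 1

theorem appLE_congr_hom {X Y : Scheme.{u}} {f g : X ⟶ Y} (hfg : f = g) (U : Y.Opens)
    (V : X.Opens) (h : V ≤ f ⁻¹ᵁ U) :
    f.appLE U V h = g.appLE U V (by rw [← hfg]; exact h) := by
  subst hfg
  rfl

theorem plumb {k : Type u} [Field k] {X S' : Scheme.{u}} (p : X ⟶ Spec (CommRingCat.of k))
    (q : S' ⟶ Spec (CommRingCat.of k)) (V : (pullback p q).Opens) (x : ↥(pullback p q))
    (hx : x ∈ V) :
    ∃ (U : X.Opens) (_ : IsAffineOpen U) (U' : (pullback p q).Opens) (_ : IsAffineOpen U')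
      (hUU' : U' ≤ (pullback.fst p q) ⁻¹ᵁ U) (_ : x ∈ U') (_ : U' ≤ V) (_ : Algebra k Γ(X, U))
      (R : Type u) (_ : CommRing R) (_ : Algebra k R)
      (ι : Γ(X, U) ⊗[k] R →+* Γ(pullback p q, U')) (b : Γ(X, U) ⊗[k] R),
      ι.comp Algebra.TensorProduct.includeLeftRingHom =
        ((pullback.fst p q).appLE U U' hUU').hom ∧
      (letI := ι.toAlgebra; IsLocalization.Away b Γ(pullback p q, U')) := by
  obtain ⟨U, hU, hxU, -⟩ := exists_isAffineOpen_mem_and_subset
    (x := pullback.fst p q x) (U := ⊤) trivial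
  obtain ⟨T, hT, hxT, -⟩ := exists_isAffineOpen_mem_and_subset
    (x := pullback.snd p q x) (U := ⊤) trivial
  let φU : CommRingCat.of k ⟶ Γ(X, U) := Spec.preimage (hU.fromSpec ≫ p)
  let φT : CommRingCat.of k ⟶ Γ(S', T) := Spec.preimage (hT.fromSpec ≫ q)
  let algU : Algebra k Γ(X, U) := φU.hom.toAlgebra
  let algT : Algebra k Γ(S', T) := φT.hom.toAlgebra
  have eU : Spec.map (CommRingCat.ofHom (algebraMap k Γ(X, U))) = hU.fromSpec ≫ p :=
    Spec.map_preimage _
  have eT : Spec.map (CommRingCat.ofHom (algebraMap k Γ(S', T))) = hT.fromSpec ≫ q :=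
    Spec.map_preimage _
  let m := pullback.map (Spec.map (CommRingCat.ofHom (algebraMap k Γ(X, U))))
    (Spec.map (CommRingCat.ofHom (algebraMap k Γ(S', T)))) p q hU.fromSpec hT.fromSpec (𝟙 _)
    (by rw [Category.comp_id, eU]) (by rw [Category.comp_id, eT])
  let j : Spec (CommRingCat.of (Γ(X, U) ⊗[k] Γ(S', T))) ⟶ pullback p q :=
    (pullbackSpecIso k Γ(X, U) Γ(S', T)).inv ≫ m
  have hj : IsOpenImmersion j := inferInstance
  have hjfst : j ≫ pullback.fst p q =
      Spec.map (CommRingCat.ofHom Algebra.TensorProduct.includeLeftRingHom) ≫ hU.fromSpec := by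
    simp only [j, m, Category.assoc, pullback.lift_fst, pullback.map]
    rw [← Category.assoc, pullbackSpecIso_inv_fst]
  have hxr : x ∈ Set.range j := by
    have h1 : x ∈ Set.range m := by
      rw [Scheme.Pullback.range_map]
      refine ⟨?_, ?_⟩
      · rw [Set.mem_preimage, hU.range_fromSpec]
        exact hxU
      · rw [Set.mem_preimage, hT.range_fromSpec]
        exact hxT
    obtain ⟨y₀, hy₀⟩ := h1
    refine ⟨(pullbackSpecIso k Γ(X, U) Γ(S', T)).hom y₀, ?_⟩
    rw [← Scheme.Hom.comp_apply]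
    simp only [j, Iso.hom_inv_id_assoc]
    exact hy₀
  obtain ⟨y, hy⟩ := hxr
  let W : (pullback p q).Opens := j ''ᵁ ⊤
  have hW : IsAffineOpen W := (isAffineOpen_top _).image_of_isOpenImmersion j
  have hxW : x ∈ W := ⟨y, trivial, hy⟩
  have hWU : W ≤ (pullback.fst p q) ⁻¹ᵁ U := by
    rintro z ⟨y', -, rfl⟩
    change (pullback.fst p q) (j y') ∈ U
    rw [← Scheme.Hom.comp_apply, hjfst, Scheme.Hom.comp_apply]
    have h2 : hU.fromSpec ((Spec.map (CommRingCat.ofHom
        Algebra.TensorProduct.includeLeftRingHom)) y') ∈ Set.range hU.fromSpec := ⟨_, rfl⟩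
    rw [hU.range_fromSpec] at h2
    exact h2
  obtain ⟨f, hfV, hxf⟩ := hW.exists_basicOpen_le (V := V) ⟨x, hx⟩ hxW
  have hU'W : (pullback p q).basicOpen f ≤ W := (pullback p q).basicOpen_le f
  let E : CommRingCat.of (Γ(X, U) ⊗[k] Γ(S', T)) ≅ Γ(pullback p q, W) :=
    (Scheme.ΓSpecIso _).symm ≪≫ (j.appIso ⊤).symm
  let e₀ : (Γ(X, U) ⊗[k] Γ(S', T)) ≃+* Γ(pullback p q, W) := E.commRingCatIsoToRingEquiv
  have hloc : IsLocalization.Away f Γ(pullback p q, (pullback p q).basicOpen f) :=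
    hW.isLocalization_basicOpen f
  have hloc2 := IsLocalization.isLocalization_of_base_ringEquiv (Submonoid.powers f)
    Γ(pullback p q, (pullback p q).basicOpen f) e₀.symm
  refine ⟨U, hU, (pullback p q).basicOpen f, hW.basicOpen f, hU'W.trans hWU, hxf, hfV, algU,
    Γ(S', T), inferInstance, algT,
    (algebraMap Γ(pullback p q, W) Γ(pullback p q, (pullback p q).basicOpen f)).comp
      e₀.symm.symm.toRingHom, e₀.symm f, ?_, ?_⟩
  · have key : CommRingCat.ofHom Algebra.TensorProduct.includeLeftRingHom ≫ E.hom =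
        (pullback.fst p q).appLE U W hWU := by
      rw [← cancel_mono (j.appIso ⊤).hom]
      simp only [E, Iso.trans_hom, Iso.symm_hom, Category.assoc, Iso.inv_hom_id, Category.comp_id]
      rw [Scheme.Hom.appIso_hom', Scheme.Hom.appLE_comp_appLE, appLE_congr_hom hjfst,
        specMap_fromSpec_appLE]
    have key2 : CommRingCat.ofHom Algebra.TensorProduct.includeLeftRingHom ≫ E.hom ≫
        (pullback p q).presheaf.map (homOfLE hU'W).op =
        (pullback.fst p q).appLE U ((pullback p q).basicOpen f) (hU'W.trans hWU) := by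
      rw [← Category.assoc, key, Scheme.Hom.appLE_map]
    ext a
    have h4 := congrArg (fun t => t.hom a) key2
    exact h4
  · have h3 := hloc2
    rw [Submonoid.map_powers] at h3
    exact h3

end Groth.Agent.Lib.Helper14.SD77PLUMB
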