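import Mathlib
import Groth.Prelude.Def_CInt
import Groth.Prelude.Def_AlgSp

set_option autoImplicit false
universe u
open CategoryTheory CategoryTheory.Limits AlgebraicGeometry

namespace Groth.Agent.Lib.Helper14.SDD4

theorem inj_of_le {X : Scheme.{u}} {U : X.Opens} (hU : CInt.IsSchematicallyDense U)
    {V O : X.Opens} (h : O ≤ V) (hO : V ⊓ U ≤ O) :
    Function.Injective (X.presheaf.map (homOfLE h).op) := by
  have e : X.presheaf.map (homOfLE (inf_le_left : V ⊓ U ≤ V)).op =
      X.presheaf.map (homOfLE h).op ≫ X.presheaf.map (homOfLE hO).op := by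
    rw [← Functor.map_comp]; rfl
  intro s t hst
  apply hU V
  rw [e, CommRingCat.comp_apply, CommRingCat.comp_apply, hst]

theorem D4 {X : Scheme.{u}} (U V : X.Opens) (hU : CInt.IsSchematicallyDense U)
    (hV : CInt.IsSchematicallyDense V) : CInt.IsSchematicallyDense (U ⊓ V) := by
  intro W s t hst
  apply hU W
  apply inj_of_le hV (V := W ⊓ U) (O := W ⊓ (U ⊓ V)) (by rw [← inf_assoc]; exact inf_le_left)
    (by rw [← inf_assoc])
  have e : X.presheaf.map (homOfLE (inf_le_left : W ⊓ (U ⊓ V) ≤ W)).op =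
      X.presheaf.map (homOfLE (inf_le_left : W ⊓ U ≤ W)).op ≫
        X.presheaf.map (homOfLE (by rw [← inf_assoc]; exact inf_le_left :
          W ⊓ (U ⊓ V) ≤ W ⊓ U)).op := by
    rw [← Functor.map_comp]; rfl
  rw [e, CommRingCat.comp_apply, CommRingCat.comp_apply] at hst
  exact hst

end Groth.Agent.Lib.Helper14.SDD4
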