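import Mathlib
set_option autoImplicit false
universe u
open TensorProduct

namespace Groth.Agent.Lib.Helper14.SDMPUR

section
variable {A : Type u} [CommRing A] {T : Type u} [CommRing T] [Algebra A T]
  (b : T) (Bu : Type u) [CommRing Bu] [Algebra T Bu] [IsLocalization.Away b Bu]
  [Algebra A Bu] [IsScalarTower A T Bu] (N : Type u) [AddCommGroup N] [Module A N]

noncomputable def hmap : T ⊗[A] N →ₗ[T] Bu ⊗[A] N :=
  TensorProduct.AlgebraTensorModule.map (Algebra.linearMap T Bu) (LinearMap.id : N →ₗ[A] N)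

theorem hmap_tmul (t : T) (n : N) : hmap (A := A) (T := T) Bu N (t ⊗ₜ n) = algebraMap T Bu t ⊗ₜ n := rfl

theorem isLocalizedModule_hmap :
    IsLocalizedModule (Submonoid.powers b) (hmap (A := A) (T := T) Bu N) := by
  rw [isLocalizedModule_iff_isBaseChange (Submonoid.powers b) Bu]
  have h1 : IsBaseChange T (TensorProduct.mk A T N 1) := TensorProduct.isBaseChange A N T
  refine IsBaseChange.of_comp h1 ?_
  have h2 : ((hmap (A := A) (T := T) Bu N).restrictScalars A) ∘ₗ (TensorProduct.mk A T N 1) =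
      TensorProduct.mk A Bu N 1 := by
    ext n
    simp [hmap_tmul]
  rw [h2]
  exact TensorProduct.isBaseChange A N Bu

end

section
variable {A : Type u} [CommRing A] {T₀ T : Type u} [CommRing T₀] [CommRing T]
  [Algebra A T₀] [Algebra A T] (ι : T₀ →ₐ[A] T) (ρ : T →ₗ[A] T₀) (hρ : ∀ t, ρ (ι t) = t)
  (b₀ : T₀) {B₀ Bu : Type u} [CommRing B₀] [CommRing Bu] [Algebra T₀ B₀] [Algebra T Bu]
  [IsLocalization.Away b₀ B₀] [IsLocalization.Away (ι b₀) Bu] [Algebra A B₀] [Algebra A Bu]
  [IsScalarTower A T₀ B₀] [IsScalarTower A T Bu] (j : B₀ →ₐ[A] Bu)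
  (hj : ∀ t, j (algebraMap T₀ B₀ t) = algebraMap T Bu (ι t))
  (N : Type u) [AddCommGroup N] [Module A N]

include hρ in
theorem rTensor_injective_of_retraction :
    Function.Injective (ι.toLinearMap.rTensor N) := by
  have h1 : (ρ.rTensor N) ∘ₗ (ι.toLinearMap.rTensor N) = LinearMap.id := by
    rw [← LinearMap.rTensor_comp]
    have h2 : ρ ∘ₗ ι.toLinearMap = LinearMap.id := by
      ext t
      exact hρ t
    rw [h2, LinearMap.rTensor_id]
  intro x y hxy
  have h3 := congrArg (ρ.rTensor N) hxy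
  have h4 : ∀ w, (ρ.rTensor N) ((ι.toLinearMap.rTensor N) w) = w := fun w =>
    LinearMap.congr_fun h1 w
  rwa [h4, h4] at h3

theorem rTensor_smul (t : T₀) (w : T₀ ⊗[A] N) :
    ι.toLinearMap.rTensor N (t • w) = ι t • ι.toLinearMap.rTensor N w := by
  induction w using TensorProduct.induction_on with
  | zero => simp
  | tmul x n =>
    rw [TensorProduct.smul_tmul', LinearMap.rTensor_tmul, LinearMap.rTensor_tmul,
      TensorProduct.smul_tmul']
    simp
  | add x y hx hy => rw [smul_add, map_add, hx, hy, map_add, smul_add]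

include hj in
theorem J_smul (t : T₀) (z : B₀ ⊗[A] N) :
    j.toLinearMap.rTensor N (t • z) = ι t • j.toLinearMap.rTensor N z := by
  induction z using TensorProduct.induction_on with
  | zero => simp
  | tmul x n =>
    rw [TensorProduct.smul_tmul', LinearMap.rTensor_tmul, LinearMap.rTensor_tmul,
      TensorProduct.smul_tmul']
    congr 1
    rw [Algebra.smul_def, Algebra.smul_def, AlgHom.toLinearMap_apply, map_mul, hj]
    rfl
  | add x y hx hy => rw [smul_add, map_add, hx, hy, map_add, smul_add]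

include hj in
theorem J_hmap (w : T₀ ⊗[A] N) :
    j.toLinearMap.rTensor N (hmap (A := A) (T := T₀) B₀ N w) =
      hmap (A := A) (T := T) Bu N (ι.toLinearMap.rTensor N w) := by
  induction w using TensorProduct.induction_on with
  | zero => simp
  | tmul x n =>
    rw [hmap_tmul, LinearMap.rTensor_tmul, LinearMap.rTensor_tmul, hmap_tmul]
    congr 1
    exact hj x
  | add x y hx hy => rw [map_add, map_add, hx, hy, map_add, map_add]

end

theorem purity {A : Type u} [CommRing A] {T₀ T : Type u} [CommRing T₀] [CommRing T]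
    [Algebra A T₀] [Algebra A T] (ι : T₀ →ₐ[A] T) (ρ : T →ₗ[A] T₀) (hρ : ∀ t, ρ (ι t) = t)
    (b₀ : T₀) {B₀ Bu : Type u} [CommRing B₀] [CommRing Bu] [Algebra T₀ B₀] [Algebra T Bu]
    [IsLocalization.Away b₀ B₀] [IsLocalization.Away (ι b₀) Bu] [Algebra A B₀] [Algebra A Bu]
    [IsScalarTower A T₀ B₀] [IsScalarTower A T Bu] (j : B₀ →ₐ[A] Bu)
    (hj : ∀ t, j (algebraMap T₀ B₀ t) = algebraMap T Bu (ι t))
    (N : Type u) [AddCommGroup N] [Module A N] :
    Function.Injective (j.toLinearMap.rTensor N) := by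
  rw [injective_iff_map_eq_zero]
  intro z hz
  have L₀ := isLocalizedModule_hmap (A := A) b₀ B₀ N
  have L := isLocalizedModule_hmap (A := A) (ι b₀) Bu N
  obtain ⟨⟨w, ⟨_, n, rfl⟩⟩, hw⟩ := IsLocalizedModule.surj (Submonoid.powers b₀)
    (hmap (A := A) (T := T₀) B₀ N) z
  have hw' : (b₀ ^ n) • z = hmap (A := A) (T := T₀) B₀ N w := hw
  have h1 : hmap (A := A) (T := T) Bu N (ι.toLinearMap.rTensor N w) = 0 := by
    rw [← J_hmap ι j hj N, ← hw', J_smul ι j hj N, hz, smul_zero]
  obtain ⟨⟨_, m, rfl⟩, hm⟩ := (IsLocalizedModule.eq_zero_iff (Submonoid.powers (ι b₀))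
    (hmap (A := A) (T := T) Bu N)).mp h1
  have hm' : (ι b₀ ^ m) • (ι.toLinearMap.rTensor N w) = 0 := hm
  have h2 : ι.toLinearMap.rTensor N ((b₀ ^ m) • w) = 0 := by
    rw [rTensor_smul, map_pow, hm']
  have h3 : (b₀ ^ m) • w = 0 := by
    apply rTensor_injective_of_retraction ι ρ hρ N
    rw [h2, map_zero]
  have h4 : hmap (A := A) (T := T₀) B₀ N w = 0 := by
    apply (IsLocalizedModule.eq_zero_iff (Submonoid.powers b₀)
      (hmap (A := A) (T := T₀) B₀ N)).mpr
    exact ⟨⟨b₀ ^ m, m, rfl⟩, h3⟩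
  rw [h4] at hw'
  have h5 := IsLocalizedModule.smul_injective (hmap (A := A) (T := T₀) B₀ N)
    (⟨b₀ ^ n, n, rfl⟩ : Submonoid.powers b₀)
  apply h5
  change (b₀ ^ n) • z = (b₀ ^ n) • (0 : B₀ ⊗[A] N)
  rw [smul_zero]
  exact hw'

theorem exists_retraction {K : Type u} [Field K] {A R : Type u} [CommRing A] [Algebra K A]
    [CommRing R] [Algebra K R] (R₀ : Subalgebra K R) :
    ∃ ρ : A ⊗[K] R →ₗ[A] A ⊗[K] R₀,
      ∀ t, ρ (Algebra.TensorProduct.map (AlgHom.id A A) R₀.val t) = t := by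
  obtain ⟨r, hr⟩ := LinearMap.exists_leftInverse_of_injective R₀.val.toLinearMap
    (LinearMap.ker_eq_bot.mpr Subtype.val_injective)
  refine ⟨TensorProduct.AlgebraTensorModule.map (LinearMap.id : A →ₗ[A] A) r, ?_⟩
  intro t
  induction t using TensorProduct.induction_on with
  | zero => simp
  | tmul a x =>
    have h1 : r (R₀.val.toLinearMap x) = x := LinearMap.congr_fun hr x
    simp only [Algebra.TensorProduct.map_tmul, AlgHom.coe_id, id_eq,
      TensorProduct.AlgebraTensorModule.map_tmul, LinearMap.id_coe]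
    congr 1
  | add x y hx hy => rw [map_add, map_add, hx, hy]

end Groth.Agent.Lib.Helper14.SDMPUR
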