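import Groth.Agent.Lib.Helper14.SegreWeight
import Groth.Agent.Lib.Helper14.DimAlg
import Mathlib.Algebra.MvPolynomial.Rename
import Mathlib.LinearAlgebra.Finsupp.LinearCombination
import Mathlib.RingTheory.TensorProduct.MvPolynomial

set_option autoImplicit false
universe u

namespace Groth.Agent.Lib.Helper14

open scoped TensorProduct
open DirectSum MvPolynomial

section Mono

variable {k : Type*} [CommRing k] {σ τ : Type*}

noncomputable def monoHom (v : τ → (σ →₀ ℕ)) : MvPolynomial τ k →ₐ[k] MvPolynomial σ k :=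
  AddMonoidAlgebra.mapDomainAlgHom k k (Finsupp.linearCombination ℕ v).toAddMonoidHom

theorem monoHom_X (v : τ → (σ →₀ ℕ)) (l : τ) :
    monoHom (k := k) v (X l) = monomial (v l) 1 := by
  simp [MvPolynomial, monoHom, X, monomial]

theorem monoHom_injective (v : τ → (σ →₀ ℕ))
    (hv : Function.Injective (Finsupp.linearCombination ℕ v)) :
    Function.Injective (monoHom (k := k) v) :=
  AddMonoidAlgebra.mapDomain_injective hv

theorem algebraicIndependent_monomials {C : Type*} [CommRing C] [Algebra k C] (z : σ → C)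
    (hz : AlgebraicIndependent k z) (v : τ → σ →₀ ℕ)
    (hv : Function.Injective (Finsupp.linearCombination ℕ v)) :
    AlgebraicIndependent k (fun l => (v l).prod (fun x e => z x ^ e)) := by
  rw [algebraicIndependent_iff_injective_aeval]
  have h : aeval (fun l => (v l).prod (fun x e => z x ^ e)) =
      (aeval z).comp (monoHom (k := k) v) := by
    apply MvPolynomial.algHom_ext
    intro l
    rw [AlgHom.comp_apply, monoHom_X, aeval_X, aeval_monomial]
    simp
  rw [h]
  exact (algebraicIndependent_iff_injective_aeval.mp hz).comp (monoHom_injective v hv)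

end Mono

section ExpVec

open Finsupp

variable (r' s' : ℕ) (d : Fin (r' + 1) → ℕ) (e : Fin (s' + 1) → ℕ)

noncomputable def expVec : (Fin (r' + 1) ⊕ Fin s') → ((Fin (r' + 1) ⊕ Fin (s' + 1)) →₀ ℕ)
  | Sum.inl i => single (Sum.inl i) (e 0) + single (Sum.inr 0) (d i)
  | Sum.inr j => single (Sum.inl 0) (e j.succ) + single (Sum.inr j.succ) (d 0)

theorem lc_apply (c : (Fin (r' + 1) ⊕ Fin s') →₀ ℕ) (x : Fin (r' + 1) ⊕ Fin (s' + 1)) :
    linearCombination ℕ (expVec r' s' d e) c x =
      ∑ i, c (Sum.inl i) * expVec r' s' d e (Sum.inl i) x +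
        ∑ j, c (Sum.inr j) * expVec r' s' d e (Sum.inr j) x := by
  rw [linearCombination_apply, Finsupp.sum_fintype _ _ (by simp), Finsupp.finsetSum_apply,
    Fintype.sum_sum_type]
  simp

theorem expVec_injective (hd : ∀ i, 0 < d i) (he : ∀ j, 0 < e j) :
    Function.Injective (linearCombination ℕ (expVec r' s' d e)) := by
  intro c c' h
  have hx : ∀ x, linearCombination ℕ (expVec r' s' d e) c x =
      linearCombination ℕ (expVec r' s' d e) c' x := fun x => by rw [h]
  have hr : ∀ j : Fin s', c (Sum.inr j) = c' (Sum.inr j) := by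
    intro j
    have := hx (Sum.inr j.succ)
    rw [lc_apply, lc_apply] at this
    simp only [expVec, Finsupp.add_apply, Finsupp.single_apply, reduceCtorEq, if_false, zero_add,
      Sum.inr.injEq, Fin.succ_inj] at this
    simp only [(Fin.succ_ne_zero j).symm, if_false, mul_zero, Finset.sum_const_zero, zero_add,
      mul_ite, Finset.sum_ite_eq', Finset.mem_univ, if_true] at this
    exact Nat.eq_of_mul_eq_mul_right (hd 0) this
  have hl : ∀ i : Fin (r' + 1), i ≠ 0 → c (Sum.inl i) = c' (Sum.inl i) := by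
    intro i hi
    have := hx (Sum.inl i)
    rw [lc_apply, lc_apply] at this
    simp only [expVec, Finsupp.add_apply, Finsupp.single_apply, reduceCtorEq, if_false, add_zero,
      Sum.inl.injEq, hi.symm, mul_zero, Finset.sum_const_zero, mul_ite, Finset.sum_ite_eq',
      Finset.mem_univ, if_true] at this
    exact Nat.eq_of_mul_eq_mul_right (he 0) this
  have hl0 : c (Sum.inl 0) = c' (Sum.inl 0) := by
    have := hx (Sum.inl 0)
    rw [lc_apply, lc_apply] at this
    simp only [expVec, Finsupp.add_apply, Finsupp.single_apply, reduceCtorEq, if_false, add_zero,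
      Sum.inl.injEq, if_true, mul_ite, mul_zero, Finset.sum_ite_eq', Finset.mem_univ] at this
    simp only [hr] at this
    have := Nat.add_right_cancel this
    exact Nat.eq_of_mul_eq_mul_right (he 0) this
  ext x
  rcases x with i | j
  · by_cases hi : i = 0
    · rw [hi]; exact hl0
    · exact hl i hi
  · exact hr j

end ExpVec

section Homog

open Cardinal

variable {k : Type u} [Field k] {R : Type u} [CommRing R] [Algebra k R]
  (𝒜 : ℤ → Submodule k R) [GradedAlgebra 𝒜]

theorem exists_homogeneous_algebraicIndependent (hposR : ∀ n : ℤ, n < 0 → 𝒜 n = ⊥)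
    (h0R : 𝒜 0 = Submodule.span k {(1 : R)}) [Algebra.FiniteType k R] [Nontrivial R]
    (r : ℕ) (hr : ringKrullDim R = r) :
    ∃ (a : Fin r → R) (d : Fin r → ℕ), (∀ i, 0 < d i ∧ a i ∈ 𝒜 (d i)) ∧
      AlgebraicIndependent k a := by
  classical
  obtain ⟨x, hx⟩ := exists_algebraicIndependent_of_ringKrullDim_eq k R r hr
  obtain ⟨P, hP, hxP⟩ := exists_minimalPrime_algebraicIndependent k R x hx
  haveI : P.IsPrime := hP.1.1
  haveI : FaithfulSMul k (R ⧸ P) :=
    (faithfulSMul_iff_algebraMap_injective k (R ⧸ P)).mpr hxP.algebraMap_injective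
  let s : Set (R ⧸ P) := {y | ∃ a : R, SetLike.IsHomogeneousElem 𝒜 a ∧ Ideal.Quotient.mk P a = y}
  have hadj : Algebra.adjoin k s = ⊤ := by
    rw [eq_top_iff]
    intro y _
    obtain ⟨a, rfl⟩ := Ideal.Quotient.mk_surjective y
    rw [← DirectSum.sum_support_decompose 𝒜 a, map_sum]
    apply Subalgebra.sum_mem
    intro i _
    exact Algebra.subset_adjoin ⟨_, ⟨i, Submodule.coe_mem _⟩, rfl⟩
  haveI : Algebra.IsAlgebraic (Algebra.adjoin k s) (R ⧸ P) := by
    refine ⟨fun y => ?_⟩
    have hy : y ∈ Algebra.adjoin k s := by rw [hadj]; trivial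
    exact isAlgebraic_algebraMap (⟨y, hy⟩ : Algebra.adjoin k s)
  obtain ⟨tset, hts, htb⟩ := exists_isTranscendenceBasis_subset (R := k) s
  have hcard1 := hxP.lift_cardinalMk_le_trdeg
  have hcard2 := htb.cardinalMk_eq_trdeg
  rw [← hcard2] at hcard1
  have hemb : Nonempty (Fin r ↪ tset) := by
    have : lift.{u} #(Fin r) ≤ lift.{0} #tset := by simpa using hcard1
    exact Cardinal.lift_mk_le'.mp this
  obtain ⟨emb⟩ := hemb
  have hy : AlgebraicIndependent k (fun i : Fin r => ((emb i : tset) : R ⧸ P)) :=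
    htb.1.comp emb emb.injective
  have hex : ∀ i : Fin r, ∃ a : R, SetLike.IsHomogeneousElem 𝒜 a ∧
      Ideal.Quotient.mk P a = ((emb i : tset) : R ⧸ P) := fun i => hts (emb i).2
  choose a ha1 ha2 using hex
  have haind : AlgebraicIndependent k a := by
    have h3 : (fun i => Ideal.Quotient.mkₐ k P (a i)) =
        fun i : Fin r => ((emb i : tset) : R ⧸ P) := funext ha2
    have h4 : AlgebraicIndependent k (fun i => Ideal.Quotient.mkₐ k P (a i)) := by
      rw [h3]; exact hy
    exact AlgebraicIndependent.of_comp (Ideal.Quotient.mkₐ k P) h4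
  choose dZ hdZ using ha1
  have hpos : ∀ i, 0 < dZ i := by
    intro i
    by_contra hcon
    push Not at hcon
    have htr := haind.transcendental i
    rcases lt_or_eq_of_le hcon with hlt | heq
    · have h1 : a i ∈ (⊥ : Submodule k R) := (hposR _ hlt) ▸ hdZ i
      exact haind.ne_zero i ((Submodule.mem_bot k).mp h1)
    · have h1 : a i ∈ Submodule.span k {(1 : R)} := by
        have := hdZ i
        rw [heq, h0R] at this
        exact this
      obtain ⟨c, hc⟩ := Submodule.mem_span_singleton.mp h1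
      apply htr
      rw [← hc, ← Algebra.algebraMap_eq_smul_one]
      exact isAlgebraic_algebraMap c
  refine ⟨a, fun i => (dZ i).toNat, fun i => ⟨?_, ?_⟩, haind⟩
  · exact Int.lt_toNat.mpr (by simpa using hpos i)
  · have : ((dZ i).toNat : ℤ) = dZ i := Int.toNat_of_nonneg (hpos i).le
    rw [this]
    exact hdZ i

end Homog

section TensorFamily

variable {k : Type u} [Field k] {R : Type u} [CommRing R] [Algebra k R]
  {S : Type u} [CommRing S] [Algebra k S]

theorem algebraicIndependent_sumElim_tmul {ι ι' : Type} (a : ι → R) (b : ι' → S)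
    (ha : AlgebraicIndependent k a) (hb : AlgebraicIndependent k b) :
    AlgebraicIndependent k
      (Sum.elim (fun i => a i ⊗ₜ[k] (1 : S)) (fun j => (1 : R) ⊗ₜ[k] b j)) := by
  rw [algebraicIndependent_iff_injective_aeval]
  have h : aeval (Sum.elim (fun i => a i ⊗ₜ[k] (1 : S)) (fun j => (1 : R) ⊗ₜ[k] b j)) =
      (Algebra.TensorProduct.map (aeval a) (aeval b)).comp
        (MvPolynomial.tensorEquivSum k ι ι' k).symm.toAlgHom := by
    apply MvPolynomial.algHom_ext
    intro x
    rcases x with i | j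
    · have h1 : (MvPolynomial.tensorEquivSum k ι ι' k).symm (X (Sum.inl i)) =
          (X i : MvPolynomial ι k) ⊗ₜ[k] (1 : MvPolynomial ι' k) := by
        rw [AlgEquiv.symm_apply_eq]
        exact (MvPolynomial.tensorEquivSum_X_tmul_one i).symm
      simp [h1]
    · have h1 : (MvPolynomial.tensorEquivSum k ι ι' k).symm (X (Sum.inr j)) =
          (1 : MvPolynomial ι k) ⊗ₜ[k] (X j : MvPolynomial ι' k) := by
        rw [AlgEquiv.symm_apply_eq]
        exact (MvPolynomial.tensorEquivSum_one_tmul_X j).symm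
      simp [h1]
  rw [h]
  exact (tensorMap_injective k R S (aeval a) (aeval b)
    (algebraicIndependent_iff_injective_aeval.mp ha)
    (algebraicIndependent_iff_injective_aeval.mp hb)).comp
    (MvPolynomial.tensorEquivSum k ι ι' k).symm.injective

end TensorFamily

section LowerFamily

variable {k : Type u} [Field k] {R : Type u} [CommRing R] [Algebra k R]
  (𝒜 : ℤ → Submodule k R) [GradedAlgebra 𝒜]
  {S : Type u} [CommRing S] [Algebra k S] (ℬ : ℤ → Submodule k S) [GradedAlgebra ℬ]

theorem pow_tmul_pow_mem_Dn {a : R} {b : S} {d e : ℕ} (ha : a ∈ 𝒜 (d : ℤ)) (hb : b ∈ ℬ (e : ℤ)) :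
    (a ^ e) ⊗ₜ[k] (b ^ d) ∈ Dn 𝒜 ℬ ((e * d : ℕ) : ℤ) := by
  apply Submodule.subset_span
  refine ⟨a ^ e, ?_, b ^ d, ?_, rfl⟩
  · have := SetLike.pow_mem_graded e ha
    simpa using this
  · have := SetLike.pow_mem_graded d hb
    simpa [mul_comm] using this

theorem exists_lower_family (hposR : ∀ n : ℤ, n < 0 → 𝒜 n = ⊥)
    (h0R : 𝒜 0 = Submodule.span k {(1 : R)}) (hposS : ∀ n : ℤ, n < 0 → ℬ n = ⊥)
    (h0S : ℬ 0 = Submodule.span k {(1 : S)})
    [Algebra.FiniteType k R] [Algebra.FiniteType k S] [Nontrivial R] [Nontrivial S]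
    (r' s' : ℕ) (hr : ringKrullDim R = ((r' + 1 : ℕ) : WithBot ℕ∞))
    (hs : ringKrullDim S = ((s' + 1 : ℕ) : WithBot ℕ∞)) :
    ∃ m : (Fin (r' + 1) ⊕ Fin s') → R ⊗[k] S, AlgebraicIndependent k m ∧
      ∀ l, ∃ n : ℤ, m l ∈ Dn 𝒜 ℬ n := by
  obtain ⟨a, d, had, ha⟩ := exists_homogeneous_algebraicIndependent 𝒜 hposR h0R (r' + 1) hr
  obtain ⟨b, e, hbe, hb⟩ := exists_homogeneous_algebraicIndependent ℬ hposS h0S (s' + 1) hs
  set z : Fin (r' + 1) ⊕ Fin (s' + 1) → R ⊗[k] S :=
    Sum.elim (fun i => a i ⊗ₜ[k] (1 : S)) (fun j => (1 : R) ⊗ₜ[k] b j) with hz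
  have hzind : AlgebraicIndependent k z := algebraicIndependent_sumElim_tmul a b ha hb
  refine ⟨fun l => (expVec r' s' d e l).prod (fun x n => z x ^ n),
    algebraicIndependent_monomials z hzind _
      (expVec_injective r' s' d e (fun i => (had i).1) (fun j => (hbe j).1)), ?_⟩
  intro l
  rcases l with i | j
  · refine ⟨((e 0 * d i : ℕ) : ℤ), ?_⟩
    have : (expVec r' s' d e (Sum.inl i)).prod (fun x n => z x ^ n) =
        (a i ^ e 0) ⊗ₜ[k] (b 0 ^ d i) := by
      simp only [expVec]
      rw [Finsupp.prod_add_index' (fun _ => pow_zero _) (fun _ _ _ => pow_add _ _ _)]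
      simp [Finsupp.prod_single_index, hz, Algebra.TensorProduct.tmul_pow]
    show (expVec r' s' d e (Sum.inl i)).prod (fun x n => z x ^ n) ∈ _
    rw [this]
    exact pow_tmul_pow_mem_Dn 𝒜 ℬ (had i).2 (hbe 0).2
  · refine ⟨((e j.succ * d 0 : ℕ) : ℤ), ?_⟩
    have : (expVec r' s' d e (Sum.inr j)).prod (fun x n => z x ^ n) =
        (a 0 ^ e j.succ) ⊗ₜ[k] (b j.succ ^ d 0) := by
      simp only [expVec]
      rw [Finsupp.prod_add_index' (fun _ => pow_zero _) (fun _ _ _ => pow_add _ _ _)]
      simp [Finsupp.prod_single_index, hz, Algebra.TensorProduct.tmul_pow]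
    show (expVec r' s' d e (Sum.inr j)).prod (fun x n => z x ^ n) ∈ _
    rw [this]
    exact pow_tmul_pow_mem_Dn 𝒜 ℬ (had 0).2 (hbe j.succ).2

end LowerFamily

end Groth.Agent.Lib.Helper14
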