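import Groth.Agent.Lib.Helper14.SegreWeight
import Groth.Agent.Lib.Helper14.DimAlg
import Mathlib.RingTheory.GradedAlgebra.Radical
import Mathlib.LinearAlgebra.TensorProduct.RightExactness
import Mathlib.RingTheory.Flat.Basic
import Mathlib.RingTheory.FiniteStability

set_option autoImplicit false
universe u

namespace Groth.Agent.Lib.Helper14

open scoped TensorProduct
open DirectSum

section

variable {k : Type u} [Field k] {R : Type u} [CommRing R] [Algebra k R]
  (𝒜 : ℤ → Submodule k R) [GradedAlgebra 𝒜]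
  {S : Type u} [CommRing S] [Algebra k S] (ℬ : ℤ → Submodule k S) [GradedAlgebra ℬ]

noncomputable def piP (P : Ideal R) : R ⊗[k] S →ₐ[k] (R ⧸ P) ⊗[k] S :=
  Algebra.TensorProduct.map (Ideal.Quotient.mkₐ k P) (AlgHom.id k S)

omit [GradedAlgebra 𝒜] [GradedAlgebra ℬ] in
theorem piP_tmul (P : Ideal R) (a : R) (b : S) :
    piP (k := k) (S := S) P (a ⊗ₜ[k] b) = (Ideal.Quotient.mk P a) ⊗ₜ[k] b := rfl

theorem piP_surjective (P : Ideal R) : Function.Surjective (piP (k := k) (S := S) P) :=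
  Algebra.TensorProduct.map_surjective _ _ (Ideal.Quotient.mkₐ_surjective k P)
    Function.surjective_id

theorem ker_piP (P : Ideal R) : RingHom.ker (piP (k := k) (S := S) P) =
    P.map (Algebra.TensorProduct.includeLeft : R →ₐ[k] R ⊗[k] S) := by
  unfold piP
  rw [Algebra.TensorProduct.rTensor_ker _ (Ideal.Quotient.mkₐ_surjective k P)]
  congr 1
  ext x
  exact Ideal.Quotient.eq_zero_iff_mem

theorem piP_projW_tmul_one_mul (P : Ideal R) (hP : P.IsHomogeneous 𝒜) {p : R} (hp : p ∈ P)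
    (c : R ⊗[k] S) (w : ℤ) :
    piP (k := k) (S := S) P (projW 𝒜 ℬ w ((p ⊗ₜ[k] (1 : S)) * c)) = 0 := by
  classical
  have h1 : (1 : S) ∈ ℬ 0 := SetLike.GradedOne.one_mem
  rw [← DirectSum.sum_support_decompose 𝒜 p, TensorProduct.sum_tmul, Finset.sum_mul, map_sum,
    map_sum]
  apply Finset.sum_eq_zero
  intro e _
  rw [projW_tmul_mul 𝒜 ℬ w (Submodule.coe_mem _) h1, map_mul, piP_tmul]
  have : Ideal.Quotient.mk P ((decompose 𝒜 p e : 𝒜 e) : R) = 0 :=
    Ideal.Quotient.eq_zero_iff_mem.mpr (hP e hp)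
  rw [this, TensorProduct.zero_tmul, zero_mul]

theorem projW_mem_ker_piP (P : Ideal R) (hP : P.IsHomogeneous 𝒜) {z : R ⊗[k] S}
    (hz : z ∈ RingHom.ker (piP (k := k) (S := S) P)) (w : ℤ) :
    projW 𝒜 ℬ w z ∈ RingHom.ker (piP (k := k) (S := S) P) := by
  rw [ker_piP, Ideal.map] at hz
  have key : ∀ c : R ⊗[k] S, piP (k := k) (S := S) P (projW 𝒜 ℬ w (c * z)) = 0 := by
    induction hz using Submodule.span_induction with
    | mem z hz =>
      obtain ⟨p, hp, rfl⟩ := hz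
      intro c
      rw [mul_comm]
      exact piP_projW_tmul_one_mul 𝒜 ℬ P hP hp c w
    | zero => intro c; simp
    | add x y _ _ hx hy => intro c; rw [mul_add, map_add, map_add, hx, hy, add_zero]
    | smul c' x _ hx =>
      intro c
      rw [smul_eq_mul, ← mul_assoc]
      exact hx (c * c')
  have := key 1
  rwa [one_mul] at this

end

section

variable {k : Type u} [Field k] {R : Type u} [CommRing R] [Algebra k R]
  {S : Type u} [CommRing S] [Algebra k S]

theorem tmul_one_mul_eq_zero (P : Ideal R) [P.IsPrime] {a : R} (ha : a ∉ P)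
    (z : (R ⧸ P) ⊗[k] S) (hz : ((Ideal.Quotient.mk P a) ⊗ₜ[k] (1 : S)) * z = 0) : z = 0 := by
  let f : (R ⧸ P) →ₗ[k] (R ⧸ P) := LinearMap.mulLeft k (Ideal.Quotient.mk P a)
  have hf : Function.Injective f := by
    intro x y hxy
    have ha0 : Ideal.Quotient.mk P a ≠ 0 := fun h => ha (Ideal.Quotient.eq_zero_iff_mem.mp h)
    exact mul_left_cancel₀ ha0 hxy
  have hinj := Module.Flat.rTensor_preserves_injective_linearMap (M := S) f hf
  have hcomp : ∀ z : (R ⧸ P) ⊗[k] S,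
      f.rTensor S z = ((Ideal.Quotient.mk P a) ⊗ₜ[k] (1 : S)) * z := by
    intro z
    induction z using TensorProduct.induction_on with
    | zero => simp
    | add x y hx hy => rw [map_add, hx, hy, mul_add]
    | tmul x y =>
      rw [LinearMap.rTensor_tmul, Algebra.TensorProduct.tmul_mul_tmul, one_mul]
      rfl
  apply hinj
  rw [hcomp, hz, map_zero]

end

section

variable {k : Type u} [Field k] {R : Type u} [CommRing R] [Algebra k R]
  (𝒜 : ℤ → Submodule k R) [GradedAlgebra 𝒜]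
  {S : Type u} [CommRing S] [Algebra k S] (ℬ : ℤ → Submodule k S) [GradedAlgebra ℬ]

theorem piP_projW_zero_mem_range (hposR : ∀ n : ℤ, n < 0 → 𝒜 n = ⊥)
    (h0R : 𝒜 0 = Submodule.span k {(1 : R)}) (h0S : ℬ 0 = Submodule.span k {(1 : S)})
    (P : Ideal R) (hP : ∀ n : ℤ, 0 < n → ∀ a ∈ 𝒜 n, a ∈ P) (z : R ⊗[k] S) :
    piP (k := k) (S := S) P (projW 𝒜 ℬ 0 z) ∈ Set.range (algebraMap k ((R ⧸ P) ⊗[k] S)) := by
  induction z using TensorProduct.induction_on with
  | zero => exact ⟨0, by simp⟩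
  | add x y hx hy =>
    obtain ⟨α, hα⟩ := hx
    obtain ⟨β, hβ⟩ := hy
    exact ⟨α + β, by rw [map_add, map_add, map_add, hα, hβ]⟩
  | tmul a b =>
    induction a using DirectSum.Decomposition.inductionOn 𝒜 with
    | zero => exact ⟨0, by simp⟩
    | add x y hx hy =>
      obtain ⟨α, hα⟩ := hx
      obtain ⟨β, hβ⟩ := hy
      exact ⟨α + β, by rw [TensorProduct.add_tmul, map_add, map_add, map_add, hα, hβ]⟩
    | homogeneous a =>
      rename_i i
      rw [projW_tmul_of_mem 𝒜 ℬ 0 a.2, sub_zero, piP_tmul]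
      rcases lt_trichotomy i 0 with hi | hi | hi
      · have h1 : (a : R) ∈ (⊥ : Submodule k R) := (hposR i hi) ▸ a.2
        rw [(Submodule.mem_bot k).mp h1]
        exact ⟨0, by simp⟩
      · subst hi
        have ha : (a : R) ∈ Submodule.span k {(1 : R)} := h0R ▸ a.2
        have hb : ((decompose ℬ b 0 : ℬ 0) : S) ∈ Submodule.span k {(1 : S)} :=
          h0S ▸ Submodule.coe_mem _
        obtain ⟨α, hα⟩ := Submodule.mem_span_singleton.mp ha
        obtain ⟨β, hβ⟩ := Submodule.mem_span_singleton.mp hb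
        refine ⟨α * β, ?_⟩
        have e1 : Ideal.Quotient.mk P (α • (1 : R)) = α • (1 : R ⧸ P) := by
          have := map_smul (Ideal.Quotient.mkₐ k P) α (1 : R)
          rw [map_one] at this
          exact this
        rw [← hα, ← hβ, e1, TensorProduct.smul_tmul_smul, Algebra.algebraMap_eq_smul_one,
          Algebra.TensorProduct.one_def]
      · have : Ideal.Quotient.mk P (a : R) = 0 :=
          Ideal.Quotient.eq_zero_iff_mem.mpr (hP i hi a a.2)
        rw [this, TensorProduct.zero_tmul]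
        exact ⟨0, by simp⟩

end

section

variable {k : Type u} [Field k] {R : Type u} [CommRing R] [Algebra k R]
  (𝒜 : ℤ → Submodule k R) [GradedAlgebra 𝒜]
  {S : Type u} [CommRing S] [Algebra k S] (ℬ : ℤ → Submodule k S) [GradedAlgebra ℬ]

theorem projW_zero_one : projW 𝒜 ℬ 0 (1 : R ⊗[k] S) = 1 := by
  rw [Algebra.TensorProduct.one_def, projW_tmul_one 𝒜 ℬ 0 (SetLike.GradedOne.one_mem), if_pos rfl]

theorem projW_zero_of_mem_Dlin {c : R ⊗[k] S} (hc : c ∈ Dlin 𝒜 ℬ) : projW 𝒜 ℬ 0 c = c := by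
  have := hc 0 1
  rwa [mul_one, projW_zero_one, mul_one] at this

theorem projW_mul_tmul_one_pow {c : R ⊗[k] S} (hc : c ∈ Dlin 𝒜 ℬ) {d : ℤ} (hd : d ≠ 0) {a : R}
    (ha : a ∈ 𝒜 d) (m m0 : ℕ) :
    projW 𝒜 ℬ (m0 * d) (c * (a ⊗ₜ[k] (1 : S)) ^ m) =
      if m = m0 then c * (a ⊗ₜ[k] (1 : S)) ^ m else 0 := by
  rw [hc, Algebra.TensorProduct.tmul_pow, one_pow]
  have ham : a ^ m ∈ 𝒜 (m • d) := SetLike.pow_mem_graded m ha
  rw [projW_tmul_one 𝒜 ℬ _ ham]
  by_cases h : m = m0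
  · subst h
    simp
  · rw [if_neg h, if_neg, mul_zero]
    intro h2
    apply h
    have : (m : ℤ) * d = (m0 : ℤ) * d := by simpa using h2
    exact_mod_cast mul_right_cancel₀ hd this

end

section

variable {k : Type u} [Field k] {R : Type u} [CommRing R] [Algebra k R]
  (𝒜 : ℤ → Submodule k R) [GradedAlgebra 𝒜]
  {S : Type u} [CommRing S] [Algebra k S] (ℬ : ℤ → Submodule k S) [GradedAlgebra ℬ]

theorem transcendental_tmul_one (P : Ideal R) [P.IsPrime] (hPh : P.IsHomogeneous 𝒜)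
    {d : ℤ} (hd : d ≠ 0) {a : R} (ha : a ∈ 𝒜 d) (haP : a ∉ P)
    {N : ℕ} (t : Fin N → R ⊗[k] S) (ht : ∀ i, t i ∈ Dlin 𝒜 ℬ) :
    Transcendental (Algebra.adjoin k (Set.range (fun i => piP (k := k) (S := S) P (t i))))
      (piP (k := k) (S := S) P (a ⊗ₜ[k] (1 : S))) := by
  set E := Algebra.adjoin k (Set.range (fun i => piP (k := k) (S := S) P (t i))) with hE
  have hEle : E ≤ (Dlin 𝒜 ℬ).map (piP (k := k) (S := S) P) := by
    rw [hE, Algebra.adjoin_le_iff]
    rintro _ ⟨i, rfl⟩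
    exact ⟨t i, ht i, rfl⟩
  rintro ⟨q, hq0, hq⟩
  apply hq0
  have hex : ∀ m : ℕ, ∃ c ∈ Dlin 𝒜 ℬ, piP (k := k) (S := S) P c = (q.coeff m : (R ⧸ P) ⊗[k] S) :=
    fun m => hEle (q.coeff m).2
  choose c hcD hc using hex
  set u : R ⊗[k] S := a ⊗ₜ[k] (1 : S) with hu
  set Z : R ⊗[k] S := ∑ m ∈ Finset.range (q.natDegree + 1), c m * u ^ m with hZ
  have hZker : Z ∈ RingHom.ker (piP (k := k) (S := S) P) := by
    rw [RingHom.mem_ker, hZ, map_sum]
    rw [Polynomial.aeval_eq_sum_range] at hq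
    rw [← hq]
    apply Finset.sum_congr rfl
    intro m _
    rw [map_mul, map_pow, hc, Subalgebra.smul_def, smul_eq_mul]
  ext m0
  rw [Polynomial.coeff_zero]
  by_cases hm0 : m0 ≤ q.natDegree
  · have h1 := projW_mem_ker_piP 𝒜 ℬ P hPh hZker (m0 * d)
    rw [hZ, map_sum] at h1
    have h2 : ∑ m ∈ Finset.range (q.natDegree + 1), projW 𝒜 ℬ (m0 * d) (c m * u ^ m) =
        c m0 * u ^ m0 := by
      rw [Finset.sum_eq_single m0]
      · rw [projW_mul_tmul_one_pow 𝒜 ℬ (hcD m0) hd ha, if_pos rfl]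
      · intro m _ hm
        rw [projW_mul_tmul_one_pow 𝒜 ℬ (hcD m) hd ha, if_neg hm]
      · intro h
        exact absurd (Finset.mem_range.mpr (Nat.lt_succ_of_le hm0)) h
    rw [h2, RingHom.mem_ker, map_mul, hc, hu, Algebra.TensorProduct.tmul_pow, one_pow, piP_tmul,
      mul_comm] at h1
    have hamP : a ^ m0 ∉ P := fun h => haP (Ideal.IsPrime.mem_of_pow_mem ‹_› _ h)
    have h3 := tmul_one_mul_eq_zero P hamP _ h1
    rw [h3]
    rfl
  · rw [Polynomial.coeff_eq_zero_of_natDegree_lt (not_le.mp hm0)]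

end

section

variable {k : Type u} [Field k] {R : Type u} [CommRing R] [Algebra k R]
  (𝒜 : ℤ → Submodule k R) [GradedAlgebra 𝒜]
  {S : Type u} [CommRing S] [Algebra k S] (ℬ : ℤ → Submodule k S) [GradedAlgebra ℬ]

theorem finiteType_tensor [Algebra.FiniteType k R] [Algebra.FiniteType k S] :
    Algebra.FiniteType k (R ⊗[k] S) := by
  have hft1 : Algebra.FiniteType R (R ⊗[k] S) := inferInstance
  exact Algebra.FiniteType.trans ‹Algebra.FiniteType k R› hft1

theorem upper_bound (hposR : ∀ n : ℤ, n < 0 → 𝒜 n = ⊥)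
    (h0R : 𝒜 0 = Submodule.span k {(1 : R)}) (h0S : ℬ 0 = Submodule.span k {(1 : S)})
    [Algebra.FiniteType k R] [Algebra.FiniteType k S] [Nontrivial R] [Nontrivial S]
    (r s : ℕ) (hr : ringKrullDim R = r) (hs : ringKrullDim S = s)
    {N : ℕ} (hN : 1 ≤ N) (t : Fin N → R ⊗[k] S) (ht : ∀ i, t i ∈ Dlin 𝒜 ℬ)
    (hind : AlgebraicIndependent k t) : N + 1 ≤ r + s := by
  haveI : Algebra.FiniteType k (R ⊗[k] S) := finiteType_tensor
  obtain ⟨𝔮, h𝔮, hq⟩ := exists_minimalPrime_algebraicIndependent k (R ⊗[k] S) t hind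
  haveI h𝔮prime : 𝔮.IsPrime := h𝔮.1.1
  let incl : R →ₐ[k] R ⊗[k] S := Algebra.TensorProduct.includeLeft
  let P0 : Ideal R := 𝔮.comap incl
  haveI hP0 : P0.IsPrime := Ideal.comap_isPrime incl 𝔮
  let P : Ideal R := (P0.homogeneousCore 𝒜).toIdeal
  haveI hPprime : P.IsPrime := Ideal.IsPrime.homogeneousCore hP0
  have hPh : P.IsHomogeneous 𝒜 := (P0.homogeneousCore 𝒜).isHomogeneous
  have hPle : P ≤ P0 := Ideal.toIdeal_homogeneousCore_le 𝒜 P0
  let θ1 : (R ⧸ P) →ₐ[k] (R ⊗[k] S) ⧸ 𝔮 :=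
    Ideal.Quotient.liftₐ P ((Ideal.Quotient.mkₐ k 𝔮).comp incl) (by
      intro a ha
      have : incl a ∈ 𝔮 := hPle ha
      simpa [Ideal.Quotient.eq_zero_iff_mem] using this)
  let θ2 : S →ₐ[k] (R ⊗[k] S) ⧸ 𝔮 :=
    (Ideal.Quotient.mkₐ k 𝔮).comp Algebra.TensorProduct.includeRight
  let θ : (R ⧸ P) ⊗[k] S →ₐ[k] (R ⊗[k] S) ⧸ 𝔮 := Algebra.TensorProduct.productMap θ1 θ2
  have hθ : ∀ z : R ⊗[k] S, θ (piP (k := k) (S := S) P z) = Ideal.Quotient.mkₐ k 𝔮 z := by
    intro z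
    induction z using TensorProduct.induction_on with
    | zero => simp
    | add x y hx hy => rw [map_add, map_add, hx, hy, map_add]
    | tmul a b =>
      rw [piP_tmul]
      simp only [θ, θ1, θ2, Algebra.TensorProduct.productMap_apply_tmul]
      rw [← Ideal.Quotient.mkₐ_eq_mk k, Ideal.Quotient.liftₐ_apply, Ideal.Quotient.mkₐ_eq_mk,
        Ideal.Quotient.lift_mk]
      simp only [AlgHom.coe_comp, Function.comp_apply, RingHom.coe_coe,
        Algebra.TensorProduct.includeLeft_apply, Algebra.TensorProduct.includeRight_apply, incl]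
      rw [← map_mul, Algebra.TensorProduct.tmul_mul_tmul, mul_one, one_mul]
  have hindP : AlgebraicIndependent k (fun i => piP (k := k) (S := S) P (t i)) := by
    apply AlgebraicIndependent.of_comp θ
    convert hq using 1
    funext i
    exact hθ (t i)
  have hexa : ∃ d : ℤ, 0 < d ∧ ∃ a ∈ 𝒜 d, a ∉ P := by
    by_contra hcon
    push Not at hcon
    have hc := ht ⟨0, hN⟩
    have h1 := piP_projW_zero_mem_range 𝒜 ℬ hposR h0R h0S P hcon (t ⟨0, hN⟩)
    rw [projW_zero_of_mem_Dlin 𝒜 ℬ hc] at h1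
    obtain ⟨α, hα⟩ := h1
    have h2 := hindP.transcendental ⟨0, hN⟩
    apply h2
    rw [← hα]
    exact isAlgebraic_algebraMap α
  obtain ⟨d, hd, a, ha, haP⟩ := hexa
  have htr := transcendental_tmul_one 𝒜 ℬ P hPh hd.ne' ha haP t ht
  have hopt := (hindP.option_iff_transcendental _).mpr htr
  haveI : Algebra.FiniteType k ((R ⧸ P) ⊗[k] S) :=
    Algebra.FiniteType.of_surjective (piP (k := k) (S := S) P) (piP_surjective P)
  have hfam : AlgebraicIndependent k
      (fun j : Fin (N + 1) => (fun o : Option (Fin N) =>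
        o.elim (piP (k := k) (S := S) P (a ⊗ₜ[k] (1 : S)))
          (fun i => piP (k := k) (S := S) P (t i))) (finSuccEquiv N j)) :=
    hopt.comp _ (finSuccEquiv N).injective
  have h3 := natCast_le_ringKrullDim_of_algebraicIndependent k ((R ⧸ P) ⊗[k] S) _ hfam
  have h4 : ringKrullDim ((R ⧸ P) ⊗[k] S) ≤ ringKrullDim (R ⊗[k] S) :=
    ringKrullDim_le_of_surjective (piP (k := k) (S := S) P).toRingHom (piP_surjective P)
  rw [ringKrullDim_tensorProduct k R S r s hr hs] at h4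
  have h5 := h3.trans h4
  exact_mod_cast h5

end

end Groth.Agent.Lib.Helper14
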