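import Mathlib.RingTheory.GradedAlgebra.Basic
import Mathlib.RingTheory.TensorProduct.Basic
import Mathlib.Algebra.DirectSum.Decomposition
import Mathlib.Tactic

set_option autoImplicit false
universe u

namespace Groth.Agent.Lib.Helper14

open scoped TensorProduct
open DirectSum

section

variable {k : Type u} [Field k] {R : Type u} [CommRing R] [Algebra k R]
  (𝒜 : ℤ → Submodule k R) [GradedAlgebra 𝒜]
  {S : Type u} [CommRing S] [Algebra k S] (ℬ : ℤ → Submodule k S) [GradedAlgebra ℬ]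

noncomputable def projW (w : ℤ) : R ⊗[k] S →ₗ[k] R ⊗[k] S :=
  TensorProduct.lift
    ((DirectSum.toModule k ℤ (S →ₗ[k] R ⊗[k] S)
      (fun n => ((TensorProduct.mk k R S).comp (𝒜 n).subtype).compl₂
        (GradedAlgebra.proj ℬ (n - w)))).comp
      (DirectSum.decomposeLinearEquiv 𝒜).toLinearMap)

theorem projW_tmul_of_mem (w : ℤ) {i : ℤ} {a : R} (ha : a ∈ 𝒜 i) (b : S) :
    projW 𝒜 ℬ w (a ⊗ₜ[k] b) = a ⊗ₜ[k] (DirectSum.decompose ℬ b (i - w) : S) := by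
  simp only [projW, TensorProduct.lift.tmul, LinearMap.coe_comp, Function.comp_apply,
    LinearEquiv.coe_coe, DirectSum.decomposeLinearEquiv_apply]
  rw [DirectSum.decompose_of_mem 𝒜 ha]
  erw [DirectSum.toModule_lof]
  simp [GradedAlgebra.proj_apply]

theorem projW_tmul_mul (w : ℤ) {e e' : ℤ} {a : R} (ha : a ∈ 𝒜 e) {b : S} (hb : b ∈ ℬ e')
    (z : R ⊗[k] S) :
    projW 𝒜 ℬ w ((a ⊗ₜ[k] b) * z) = (a ⊗ₜ[k] b) * projW 𝒜 ℬ (w - e + e') z := by
  induction z using TensorProduct.induction_on with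
  | zero => simp
  | add x y hx hy => rw [mul_add, map_add, hx, hy, map_add, mul_add]
  | tmul a' b' =>
    induction a' using DirectSum.Decomposition.inductionOn 𝒜 with
    | zero => simp
    | add x y hx hy =>
      rw [TensorProduct.add_tmul, mul_add, map_add, hx, hy, map_add, mul_add]
    | homogeneous a' =>
      rename_i i
      rw [Algebra.TensorProduct.tmul_mul_tmul,
        projW_tmul_of_mem 𝒜 ℬ w (SetLike.mul_mem_graded ha a'.2),
        projW_tmul_of_mem 𝒜 ℬ _ a'.2, Algebra.TensorProduct.tmul_mul_tmul]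
      have hidx : e + i - w = e' + (i - (w - e + e')) := by ring
      rw [hidx, DirectSum.coe_decompose_mul_add_of_left_mem ℬ hb]

theorem projW_tmul_one (w : ℤ) {i : ℤ} {a : R} (ha : a ∈ 𝒜 i) :
    projW 𝒜 ℬ w (a ⊗ₜ[k] (1 : S)) = if i = w then a ⊗ₜ[k] (1 : S) else 0 := by
  rw [projW_tmul_of_mem 𝒜 ℬ w ha]
  have h1 : (1 : S) ∈ ℬ 0 := SetLike.GradedOne.one_mem
  split_ifs with h
  · subst h
    rw [sub_self, DirectSum.decompose_of_mem_same ℬ h1]
  · have hne : (0 : ℤ) ≠ i - w := fun h0 => h (by omega)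
    rw [DirectSum.decompose_of_mem_ne ℬ h1 hne, TensorProduct.tmul_zero]

def Dn (n : ℤ) : Submodule k (R ⊗[k] S) :=
  Submodule.span k {x : R ⊗[k] S | ∃ a ∈ 𝒜 n, ∃ b ∈ ℬ n, x = a ⊗ₜ[k] b}

noncomputable def Dlin : Subalgebra k (R ⊗[k] S) where
  carrier := {c | ∀ (w : ℤ) (z : R ⊗[k] S), projW 𝒜 ℬ w (c * z) = c * projW 𝒜 ℬ w z}
  mul_mem' := by
    intro c c' hc hc' w z
    rw [mul_assoc, hc, hc', mul_assoc]
  add_mem' := by
    intro c c' hc hc' w z
    rw [add_mul, map_add, hc, hc', add_mul]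
  algebraMap_mem' := by
    intro r w z
    rw [← Algebra.smul_def, map_smul, Algebra.smul_def]

theorem mem_Dlin_iff (c : R ⊗[k] S) :
    c ∈ Dlin 𝒜 ℬ ↔ ∀ (w : ℤ) (z : R ⊗[k] S), projW 𝒜 ℬ w (c * z) = c * projW 𝒜 ℬ w z :=
  Iff.rfl

theorem Dn_le_Dlin (n : ℤ) : Dn 𝒜 ℬ n ≤ Subalgebra.toSubmodule (Dlin 𝒜 ℬ) := by
  unfold Dn
  rw [Submodule.span_le]
  rintro _ ⟨a, ha, b, hb, rfl⟩
  intro w z
  rw [projW_tmul_mul 𝒜 ℬ w ha hb, sub_add_cancel]

end

end Groth.Agent.Lib.Helper14
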