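import Mathlib

set_option autoImplicit false
universe u

namespace Groth.Agent.Lib.Helper14.SpreadLIM

open MvPolynomial

theorem exists_kill {C : Type u} [CommRing C] (q : Ideal C) [q.IsPrime] (W : Type u) [CommRing W]
    [Algebra C W] [IsLocalization.AtPrime W q] (g : C) (θ : Localization.Away g →ₐ[C] W)
    (e : Localization.Away g) (he : θ e = 0) :
    ∃ u : C, u ∉ q ∧ algebraMap C (Localization.Away g) u * e = 0 := by
  obtain ⟨⟨a, s⟩, hs⟩ := IsLocalization.surj (Submonoid.powers g) e
  have h1 : algebraMap C W a = 0 := by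
    have := congrArg θ hs
    rw [map_mul, he, zero_mul, AlgHom.commutes] at this
    exact this.symm
  rw [IsLocalization.map_eq_zero_iff q.primeCompl W a] at h1
  obtain ⟨u, hu⟩ := h1
  refine ⟨u.1, u.2, ?_⟩
  have hsu : IsUnit (algebraMap C (Localization.Away g) s.1) :=
    IsLocalization.map_units (Localization.Away g) s
  have h2 : algebraMap C (Localization.Away g) u.1 * e *
      algebraMap C (Localization.Away g) s.1 = 0 := by
    rw [mul_assoc, hs, ← map_mul, hu, map_zero]
  exact (hsu.mul_left_eq_zero).1 h2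

theorem exists_away_solution {C : Type u} [CommRing C] (q : Ideal C) [q.IsPrime] (W : Type u)
    [CommRing W] [Algebra C W] [IsLocalization.AtPrime W q] (h₀ : C) (hh₀ : h₀ ∉ q) {n m : ℕ}
    (F : Fin m → MvPolynomial (Fin n) C) (w : Fin n → W)
    (hw : ∀ j, MvPolynomial.aeval w (F j) = 0) :
    ∃ h : C, h ∉ q ∧ ∃ b : Fin n → Localization.Away (h₀ * h),
      (∀ j, MvPolynomial.aeval b (F j) = 0) ∧
        ∀ θ : Localization.Away (h₀ * h) →ₐ[C] W, ∀ i, θ (b i) = w i := by
  classical
  obtain ⟨t, ht⟩ := IsLocalization.exist_integer_multiples_of_finite q.primeCompl w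
  choose c hc using ht
  have hc' : ∀ i, algebraMap C W (c i) = algebraMap C W t.1 * w i := by
    intro i
    rw [hc i, Algebra.smul_def]
  have htq : (t : C) ∉ q := t.2
  have hunitW : ∀ x : C, x ∉ q → IsUnit (algebraMap C W x) := fun x hx =>
    IsLocalization.map_units W (⟨x, hx⟩ : q.primeCompl)
  let A1 := Localization.Away (h₀ * (t : C))
  have hu1 : IsUnit (algebraMap C A1 (h₀ * (t : C))) := IsLocalization.Away.algebraMap_isUnit _
  have hut1 : IsUnit (algebraMap C A1 (t : C)) := by
    rw [map_mul] at hu1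
    exact isUnit_of_mul_isUnit_right hu1
  obtain ⟨v, hv⟩ := hut1.exists_left_inv
  let b1 : Fin n → A1 := fun i => algebraMap C A1 (c i) * v
  have hb1 : ∀ i, b1 i * algebraMap C A1 (t : C) = algebraMap C A1 (c i) := by
    intro i
    simp only [b1]
    rw [mul_assoc, hv, mul_one]
  have hg1 : IsUnit (algebraMap C W (h₀ * (t : C))) :=
    hunitW _ (fun h => (Ideal.IsPrime.mem_or_mem inferInstance h).elim hh₀ htq)
  let θ1r : A1 →+* W := IsLocalization.Away.lift (h₀ * (t : C)) (g := algebraMap C W) hg1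
  let θ1 : A1 →ₐ[C] W :=
    { θ1r with commutes' := fun x => IsLocalization.Away.lift_eq (h₀ * (t : C)) hg1 x }
  have key : ∀ {A : Type u} [CommRing A] [Algebra C A] (θ : A →ₐ[C] W) (x : A) (i : Fin n),
      x * algebraMap C A (t : C) = algebraMap C A (c i) → θ x = w i := by
    intro A _ _ θ x i hx
    have h1 := congrArg θ hx
    rw [map_mul, AlgHom.commutes, AlgHom.commutes, hc' i, mul_comm] at h1
    exact (hunitW _ htq).mul_left_cancel h1
  have hθ1 : ∀ i, θ1 (b1 i) = w i := fun i => key θ1 (b1 i) i (hb1 i)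
  have he : ∀ j, θ1 (aeval b1 (F j)) = 0 := by
    intro j
    rw [comp_aeval_apply]
    have : (fun i => θ1 (b1 i)) = w := funext hθ1
    rw [this]
    exact hw j
  have hex : ∀ j, ∃ u : C, u ∉ q ∧ algebraMap C A1 u * aeval b1 (F j) = 0 := fun j =>
    exists_kill q W _ θ1 _ (he j)
  choose u hu hue using hex
  let U : C := ∏ j, u j
  have hUq : U ∉ q := by
    intro hU
    obtain ⟨j, -, hj⟩ := (Ideal.IsPrime.prod_mem_iff (hp := inferInstance)).1 hU
    exact hu j hj
  refine ⟨(t : C) * U, fun h => (Ideal.IsPrime.mem_or_mem inferInstance h).elim htq hUq, ?_⟩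
  let A2 := Localization.Away (h₀ * ((t : C) * U))
  have hu2 : IsUnit (algebraMap C A2 (h₀ * ((t : C) * U))) :=
    IsLocalization.Away.algebraMap_isUnit _
  have e2 : algebraMap C A2 (h₀ * ((t : C) * U)) =
      algebraMap C A2 (h₀ * (t : C)) * algebraMap C A2 U := by
    rw [← map_mul]
    congr 1
    ring
  have hu2' : IsUnit (algebraMap C A2 (h₀ * (t : C)) * algebraMap C A2 U) := e2 ▸ hu2
  have hg2 : IsUnit (algebraMap C A2 (h₀ * (t : C))) := isUnit_of_mul_isUnit_left hu2'
  have hU2 : IsUnit (algebraMap C A2 U) := isUnit_of_mul_isUnit_right hu2'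
  have huj2 : ∀ j, IsUnit (algebraMap C A2 (u j)) := by
    intro j
    have e3 : algebraMap C A2 U =
        algebraMap C A2 (u j) * algebraMap C A2 (∏ k ∈ Finset.univ.erase j, u k) := by
      rw [← map_mul]
      congr 1
      simp only [U]
      rw [Finset.mul_prod_erase _ _ (Finset.mem_univ j)]
    have hU2' : IsUnit (algebraMap C A2 (u j) *
        algebraMap C A2 (∏ k ∈ Finset.univ.erase j, u k)) := e3 ▸ hU2
    exact isUnit_of_mul_isUnit_left hU2'
  let ψr : A1 →+* A2 := IsLocalization.Away.lift (h₀ * (t : C)) (g := algebraMap C A2) hg2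
  let ψ : A1 →ₐ[C] A2 :=
    { ψr with commutes' := fun x => IsLocalization.Away.lift_eq (h₀ * (t : C)) hg2 x }
  refine ⟨fun i => ψ (b1 i), ?_, ?_⟩
  · intro j
    have h1 : aeval (fun i => ψ (b1 i)) (F j) = ψ (aeval b1 (F j)) :=
      (comp_aeval_apply (f := b1) ψ (F j)).symm
    rw [h1]
    have h2 := congrArg ψ (hue j)
    rw [map_mul, AlgHom.commutes, map_zero] at h2
    exact ((huj2 j).mul_right_eq_zero).1 h2
  · intro θ i
    refine key θ (ψ (b1 i)) i ?_
    have := congrArg ψ (hb1 i)
    rw [map_mul, AlgHom.commutes, AlgHom.commutes] at this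
    exact this

end Groth.Agent.Lib.Helper14.SpreadLIM
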