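import Mathlib

set_option autoImplicit false
universe u
open CategoryTheory Limits Opposite

namespace Groth.Agent.Lib.Helper14.SubsheafGlue

theorem app_injective {D : Type u} [SmallCategory D] (K : GrothendieckTopology D)
    {I G : Sheaf K AddCommGrpCat.{u}} (m : I ⟶ G) [Mono m] (W : Dᵒᵖ) :
    Function.Injective (m.hom.app W).hom := by
  have h1 : Mono ((sheafToPresheaf K AddCommGrpCat.{u}).map m) := inferInstance
  have h2 : Mono (m.hom.app W) := by
    have : Mono m.hom := h1
    infer_instance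
  exact (AddCommGrpCat.mono_iff_injective _).1 h2

theorem exists_section_of_locally {D : Type u} [SmallCategory D] (K : GrothendieckTopology D)
    {I G : Sheaf K AddCommGrpCat.{u}} (m : I ⟶ G) [Mono m] {V : D} (s : G.obj.obj (op V))
    (R : Sieve V) (hR : R ∈ K V)
    (hloc : ∀ ⦃V' : D⦄ (a : V' ⟶ V), R.arrows a →
      ∃ i : I.obj.obj (op V'), (m.hom.app (op V')).hom i = (G.obj.map a.op).hom s) :
    ∃ i : I.obj.obj (op V), (m.hom.app (op V)).hom i = s := by
  have hinj := app_injective K m
  have hI : Presieve.IsSheaf K (I.obj ⋙ forget AddCommGrpCat.{u}) :=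
    (isSheaf_iff_isSheaf_of_type _ _).1
      ((Presheaf.isSheaf_iff_isSheaf_forget K I.obj (forget AddCommGrpCat.{u})).1 I.property)
  have hG : Presieve.IsSheaf K (G.obj ⋙ forget AddCommGrpCat.{u}) :=
    (isSheaf_iff_isSheaf_of_type _ _).1
      ((Presheaf.isSheaf_iff_isSheaf_forget K G.obj (forget AddCommGrpCat.{u})).1 G.property)
  let x : Presieve.FamilyOfElements (I.obj ⋙ forget AddCommGrpCat.{u}) R.arrows :=
    fun V' a ha => (hloc a ha).choose
  have hx : ∀ ⦃V' : D⦄ (a : V' ⟶ V) (ha : R.arrows a),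
      (m.hom.app (op V')).hom (x a ha) = (G.obj.map a.op).hom s :=
    fun V' a ha => (hloc a ha).choose_spec
  have hnat : ∀ {A B : Dᵒᵖ} (f : A ⟶ B) (i : I.obj.obj A),
      (m.hom.app B).hom ((I.obj.map f).hom i) = (G.obj.map f).hom ((m.hom.app A).hom i) := by
    intro A B f i
    have := m.hom.naturality f
    exact congrArg (fun φ => φ.hom i) this
  have hcomp : x.Compatible := by
    rw [Presieve.compatible_iff_sieveCompatible]
    intro V' V'' a b ha
    apply hinj
    change (m.hom.app (op V'')).hom (x (b ≫ a) (R.downward_closed ha b)) =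
      (m.hom.app (op V'')).hom ((I.obj.map b.op).hom (x a ha))
    rw [hx (b ≫ a) (R.downward_closed ha b), hnat, hx a ha]
    have : G.obj.map (b ≫ a).op = G.obj.map a.op ≫ G.obj.map b.op := by
      rw [op_comp, G.obj.map_comp]
    rw [this]
    rfl
  obtain ⟨i, hi, -⟩ := hI R hR x hcomp
  refine ⟨i, ?_⟩
  refine (hG R hR).isSeparatedFor.ext ?_
  intro V' a ha
  have h1 : (I.obj.map a.op).hom i = x a ha := hi a ha
  change (G.obj.map a.op).hom ((m.hom.app (op V)).hom i) = (G.obj.map a.op).hom s
  rw [← hnat, h1, hx a ha]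

end Groth.Agent.Lib.Helper14.SubsheafGlue
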