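import Mathlib
import Groth.Prelude.Def_GrMod2
import Groth.Agent.Lib.Helper60.TildeTwist
import Groth.Agent.Lib.Helper60.TensorRestrict

set_option linter.unusedSectionVars false

universe u
open CategoryTheory AlgebraicGeometry TopologicalSpace Opposite

namespace Groth.Agent.Lib.Helper14.TildeTwistRes

open Groth.Agent.Lib.Helper60.TwistLib Groth.Agent.Lib.Helper60.TensorLib

section

variable {R A : Type u} [CommRing R] [CommRing A] [Algebra R A] (𝒜 : ℕ → Submodule R A) [GradedAlgebra 𝒜]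
variable {M : Type u} [AddCommGroup M] [Module R M] [Module A M] (ℳ : ℕ → Submodule R M)
  [SetLike.GradedSMul 𝒜 ℳ]
variable {Y : Scheme.{u}} (f : Y ⟶ Proj 𝒜) [IsOpenImmersion f]

noncomputable def actRfun (k n l : ℤ) (hl : l = k + n) (V : Y.Opens)
    (s : Γ((GrTilde.tilde 𝒜 ℳ k).restrict f, V)) (t : Γ((Twist.twist 𝒜 n).restrict f, V)) :
    Γ((GrTilde.tilde 𝒜 ℳ l).restrict f, V) :=
  actΓ 𝒜 ℳ k n l hl (f ''ᵁ V) (show Γ(GrTilde.tilde 𝒜 ℳ k, f ''ᵁ V) from s)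
    (show Γ(Twist.twist 𝒜 n, f ''ᵁ V) from t)

theorem actRfun_smul_left (k n l : ℤ) (hl : l = k + n) (V : Y.Opens) (c : Γ(Y, V))
    (s : Γ((GrTilde.tilde 𝒜 ℳ k).restrict f, V)) (t : Γ((Twist.twist 𝒜 n).restrict f, V)) :
    actRfun 𝒜 ℳ f k n l hl V (c • s) t = c • actRfun 𝒜 ℳ f k n l hl V s t := by
  have h1 := LinearMap.map_smul₂ (actΓ 𝒜 ℳ k n l hl (f ''ᵁ V)) ((f.appIso V).inv c)
    (show Γ(GrTilde.tilde 𝒜 ℳ k, f ''ᵁ V) from s) (show Γ(Twist.twist 𝒜 n, f ''ᵁ V) from t)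
  exact h1

theorem actRfun_smul_right (k n l : ℤ) (hl : l = k + n) (V : Y.Opens) (c : Γ(Y, V))
    (s : Γ((GrTilde.tilde 𝒜 ℳ k).restrict f, V)) (t : Γ((Twist.twist 𝒜 n).restrict f, V)) :
    actRfun 𝒜 ℳ f k n l hl V s (c • t) = c • actRfun 𝒜 ℳ f k n l hl V s t := by
  have h1 := map_smul (actΓ 𝒜 ℳ k n l hl (f ''ᵁ V) (show Γ(GrTilde.tilde 𝒜 ℳ k, f ''ᵁ V) from s))
    ((f.appIso V).inv c) (show Γ(Twist.twist 𝒜 n, f ''ᵁ V) from t)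
  exact h1

theorem actRfun_add_left (k n l : ℤ) (hl : l = k + n) (V : Y.Opens)
    (s s' : Γ((GrTilde.tilde 𝒜 ℳ k).restrict f, V)) (t : Γ((Twist.twist 𝒜 n).restrict f, V)) :
    actRfun 𝒜 ℳ f k n l hl V (s + s') t =
      actRfun 𝒜 ℳ f k n l hl V s t + actRfun 𝒜 ℳ f k n l hl V s' t := by
  have h1 := LinearMap.map_add₂ (actΓ 𝒜 ℳ k n l hl (f ''ᵁ V))
    (show Γ(GrTilde.tilde 𝒜 ℳ k, f ''ᵁ V) from s) (show Γ(GrTilde.tilde 𝒜 ℳ k, f ''ᵁ V) from s')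
    (show Γ(Twist.twist 𝒜 n, f ''ᵁ V) from t)
  exact h1

theorem actRfun_add_right (k n l : ℤ) (hl : l = k + n) (V : Y.Opens)
    (s : Γ((GrTilde.tilde 𝒜 ℳ k).restrict f, V)) (t t' : Γ((Twist.twist 𝒜 n).restrict f, V)) :
    actRfun 𝒜 ℳ f k n l hl V s (t + t') =
      actRfun 𝒜 ℳ f k n l hl V s t + actRfun 𝒜 ℳ f k n l hl V s t' := by
  have h1 := map_add (actΓ 𝒜 ℳ k n l hl (f ''ᵁ V) (show Γ(GrTilde.tilde 𝒜 ℳ k, f ''ᵁ V) from s))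
    (show Γ(Twist.twist 𝒜 n, f ''ᵁ V) from t) (show Γ(Twist.twist 𝒜 n, f ''ᵁ V) from t')
  exact h1

noncomputable def actR (k n l : ℤ) (hl : l = k + n) (V : Y.Opens) :
    Γ((GrTilde.tilde 𝒜 ℳ k).restrict f, V) →ₗ[Γ(Y, V)]
      Γ((Twist.twist 𝒜 n).restrict f, V) →ₗ[Γ(Y, V)] Γ((GrTilde.tilde 𝒜 ℳ l).restrict f, V) :=
  LinearMap.mk₂ Γ(Y, V) (actRfun 𝒜 ℳ f k n l hl V)
    (actRfun_add_left 𝒜 ℳ f k n l hl V)
    (actRfun_smul_left 𝒜 ℳ f k n l hl V)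
    (actRfun_add_right 𝒜 ℳ f k n l hl V)
    (actRfun_smul_right 𝒜 ℳ f k n l hl V)

theorem actR_apply (k n l : ℤ) (hl : l = k + n) (V : Y.Opens)
    (s : Γ((GrTilde.tilde 𝒜 ℳ k).restrict f, V)) (t : Γ((Twist.twist 𝒜 n).restrict f, V)) :
    actR 𝒜 ℳ f k n l hl V s t = actRfun 𝒜 ℳ f k n l hl V s t := rfl

theorem actR_natural (k n l : ℤ) (hl : l = k + n) {U V : Y.Opens} (i : V ⟶ U)
    (s : Γ((GrTilde.tilde 𝒜 ℳ k).restrict f, U)) (t : Γ((Twist.twist 𝒜 n).restrict f, U)) :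
    ((GrTilde.tilde 𝒜 ℳ l).restrict f).presheaf.map i.op (actR 𝒜 ℳ f k n l hl U s t) =
      actR 𝒜 ℳ f k n l hl V (((GrTilde.tilde 𝒜 ℳ k).restrict f).presheaf.map i.op s)
        (((Twist.twist 𝒜 n).restrict f).presheaf.map i.op t) :=
  rfl

theorem actR_lift_bijective (k n l : ℤ) (hl : l = k + n) {i j : ℕ} (g : 𝒜 i) (h : 𝒜 j)
    (hij : (i : ℤ) = j + n) (V : Y.Opens)
    (hg : ∀ x ∈ f ''ᵁ V, g.1 ∉ x.asHomogeneousIdeal)
    (hh : ∀ x ∈ f ''ᵁ V, h.1 ∉ x.asHomogeneousIdeal) :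
    Function.Bijective (TensorProduct.lift (actR 𝒜 ℳ f k n l hl V)) := by
  have key := @lift_bijective_of_generator_right Γ(Y, V)
    Γ((GrTilde.tilde 𝒜 ℳ k).restrict f, V) Γ((Twist.twist 𝒜 n).restrict f, V)
    Γ((GrTilde.tilde 𝒜 ℳ l).restrict f, V) _ _ _ _ _ _ _
    (actR 𝒜 ℳ f k n l hl V) (genSec n g h hij (f ''ᵁ V) hh)
  refine key ?_ ?_
  · have h1 := genSec_bijective n g h hij (f ''ᵁ V) hg hh
    have h2 : Function.Bijective (f.appIso V).inv :=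
      ConcreteCategory.bijective_of_isIso (f.appIso V).inv
    exact h1.comp h2
  · exact actSec_genSec_bijective k n l hl g h hij (f ''ᵁ V) hg hh

theorem tilde_tensor_restrict_iso (k n l : ℤ) (hl : l = k + n)
    (hloc : ∀ y : Y, ∃ U : (Proj 𝒜).Opens, f y ∈ U ∧
      ∃ (i j : ℕ) (g : 𝒜 i) (h : 𝒜 j), (i : ℤ) = j + n ∧
        ∀ z ∈ U, g.1 ∉ z.asHomogeneousIdeal ∧ h.1 ∉ z.asHomogeneousIdeal) :
    Nonempty ((CohB1.tensorMod (GrTilde.tilde 𝒜 ℳ k) (Twist.twist 𝒜 n)).restrict f ≅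
      (GrTilde.tilde 𝒜 ℳ l).restrict f) := by
  have h1 : Nonempty (CohB1.tensorMod ((GrTilde.tilde 𝒜 ℳ k).restrict f)
      ((Twist.twist 𝒜 n).restrict f) ≅ (GrTilde.tilde 𝒜 ℳ l).restrict f) := by
    refine nonempty_tensorMod_iso _ _ _
      (actR 𝒜 ℳ f k n l hl) (actR_natural 𝒜 ℳ f k n l hl) ?_
    intro y
    obtain ⟨U, hyU, i, j, g, h, hij, hU⟩ := hloc y
    refine ⟨f ⁻¹ᵁ U, hyU, fun W hW => ?_⟩
    have hWU : f ''ᵁ W ≤ U := by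
      rintro _ ⟨w, hw, rfl⟩
      exact hW hw
    exact actR_lift_bijective 𝒜 ℳ f k n l hl g h hij W
      (fun z hz => (hU z (hWU hz)).1) (fun z hz => (hU z (hWU hz)).2)
  obtain ⟨e1⟩ := h1
  exact ⟨Groth.Agent.Lib.Helper60.TensorRestrict.restrictTensorIso f _ _ ≪≫ e1⟩

theorem pow_notMem (x : ProjectiveSpectrum 𝒜) {a : A} (ha : a ∉ x.asHomogeneousIdeal) (m : ℕ) :
    a ^ m ∉ x.asHomogeneousIdeal := fun hmem => ha (x.isPrime.mem_of_pow_mem m hmem)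

theorem tilde_twistBy_restrict_iso {d : ℕ} (n : ℤ) :
    Nonempty ((Twist.twistBy 𝒜 (GrTilde.tilde 𝒜 ℳ 0) (n * d)).restrict
        (⨆ (j : ℕ) (a : 𝒜 (j + d)) (b : 𝒜 j), Proj.basicOpen 𝒜 ((a : A) * b)).ι ≅
      (GrTilde.tilde 𝒜 ℳ (n * d)).restrict
        (⨆ (j : ℕ) (a : 𝒜 (j + d)) (b : 𝒜 j), Proj.basicOpen 𝒜 ((a : A) * b)).ι) := by
  refine tilde_tensor_restrict_iso 𝒜 ℳ _ 0 (n * d) (n * d) (zero_add _).symm ?_
  intro y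
  have hy := y.2
  simp only [TopologicalSpace.Opens.mem_iSup] at hy
  obtain ⟨j, a, b, hab⟩ := hy
  have hsplit : ∀ z ∈ Proj.basicOpen 𝒜 ((a : A) * b),
      a.1 ∉ z.asHomogeneousIdeal ∧ b.1 ∉ z.asHomogeneousIdeal := by
    intro z hz
    rw [Proj.mem_basicOpen] at hz
    exact ⟨fun h => hz (Ideal.mul_mem_right _ _ h), fun h => hz (Ideal.mul_mem_left _ _ h)⟩
  refine ⟨Proj.basicOpen 𝒜 ((a : A) * b), hab, ?_⟩
  rcases le_total 0 n with hn | hn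
  · obtain ⟨m, rfl⟩ := Int.eq_ofNat_of_zero_le hn
    refine ⟨m • (j + d), m • j, ⟨a.1 ^ m, SetLike.pow_mem_graded m a.2⟩,
      ⟨b.1 ^ m, SetLike.pow_mem_graded m b.2⟩, ?_, fun z hz => ?_⟩
    · simp only [smul_eq_mul]
      push_cast
      ring
    · exact ⟨pow_notMem 𝒜 z (hsplit z hz).1 m, pow_notMem 𝒜 z (hsplit z hz).2 m⟩
  · obtain ⟨m, hm⟩ := Int.eq_ofNat_of_zero_le (neg_nonneg.mpr hn)
    have hn' : n = -(m : ℤ) := by omega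
    subst hn'
    refine ⟨m • j, m • (j + d), ⟨b.1 ^ m, SetLike.pow_mem_graded m b.2⟩,
      ⟨a.1 ^ m, SetLike.pow_mem_graded m a.2⟩, ?_, fun z hz => ?_⟩
    · simp only [smul_eq_mul]
      push_cast
      ring
    · exact ⟨pow_notMem 𝒜 z (hsplit z hz).2 m, pow_notMem 𝒜 z (hsplit z hz).1 m⟩

end

end Groth.Agent.Lib.Helper14.TildeTwistRes
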