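import Mathlib

set_option autoImplicit false
universe u
open CategoryTheory CategoryTheory.Limits AlgebraicGeometry TopologicalSpace Opposite

noncomputable section

namespace Groth.Agent.Lib.Helper14.VAFtD7

theorem qcqs_of_hYs {Y : Scheme.{u}}
    (hYs : (CompactSpace Y ∧ Y.IsSeparated) ∨ NoetherianSpace Y) :
    CompactSpace Y ∧ QuasiSeparatedSpace Y := by
  rcases hYs with ⟨h1, h2⟩ | h
  · exact ⟨h1, inferInstance⟩
  · exact ⟨inferInstance, inferInstance⟩

theorem app_injective_of_mono {Y : Scheme.{u}} {E F : Y.Modules} (ι : E ⟶ F) [Mono ι]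
    (U : Y.Opens) : Function.Injective (ι.app U) := by
  have h1 : Mono ((Scheme.Modules.toPresheaf Y).map ι) := inferInstance
  have h2 : Mono (((Scheme.Modules.toPresheaf Y).map ι).app (op U)) := inferInstance
  exact (AddCommGrpCat.mono_iff_injective _).mp h2

end Groth.Agent.Lib.Helper14.VAFtD7
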