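import Mathlib
import Groth.Prelude.Def_RelProj2
import Groth.Agent.Lib.Helper74.QCAlgOfAffine

set_option autoImplicit false
universe u
open CategoryTheory AlgebraicGeometry TopologicalSpace Opposite

noncomputable section

namespace Groth.Agent.Lib.Helper14.VAL1

open Groth.Agent.Lib.Helper74.OfAffine

def projData {Y : Scheme.{u}} (𝒜 : RelProj.QCGrAlg Y) : AffModData 𝒜.toModule 𝒜.toQCAlg where
  app U hU := (GradedRing.proj (𝒜.deg U hU) 1 : 𝒜.presheaf.obj (op U) →+ 𝒜.presheaf.obj (op U))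
  nat U hU f m := by
    have h := GradedRingHom.map_directSumDecompose (𝒜.deg U hU)
      (𝒜.deg (Y.basicOpen f) (hU.basicOpen f))
      (𝒜.res hU (hU.basicOpen f) (Y.basicOpen_le f)) (x := (show 𝒜.presheaf.obj (op U) from m))
      (i := 1)
    exact h.symm
  lin U hU r m := by
    have h0 := 𝒜.str_mem U hU r
    exact DirectSum.coe_decompose_mul_of_left_mem_zero (𝒜.deg U hU) (j := 1) h0
      (b := (show 𝒜.presheaf.obj (op U) from m))

theorem exists_projOne {Y : Scheme.{u}} (𝒜 : RelProj.QCGrAlg Y) :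
    ∃ π : 𝒜.toModule ⟶ 𝒜.toModule,
      (∀ (U : Y.Opens) (hU : IsAffineOpen U) (x : Γ(𝒜.toModule, U)),
        (π.app U) x ∈ 𝒜.deg U hU 1) ∧
      (∀ (U : Y.Opens) (hU : IsAffineOpen U) (s : 𝒜.presheaf.obj (op U)),
        s ∈ 𝒜.deg U hU 1 → (π.app U) s = s) := by
  refine ⟨(projData 𝒜).toHom, ?_, ?_⟩
  · intro U hU x
    have h := (projData 𝒜).toHom_app U hU x
    change ((projData 𝒜).toHom.app U).hom x ∈ _
    rw [h]
    exact SetLike.coe_mem (DirectSum.decompose (𝒜.deg U hU) (show 𝒜.presheaf.obj (op U) from x) 1)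
  · intro U hU s hs
    have h := (projData 𝒜).toHom_app U hU s
    change ((projData 𝒜).toHom.app U).hom s = s
    rw [h]
    exact DirectSum.decompose_of_mem_same (𝒜.deg U hU) hs

end Groth.Agent.Lib.Helper14.VAL1
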