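import Mathlib

set_option linter.unusedSectionVars false

universe u
open CategoryTheory AlgebraicGeometry HomogeneousLocalization

namespace Groth.Agent.Lib.Helper14.VerA

section

variable {R A : Type u} [CommRing R] [CommRing A] [Algebra R A] (𝒜 : ℕ → Submodule R A) [GradedAlgebra 𝒜]
  {B : Type u} [CommRing B] [Algebra R B] (ℬ : ℕ → Submodule R B) [GradedAlgebra ℬ]
  (d : ℕ) (hd : 0 < d) (φ : B →ₐ[R] A)
  (hdeg : ∀ n : ℕ, Submodule.map φ.toLinearMap (ℬ n) = 𝒜 (n * d))

include hdeg in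
theorem phi_mem {k : ℕ} {b : B} (hb : b ∈ ℬ k) : φ b ∈ 𝒜 (k * d) :=
  (hdeg k).le (Submodule.mem_map_of_mem hb)

include hdeg in
theorem exists_preimage {k : ℕ} {a : A} (ha : a ∈ 𝒜 (k * d)) : ∃ b ∈ ℬ k, φ b = a := by
  rw [← hdeg k] at ha
  obtain ⟨b, hb, rfl⟩ := ha
  exact ⟨b, hb, rfl⟩

include hd hdeg in
theorem decompose_phi_mul (b : B) (i : ℕ) :
    (DirectSum.decompose 𝒜 (φ b) (i * d) : A) = φ (DirectSum.decompose ℬ b i : B) := by
  classical
  induction b using DirectSum.Decomposition.inductionOn ℬ with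
  | zero => simp
  | @homogeneous k b =>
    by_cases hik : i = k
    · subst hik
      rw [DirectSum.decompose_of_mem_same 𝒜 (phi_mem 𝒜 ℬ d φ hdeg b.2),
        DirectSum.decompose_of_mem_same ℬ b.2]
    · have h1 : k * d ≠ i * d := fun h => hik (Nat.eq_of_mul_eq_mul_right hd h).symm
      rw [DirectSum.decompose_of_mem_ne 𝒜 (phi_mem 𝒜 ℬ d φ hdeg b.2) h1,
        DirectSum.decompose_of_mem_ne ℬ b.2 (fun h => hik h.symm), map_zero]
  | add b b' hb hb' =>
    simp only [map_add, DirectSum.decompose_add, DirectSum.add_apply, Submodule.coe_add, hb, hb']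

include hdeg in
theorem decompose_phi_of_not_dvd (b : B) (j : ℕ) (hj : ¬ d ∣ j) :
    (DirectSum.decompose 𝒜 (φ b) j : A) = 0 := by
  classical
  induction b using DirectSum.Decomposition.inductionOn ℬ with
  | zero => simp
  | @homogeneous k b =>
    have h1 : k * d ≠ j := fun h => hj ⟨k, by rw [← h, mul_comm]⟩
    rw [DirectSum.decompose_of_mem_ne 𝒜 (phi_mem 𝒜 ℬ d φ hdeg b.2) h1]
  | add b b' hb hb' =>
    simp only [map_add, DirectSum.decompose_add, DirectSum.add_apply, Submodule.coe_add, hb, hb',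
      add_zero]

include hd hdeg in
theorem phi_mem_iff (p : Ideal A) (hp : p.IsHomogeneous 𝒜) (b : B) :
    φ b ∈ p ↔ ∀ i, φ (DirectSum.decompose ℬ b i : B) ∈ p := by
  constructor
  · intro h i
    rw [← decompose_phi_mul 𝒜 ℬ d hd φ hdeg]
    exact hp _ h
  · intro h
    classical
    rw [← DirectSum.sum_support_decompose 𝒜 (φ b)]
    refine Ideal.sum_mem _ fun j _ => ?_
    by_cases hj : d ∣ j
    · obtain ⟨i, rfl⟩ := hj
      rw [mul_comm, decompose_phi_mul 𝒜 ℬ d hd φ hdeg]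
      exact h i
    · rw [decompose_phi_of_not_dvd 𝒜 ℬ d φ hdeg b j hj]
      exact zero_mem _

end

end Groth.Agent.Lib.Helper14.VerA
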