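import Mathlib
import Groth.Agent.Lib.Helper14.VerA

set_option linter.unusedSectionVars false

universe u
open CategoryTheory AlgebraicGeometry HomogeneousLocalization

namespace Groth.Agent.Lib.Helper14.VerB

open Groth.Agent.Lib.Helper14.VerA

section

variable {R A : Type u} [CommRing R] [CommRing A] [Algebra R A] (𝒜 : ℕ → Submodule R A) [GradedAlgebra 𝒜]
  {B : Type u} [CommRing B] [Algebra R B] (ℬ : ℕ → Submodule R B) [GradedAlgebra ℬ]
  (d : ℕ) (hd : 0 < d) (φ : B →ₐ[R] A) (hφ : Function.Injective φ)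
  (hdeg : ∀ n : ℕ, Submodule.map φ.toLinearMap (ℬ n) = 𝒜 (n * d))

noncomputable def thetaAux (g : B) : Away ℬ g →+* Localization.Away (φ g) :=
  (Localization.awayMap φ.toRingHom g).comp (algebraMap (Away ℬ g) (Localization.Away g))

theorem awayMap_mk (g : B) (b : B) (k : ℕ) :
    Localization.awayMap φ.toRingHom g (Localization.mk b ⟨g ^ k, ⟨k, rfl⟩⟩) =
      Localization.mk (φ b) (⟨(φ g) ^ k, ⟨k, rfl⟩⟩ : Submonoid.powers (φ g)) := by
  rw [Localization.mk_eq_mk', Localization.mk_eq_mk']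
  erw [IsLocalization.map_mk']
  congr 1
  ext
  simp

theorem thetaAux_mk {m : ℕ} {g : B} (hg : g ∈ ℬ m) (k : ℕ) (b : B) (hb : b ∈ ℬ (k • m)) :
    thetaAux ℬ φ g (Away.mk ℬ hg k b hb) =
      Localization.mk (φ b) (⟨(φ g) ^ k, ⟨k, rfl⟩⟩ : Submonoid.powers (φ g)) := by
  rw [thetaAux, RingHom.comp_apply, HomogeneousLocalization.algebraMap_apply, Away.val_mk]
  exact awayMap_mk φ g b k

include hdeg in
theorem range_thetaAux_subset {m : ℕ} {g : B} (hg : g ∈ ℬ m) :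
    Set.range (thetaAux ℬ φ g) ⊆ Set.range (algebraMap (Away 𝒜 (φ g)) (Localization.Away (φ g))) := by
  rintro _ ⟨z, rfl⟩
  obtain ⟨k, b, hb, rfl⟩ := Away.mk_surjective ℬ hg z
  have hb' : φ b ∈ 𝒜 (k • (m * d)) := by
    have := phi_mem 𝒜 ℬ d φ hdeg hb
    rwa [smul_eq_mul, mul_assoc] at this
  refine ⟨Away.mk 𝒜 (phi_mem 𝒜 ℬ d φ hdeg hg) k (φ b) hb', ?_⟩
  rw [thetaAux_mk, HomogeneousLocalization.algebraMap_apply, Away.val_mk]

noncomputable def theta {m : ℕ} {g : B} (hg : g ∈ ℬ m) : Away ℬ g →+* Away 𝒜 (φ g) := by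
  let e := RingEquiv.ofLeftInverse (f := algebraMap (Away 𝒜 (φ g)) (Localization.Away (φ g)))
    (h := (val_injective _).hasLeftInverse.choose_spec)
  refine RingHom.comp (e.symm.toRingHom.comp (Subring.inclusion ?_))
    (thetaAux ℬ φ g).rangeRestrict
  exact range_thetaAux_subset 𝒜 ℬ d φ hdeg hg

theorem val_theta {m : ℕ} {g : B} (hg : g ∈ ℬ m) (z : Away ℬ g) :
    (theta 𝒜 ℬ d φ hdeg hg z).val = thetaAux ℬ φ g z := by
  let e := RingEquiv.ofLeftInverse (f := algebraMap (Away 𝒜 (φ g)) (Localization.Away (φ g)))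
    (h := (val_injective _).hasLeftInverse.choose_spec)
  dsimp [theta]
  convert_to! (e (e.symm ⟨thetaAux ℬ φ g z,
    range_thetaAux_subset 𝒜 ℬ d φ hdeg hg ⟨_, rfl⟩⟩)).1 = _
  rw [e.apply_symm_apply]

theorem theta_compat {m : ℕ} {g : B} (hg : g ∈ ℬ m) :
    (algebraMap (Away 𝒜 (φ g)) (Localization.Away (φ g))).comp (theta 𝒜 ℬ d φ hdeg hg) =
      (Localization.awayMap φ.toRingHom g).comp (algebraMap (Away ℬ g) (Localization.Away g)) := by
  ext z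
  exact val_theta 𝒜 ℬ d φ hdeg hg z

theorem theta_mk {m : ℕ} {g : B} (hg : g ∈ ℬ m) (k : ℕ) (b : B) (hb : b ∈ ℬ (k • m))
    (hb' : φ b ∈ 𝒜 (k • (m * d))) :
    theta 𝒜 ℬ d φ hdeg hg (Away.mk ℬ hg k b hb) =
      Away.mk 𝒜 (phi_mem 𝒜 ℬ d φ hdeg hg) k (φ b) hb' := by
  ext
  rw [val_theta, thetaAux_mk, Away.val_mk]

include hφ in
theorem theta_injective {m : ℕ} {g : B} (hg : g ∈ ℬ m) :
    Function.Injective (theta 𝒜 ℬ d φ hdeg hg) := by
  rw [injective_iff_map_eq_zero]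
  intro z hz
  obtain ⟨k, b, hb, rfl⟩ := Away.mk_surjective ℬ hg z
  have h1 := congrArg HomogeneousLocalization.val hz
  rw [val_theta, thetaAux_mk, HomogeneousLocalization.val_zero, Localization.mk_eq_mk',
    IsLocalization.mk'_eq_zero_iff] at h1
  obtain ⟨⟨_, N, rfl⟩, hN⟩ := h1
  have h2 : φ (g ^ N * b) = 0 := by rw [map_mul, map_pow]; exact hN
  have h3 : g ^ N * b = 0 := hφ (h2.trans (map_zero φ).symm)
  ext
  rw [Away.val_mk, HomogeneousLocalization.val_zero, Localization.mk_eq_mk',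
    IsLocalization.mk'_eq_zero_iff]
  exact ⟨⟨g ^ N, N, rfl⟩, h3⟩

theorem theta_surjective {m : ℕ} {g : B} (hg : g ∈ ℬ m) :
    Function.Surjective (theta 𝒜 ℬ d φ hdeg hg) := by
  intro w
  obtain ⟨k, a, ha, rfl⟩ := Away.mk_surjective 𝒜 (phi_mem 𝒜 ℬ d φ hdeg hg) w
  have ha' : a ∈ 𝒜 ((k • m) * d) := by
    rwa [smul_eq_mul, mul_assoc]
  obtain ⟨b, hb, rfl⟩ := exists_preimage 𝒜 ℬ d φ hdeg ha'
  exact ⟨Away.mk ℬ hg k b hb, theta_mk 𝒜 ℬ d φ hdeg hg k b hb ha⟩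

end

end Groth.Agent.Lib.Helper14.VerB
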