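import Mathlib
import Groth.Agent.Lib.Helper14.VerB

set_option linter.unusedSectionVars false

universe u
open CategoryTheory AlgebraicGeometry HomogeneousLocalization

namespace Groth.Agent.Lib.Helper14.VerC

open Groth.Agent.Lib.Helper14.VerA Groth.Agent.Lib.Helper14.VerB

section

variable {R A : Type u} [CommRing R] [CommRing A] [Algebra R A] (𝒜 : ℕ → Submodule R A) [GradedAlgebra 𝒜]
  {B : Type u} [CommRing B] [Algebra R B] (ℬ : ℕ → Submodule R B) [GradedAlgebra ℬ]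
  (d : ℕ) (hd : 0 < d) (φ : B →ₐ[R] A) (hφ : Function.Injective φ)
  (hdeg : ∀ n : ℕ, Submodule.map φ.toLinearMap (ℬ n) = 𝒜 (n * d))
  (e : Proj 𝒜 ≅ Proj ℬ)
  (he : ∀ (n : ℕ) (g : B) (hn : 0 < n) (hg : g ∈ ℬ n)
        (θ : CommRingCat.of (HomogeneousLocalization.Away ℬ g) ⟶ CommRingCat.of (HomogeneousLocalization.Away 𝒜 (φ g))),
        (algebraMap (HomogeneousLocalization.Away 𝒜 (φ g)) (Localization.Away (φ g))).comp θ.hom =
          (Localization.awayMap φ.toRingHom g).comp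
            (algebraMap (HomogeneousLocalization.Away ℬ g) (Localization.Away g)) →
        Proj.awayι 𝒜 (φ g) ((hdeg n).le (Submodule.mem_map_of_mem hg)) (Nat.mul_pos hn hd) ≫ e.hom =
          Spec.map θ ≫ Proj.awayι ℬ g hg hn)

noncomputable def thetaC {m : ℕ} {g : B} (hg : g ∈ ℬ m) :
    CommRingCat.of (Away ℬ g) ⟶ CommRingCat.of (Away 𝒜 (φ g)) :=
  CommRingCat.ofHom (theta 𝒜 ℬ d φ hdeg hg)

include he in
theorem chart {m : ℕ} {g : B} (hm : 0 < m) (hg : g ∈ ℬ m) :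
    Proj.awayι 𝒜 (φ g) (phi_mem 𝒜 ℬ d φ hdeg hg) (Nat.mul_pos hm hd) ≫ e.hom =
      Spec.map (thetaC 𝒜 ℬ d φ hdeg hg) ≫ Proj.awayι ℬ g hg hm :=
  he m g hm hg (thetaC 𝒜 ℬ d φ hdeg hg) (theta_compat 𝒜 ℬ d φ hdeg hg)

include hφ in
theorem isIso_thetaC {m : ℕ} {g : B} (hg : g ∈ ℬ m) : IsIso (thetaC 𝒜 ℬ d φ hdeg hg) := by
  rw [ConcreteCategory.isIso_iff_bijective]
  exact ⟨theta_injective 𝒜 ℬ d φ hφ hdeg hg, theta_surjective 𝒜 ℬ d φ hdeg hg⟩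

include hφ he in
theorem image_basicOpen {m : ℕ} {g : B} (hm : 0 < m) (hg : g ∈ ℬ m) :
    e.hom ''ᵁ (Proj.basicOpen 𝒜 (φ g)) = Proj.basicOpen ℬ g := by
  have h1 := chart 𝒜 ℬ d hd φ hdeg e he hm hg
  have := isIso_thetaC 𝒜 ℬ d φ hφ hdeg hg
  have hA : Set.range (Proj.awayι 𝒜 (φ g) (phi_mem 𝒜 ℬ d φ hdeg hg) (Nat.mul_pos hm hd)) =
      (Proj.basicOpen 𝒜 (φ g) : Set (Proj 𝒜)) := by
    rw [← Proj.opensRange_awayι 𝒜 (φ g) (phi_mem 𝒜 ℬ d φ hdeg hg) (Nat.mul_pos hm hd)]; rfl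
  have hB : Set.range (Proj.awayι ℬ g hg hm) = (Proj.basicOpen ℬ g : Set (Proj ℬ)) := by
    rw [← Proj.opensRange_awayι ℬ g hg hm]; rfl
  have h2 : Set.range (Proj.awayι 𝒜 (φ g) (phi_mem 𝒜 ℬ d φ hdeg hg) (Nat.mul_pos hm hd) ≫ e.hom) =
      Set.range (Spec.map (thetaC 𝒜 ℬ d φ hdeg hg) ≫ Proj.awayι ℬ g hg hm) := by rw [h1]
  have hsurj : Function.Surjective (Spec.map (thetaC 𝒜 ℬ d φ hdeg hg)) :=
    (ConcreteCategory.bijective_of_isIso (Spec.map (thetaC 𝒜 ℬ d φ hdeg hg)).base).2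
  apply TopologicalSpace.Opens.ext
  rw [Scheme.Hom.coe_image, ← hA, ← hB, ← Set.range_comp]
  rw [Scheme.Hom.comp_base, TopCat.coe_comp, Scheme.Hom.comp_base, TopCat.coe_comp,
    Set.range_comp _ (Spec.map (thetaC 𝒜 ℬ d φ hdeg hg)), hsurj.range_eq, Set.image_univ] at h2
  exact h2

include hφ he in
theorem preimage_basicOpen {m : ℕ} {g : B} (hm : 0 < m) (hg : g ∈ ℬ m) :
    e.hom ⁻¹ᵁ (Proj.basicOpen ℬ g) = Proj.basicOpen 𝒜 (φ g) := by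
  rw [← image_basicOpen 𝒜 ℬ d hd φ hφ hdeg e he hm hg, Scheme.Hom.preimage_image_eq]

include hφ he in
theorem basicOpen_le_preimage {m : ℕ} {g : B} (hm : 0 < m) (hg : g ∈ ℬ m) :
    Proj.basicOpen 𝒜 (φ g) ≤ e.hom ⁻¹ᵁ (Proj.basicOpen ℬ g) :=
  (preimage_basicOpen 𝒜 ℬ d hd φ hφ hdeg e he hm hg).ge

include hφ he in
theorem resLE_eq {m : ℕ} {g : B} (hm : 0 < m) (hg : g ∈ ℬ m) :
    e.hom.resLE (Proj.basicOpen ℬ g) (Proj.basicOpen 𝒜 (φ g))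
        (basicOpen_le_preimage 𝒜 ℬ d hd φ hφ hdeg e he hm hg) ≫ Proj.basicOpenToSpec ℬ g =
      Proj.basicOpenToSpec 𝒜 (φ g) ≫ Spec.map (thetaC 𝒜 ℬ d φ hdeg hg) := by
  have h1 := chart 𝒜 ℬ d hd φ hdeg e he hm hg
  rw [Proj.awayι, Proj.awayι, Category.assoc, ← Scheme.Hom.resLE_comp_ι _
    (basicOpen_le_preimage 𝒜 ℬ d hd φ hφ hdeg e he hm hg), ← Category.assoc, ← Category.assoc,
    cancel_mono, Iso.inv_comp_eq, ← Category.assoc, Iso.eq_comp_inv] at h1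
  rw [← Proj.basicOpenIsoSpec_hom ℬ g hg hm, h1, Proj.basicOpenIsoSpec_hom]

include hφ he in
theorem chart_sections {m : ℕ} {g : B} (hm : 0 < m) (hg : g ∈ ℬ m) :
    Proj.awayToSection ℬ g ≫ e.hom.appLE (Proj.basicOpen ℬ g) (Proj.basicOpen 𝒜 (φ g))
        (basicOpen_le_preimage 𝒜 ℬ d hd φ hφ hdeg e he hm hg) =
      thetaC 𝒜 ℬ d φ hdeg hg ≫ Proj.awayToSection 𝒜 (φ g) := by
  have h2 := congrArg Scheme.Hom.appTop (resLE_eq 𝒜 ℬ d hd φ hφ hdeg e he hm hg)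
  rw [Scheme.Hom.comp_appTop, Scheme.Hom.comp_appTop] at h2
  have hB : (Proj.basicOpenToSpec ℬ g).appTop = (Scheme.ΓSpecIso _).hom ≫ Proj.awayToSection ℬ g ≫
      (Proj.basicOpen ℬ g).topIso.inv := Proj.basicOpenToSpec_app_top ℬ g
  have hA : (Proj.basicOpenToSpec 𝒜 (φ g)).appTop = (Scheme.ΓSpecIso _).hom ≫
      Proj.awayToSection 𝒜 (φ g) ≫ (Proj.basicOpen 𝒜 (φ g)).topIso.inv :=
    Proj.basicOpenToSpec_app_top 𝒜 (φ g)
  have hR : (e.hom.resLE (Proj.basicOpen ℬ g) (Proj.basicOpen 𝒜 (φ g))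
      (basicOpen_le_preimage 𝒜 ℬ d hd φ hφ hdeg e he hm hg)).appTop =
      (Proj.basicOpen ℬ g).topIso.hom ≫ e.hom.appLE (Proj.basicOpen ℬ g) (Proj.basicOpen 𝒜 (φ g))
        (basicOpen_le_preimage 𝒜 ℬ d hd φ hφ hdeg e he hm hg) ≫
        (Proj.basicOpen 𝒜 (φ g)).topIso.inv := Scheme.Hom.resLE_app_top _ _
  rw [hB, hA, hR, Scheme.ΓSpecIso_naturality_assoc] at h2
  simp only [Category.assoc, Iso.inv_hom_id_assoc] at h2
  rw [cancel_epi] at h2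
  simp only [← Category.assoc] at h2
  rw [cancel_mono] at h2
  exact h2

end

end Groth.Agent.Lib.Helper14.VerC
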