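import Mathlib
import Groth.Agent.Lib.Helper14.VerC

set_option linter.unusedSectionVars false

universe u
open CategoryTheory AlgebraicGeometry HomogeneousLocalization

namespace Groth.Agent.Lib.Helper14.VerD

open Groth.Agent.Lib.Helper14.VerA Groth.Agent.Lib.Helper14.VerB Groth.Agent.Lib.Helper14.VerC

section

variable {R A : Type u} [CommRing R] [CommRing A] [Algebra R A] (𝒜 : ℕ → Submodule R A) [GradedAlgebra 𝒜]
  {B : Type u} [CommRing B] [Algebra R B] (ℬ : ℕ → Submodule R B) [GradedAlgebra ℬ]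
  (d : ℕ) (hd : 0 < d) (φ : B →ₐ[R] A) (hφ : Function.Injective φ)
  (hdeg : ∀ n : ℕ, Submodule.map φ.toLinearMap (ℬ n) = 𝒜 (n * d))
  (e : Proj 𝒜 ≅ Proj ℬ)
  (he : ∀ (n : ℕ) (g : B) (hn : 0 < n) (hg : g ∈ ℬ n)
        (θ : CommRingCat.of (HomogeneousLocalization.Away ℬ g) ⟶ CommRingCat.of (HomogeneousLocalization.Away 𝒜 (φ g))),
        (algebraMap (HomogeneousLocalization.Away 𝒜 (φ g)) (Localization.Away (φ g))).comp θ.hom =
          (Localization.awayMap φ.toRingHom g).comp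
            (algebraMap (HomogeneousLocalization.Away ℬ g) (Localization.Away g)) →
        Proj.awayι 𝒜 (φ g) ((hdeg n).le (Submodule.mem_map_of_mem hg)) (Nat.mul_pos hn hd) ≫ e.hom =
          Spec.map θ ≫ Proj.awayι ℬ g hg hn)

theorem exists_pos_notMem (x : ProjectiveSpectrum 𝒜) :
    ∃ (j : ℕ) (f : A), 0 < j ∧ f ∈ 𝒜 j ∧ f ∉ x.asHomogeneousIdeal := by
  classical
  by_contra hcon
  push Not at hcon
  apply x.not_irrelevant_le
  intro a ha
  rw [HomogeneousIdeal.mem_irrelevant_iff] at ha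
  rw [← DirectSum.sum_support_decompose 𝒜 a]
  refine Ideal.sum_mem _ fun i _ => ?_
  by_cases hi : i = 0
  · subst hi
    rw [GradedRing.proj_apply] at ha
    rw [ha]
    exact zero_mem _
  · exact hcon i _ (Nat.pos_of_ne_zero hi) (SetLike.coe_mem _)

include hd hdeg in
theorem exists_pos_phi_notMem (x : ProjectiveSpectrum 𝒜) :
    ∃ (m : ℕ) (g : B), 0 < m ∧ g ∈ ℬ m ∧ φ g ∉ x.asHomogeneousIdeal := by
  obtain ⟨j, f, hj, hf, hfx⟩ := exists_pos_notMem 𝒜 x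
  have h1 : f ^ d ∈ 𝒜 (j * d) := by
    have := SetLike.pow_mem_graded d hf
    rwa [smul_eq_mul, mul_comm] at this
  obtain ⟨g, hg, hgf⟩ := exists_preimage 𝒜 ℬ d φ hdeg h1
  refine ⟨j, g, hj, hg, ?_⟩
  rw [hgf]
  exact fun h => hfx (x.isPrime.mem_of_pow_mem d h)

include hφ he in
theorem mem_iff_of_pos (x : Proj 𝒜) {m : ℕ} {g : B} (hm : 0 < m) (hg : g ∈ ℬ m) :
    g ∈ (e.hom x).asHomogeneousIdeal ↔ φ g ∈ x.asHomogeneousIdeal := by
  have h1 := preimage_basicOpen 𝒜 ℬ d hd φ hφ hdeg e he hm hg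
  have h2 : x ∈ e.hom ⁻¹ᵁ (Proj.basicOpen ℬ g) ↔ x ∈ Proj.basicOpen 𝒜 (φ g) := by rw [h1]
  rw [Scheme.Hom.mem_preimage, Proj.mem_basicOpen, Proj.mem_basicOpen] at h2
  exact not_iff_not.mp h2

include hφ he in
theorem mem_iff_of_homogeneous (x : Proj 𝒜) {k : ℕ} {b : B} (hb : b ∈ ℬ k) :
    b ∈ (e.hom x).asHomogeneousIdeal ↔ φ b ∈ x.asHomogeneousIdeal := by
  obtain ⟨m, g, hm, hg, hgx⟩ := exists_pos_phi_notMem 𝒜 ℬ d hd φ hdeg x
  have hgy : g ∉ (e.hom x).asHomogeneousIdeal := fun h =>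
    hgx ((mem_iff_of_pos 𝒜 ℬ d hd φ hφ hdeg e he x hm hg).mp h)
  have h1 : b * g ∈ ℬ (k + m) := SetLike.mul_mem_graded hb hg
  have h2 := mem_iff_of_pos 𝒜 ℬ d hd φ hφ hdeg e he x (by omega : 0 < k + m) h1
  rw [map_mul] at h2
  constructor
  · intro h
    have h3 := h2.mp (Ideal.mul_mem_right _ _ h)
    exact (x.isPrime.mem_or_mem h3).resolve_right hgx
  · intro h
    have h3 := h2.mpr (Ideal.mul_mem_right _ _ h)
    exact ((e.hom x).isPrime.mem_or_mem h3).resolve_right hgy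

include hφ he in
theorem mem_iff (x : Proj 𝒜) (b : B) :
    b ∈ (e.hom x).asHomogeneousIdeal ↔ φ b ∈ x.asHomogeneousIdeal := by
  have hy := (e.hom x).asHomogeneousIdeal.isHomogeneous
  have hx := x.asHomogeneousIdeal.isHomogeneous
  constructor
  · intro h
    change φ b ∈ x.asHomogeneousIdeal.toIdeal
    rw [phi_mem_iff 𝒜 ℬ d hd φ hdeg _ hx]
    intro i
    exact (mem_iff_of_homogeneous 𝒜 ℬ d hd φ hφ hdeg e he x (SetLike.coe_mem _)).mp (hy i h)
  · intro h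
    classical
    change φ b ∈ x.asHomogeneousIdeal.toIdeal at h
    rw [phi_mem_iff 𝒜 ℬ d hd φ hdeg _ hx] at h
    rw [← DirectSum.sum_support_decompose ℬ b]
    refine Ideal.sum_mem _ fun i _ => ?_
    exact (mem_iff_of_homogeneous 𝒜 ℬ d hd φ hφ hdeg e he x (SetLike.coe_mem _)).mpr (h i)

end

end Groth.Agent.Lib.Helper14.VerD
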