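import Mathlib
import Groth.Prelude.Def_Twist2
import Groth.Agent.Lib.Helper14.VerD

set_option linter.unusedSectionVars false

universe u
open CategoryTheory AlgebraicGeometry HomogeneousLocalization Opposite

namespace Groth.Agent.Lib.Helper14.VerE

open Groth.Agent.Lib.Helper14.VerA Groth.Agent.Lib.Helper14.VerB Groth.Agent.Lib.Helper14.VerC
  Groth.Agent.Lib.Helper14.VerD

section

variable {R A : Type u} [CommRing R] [CommRing A] [Algebra R A] (𝒜 : ℕ → Submodule R A) [GradedAlgebra 𝒜]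
  {B : Type u} [CommRing B] [Algebra R B] (ℬ : ℕ → Submodule R B) [GradedAlgebra ℬ]
  (d : ℕ) (hd : 0 < d) (φ : B →ₐ[R] A) (hφ : Function.Injective φ)
  (hdeg : ∀ n : ℕ, Submodule.map φ.toLinearMap (ℬ n) = 𝒜 (n * d))

def Compat (x : ProjectiveSpectrum 𝒜) (y : ProjectiveSpectrum ℬ) : Prop :=
  ∀ b : B, b ∈ y.asHomogeneousIdeal ↔ φ b ∈ x.asHomogeneousIdeal

variable {𝒜 ℬ φ}

theorem Compat.le_comap {x : ProjectiveSpectrum 𝒜} {y : ProjectiveSpectrum ℬ} (h : Compat 𝒜 ℬ φ x y) :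
    y.asHomogeneousIdeal.toIdeal.primeCompl ≤
      x.asHomogeneousIdeal.toIdeal.primeCompl.comap φ.toRingHom :=
  fun b hb hmem => hb ((h b).mpr hmem)

noncomputable def locMap {x : ProjectiveSpectrum 𝒜} {y : ProjectiveSpectrum ℬ} (h : Compat 𝒜 ℬ φ x y) :
    Twist.Loc ℬ y →+* Twist.Loc 𝒜 x :=
  IsLocalization.map (Twist.Loc 𝒜 x) φ.toRingHom h.le_comap

theorem locMap_mk {x : ProjectiveSpectrum 𝒜} {y : ProjectiveSpectrum ℬ} (h : Compat 𝒜 ℬ φ x y)
    (b : B) (s : y.asHomogeneousIdeal.toIdeal.primeCompl) :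
    locMap h (Localization.mk b s) = Localization.mk (φ b) ⟨φ s, h.le_comap s.2⟩ := by
  rw [Localization.mk_eq_mk', Localization.mk_eq_mk']
  exact IsLocalization.map_mk' _ _ _

def ev {W : (Proj 𝒜).Opens} (r : Γ(Proj 𝒜, W)) (x : ProjectiveSpectrum 𝒜) (hx : x ∈ W) :
    Twist.A0 𝒜 x :=
  (show Twist.O (𝒜 := 𝒜) (op W) from r).1 ⟨x, hx⟩

theorem ev_map {W W' : (Proj 𝒜).Opens} (i : W' ⟶ W) (r : Γ(Proj 𝒜, W)) (x : ProjectiveSpectrum 𝒜)
    (hx : x ∈ W') : ev ((Proj 𝒜).presheaf.map i.op r) x hx = ev r x (i.le hx) := rfl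

theorem ev_awayToSection (f : A) (z : Away 𝒜 f) (x : ProjectiveSpectrum 𝒜)
    (hx : x ∈ Proj.basicOpen 𝒜 f) :
    (ev (Proj.awayToSection 𝒜 f z) x hx).val =
      IsLocalization.map (M := Submonoid.powers f) (T := x.asHomogeneousIdeal.toIdeal.primeCompl)
        (Twist.Loc 𝒜 x) (RingHom.id A) (Submonoid.powers_le.mpr hx) z.val :=
  ProjectiveSpectrum.Proj.awayToSection_apply 𝒜 f z ⟨x, hx⟩

theorem locMap_comp_awayMap {x : ProjectiveSpectrum 𝒜} {y : ProjectiveSpectrum ℬ}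
    (h : Compat 𝒜 ℬ φ x y) (g : B) (hgy : g ∉ y.asHomogeneousIdeal)
    (hgx : φ g ∉ x.asHomogeneousIdeal) (w : Localization.Away g) :
    IsLocalization.map (M := Submonoid.powers (φ g)) (T := x.asHomogeneousIdeal.toIdeal.primeCompl)
        (Twist.Loc 𝒜 x) (RingHom.id A) (Submonoid.powers_le.mpr hgx)
        (Localization.awayMap φ.toRingHom g w) =
      locMap h (IsLocalization.map (M := Submonoid.powers g)
        (T := y.asHomogeneousIdeal.toIdeal.primeCompl)
        (Twist.Loc ℬ y) (RingHom.id B) (Submonoid.powers_le.mpr hgy) w) := by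
  have key : (IsLocalization.map (M := Submonoid.powers (φ g))
        (T := x.asHomogeneousIdeal.toIdeal.primeCompl)
        (Twist.Loc 𝒜 x) (RingHom.id A) (Submonoid.powers_le.mpr hgx)).comp
        (Localization.awayMap φ.toRingHom g) =
      (locMap h).comp (IsLocalization.map (M := Submonoid.powers g)
        (T := y.asHomogeneousIdeal.toIdeal.primeCompl)
        (Twist.Loc ℬ y) (RingHom.id B) (Submonoid.powers_le.mpr hgy)) := by
    apply IsLocalization.ringHom_ext (Submonoid.powers g)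
    ext b
    simp only [RingHom.coe_comp, Function.comp_apply, Localization.awayMap, IsLocalization.Away.map,
      locMap, IsLocalization.map_eq, RingHom.id_apply]
  exact congrArg (fun F => F w) key

variable (e : Proj 𝒜 ≅ Proj ℬ)
  (he : ∀ (n : ℕ) (g : B) (hn : 0 < n) (hg : g ∈ ℬ n)
        (θ : CommRingCat.of (HomogeneousLocalization.Away ℬ g) ⟶ CommRingCat.of (HomogeneousLocalization.Away 𝒜 (φ g))),
        (algebraMap (HomogeneousLocalization.Away 𝒜 (φ g)) (Localization.Away (φ g))).comp θ.hom =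
          (Localization.awayMap φ.toRingHom g).comp
            (algebraMap (HomogeneousLocalization.Away ℬ g) (Localization.Away g)) →
        Proj.awayι 𝒜 (φ g) ((hdeg n).le (Submodule.mem_map_of_mem hg)) (Nat.mul_pos hn hd) ≫ e.hom =
          Spec.map θ ≫ Proj.awayι ℬ g hg hn)

include hφ he in
theorem compat_hom (x : Proj 𝒜) : Compat 𝒜 ℬ φ x (e.hom x) :=
  fun b => mem_iff 𝒜 ℬ d hd φ hφ hdeg e he x b

include hφ he in
theorem appLE_ev (W : (Proj ℬ).Opens) (U : (Proj 𝒜).Opens) (hUW : U ≤ e.hom ⁻¹ᵁ W)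
    (r : Γ(Proj ℬ, W)) (x : Proj 𝒜) (hx : x ∈ U) :
    (ev (e.hom.appLE W U hUW r) x hx).val =
      locMap (compat_hom d hd hφ hdeg e he x) (ev r (e.hom x) (hUW hx)).val := by
  obtain ⟨m₀, g₀, hm₀, hg₀, hg₀x⟩ := exists_pos_phi_notMem 𝒜 ℬ d hd φ hdeg x
  have hg₀y : g₀ ∉ (e.hom x).asHomogeneousIdeal := fun h =>
    hg₀x ((mem_iff_of_pos 𝒜 ℬ d hd φ hφ hdeg e he x hm₀ hg₀).mp h)
  obtain ⟨V', hyV', i, k, b, s, hs, hfrac⟩ :=
    (show Twist.O (𝒜 := ℬ) (op W) from r).2 ⟨e.hom x, hUW hx⟩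
  have hg : s.1 * g₀ ∈ ℬ (k + m₀) := SetLike.mul_mem_graded s.2 hg₀
  have hkm : 0 < k + m₀ := by omega
  have hbg : b.1 * g₀ ∈ ℬ (1 • (k + m₀)) := by
    rw [one_smul]; exact SetLike.mul_mem_graded b.2 hg₀
  set g : B := s.1 * g₀ with hgdef
  set z : Away ℬ g := Away.mk ℬ hg 1 (b.1 * g₀) hbg with hzdef
  have hgy : g ∉ (e.hom x).asHomogeneousIdeal := fun h =>
    ((e.hom x).isPrime.mem_or_mem h).elim (hs ⟨e.hom x, hyV'⟩) hg₀y
  set W'' : (Proj ℬ).Opens := V' ⊓ Proj.basicOpen ℬ g with hW''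
  have hyW'' : e.hom x ∈ W'' := ⟨hyV', hgy⟩
  have hW''W : W'' ≤ W := inf_le_left.trans i.le
  have hW''g : W'' ≤ Proj.basicOpen ℬ g := inf_le_right
  have key1 : (Proj ℬ).presheaf.map (homOfLE hW''W).op r =
      (Proj ℬ).presheaf.map (homOfLE hW''g).op (Proj.awayToSection ℬ g z) := by
    apply Subtype.ext
    funext ⟨y', hy'⟩
    apply HomogeneousLocalization.val_injective
    change (ev r y' (hW''W hy')).val = (ev (Proj.awayToSection ℬ g z) y' (hW''g hy')).val
    refine Eq.trans ?_ (ev_awayToSection g z y' (hW''g hy')).symm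
    have h1 : ev r y' (hW''W hy') = HomogeneousLocalization.mk ⟨k, b, s, hs ⟨y', hy'.1⟩⟩ :=
      hfrac ⟨y', hy'.1⟩
    rw [h1, HomogeneousLocalization.val_mk, hzdef, Away.val_mk]
    simp only [Localization.mk_eq_mk', IsLocalization.map_mk']
    rw [IsLocalization.mk'_eq_iff_eq]
    congr 1
    simp only [RingHom.id_apply, pow_one, hgdef]
    ring
  set U'' : (Proj 𝒜).Opens := U ⊓ e.hom ⁻¹ᵁ W'' with hU''
  have hxU'' : x ∈ U'' := ⟨hx, hyW''⟩
  have hU''U : U'' ≤ U := inf_le_left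
  have hU''W'' : U'' ≤ e.hom ⁻¹ᵁ W'' := inf_le_right
  have hpre := preimage_basicOpen 𝒜 ℬ d hd φ hφ hdeg e he hkm hg
  have hU''g : U'' ≤ Proj.basicOpen 𝒜 (φ g) := by
    rw [← hpre]
    exact hU''W''.trans (fun p hp => hW''g hp)
  have hgx : φ g ∉ x.asHomogeneousIdeal := fun h =>
    hgy ((mem_iff 𝒜 ℬ d hd φ hφ hdeg e he x g).mpr h)
  have key2 : (Proj 𝒜).presheaf.map (homOfLE hU''U).op (e.hom.appLE W U hUW r) =
      (Proj 𝒜).presheaf.map (homOfLE hU''g).op
        (Proj.awayToSection 𝒜 (φ g) (theta 𝒜 ℬ d φ hdeg hg z)) := by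
    calc (Proj 𝒜).presheaf.map (homOfLE hU''U).op (e.hom.appLE W U hUW r)
        = e.hom.appLE W U'' (hU''U.trans hUW) r := by
          rw [← CommRingCat.comp_apply, Scheme.Hom.appLE_map]
      _ = e.hom.appLE W'' U'' hU''W'' ((Proj ℬ).presheaf.map (homOfLE hW''W).op r) := by
          rw [← CommRingCat.comp_apply, Scheme.Hom.map_appLE]
      _ = e.hom.appLE W'' U'' hU''W''
            ((Proj ℬ).presheaf.map (homOfLE hW''g).op (Proj.awayToSection ℬ g z)) := by rw [key1]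
      _ = e.hom.appLE (Proj.basicOpen ℬ g) U'' (hU''g.trans hpre.ge) (Proj.awayToSection ℬ g z) := by
          rw [← CommRingCat.comp_apply, Scheme.Hom.map_appLE]
      _ = (Proj 𝒜).presheaf.map (homOfLE hU''g).op
            (e.hom.appLE (Proj.basicOpen ℬ g) (Proj.basicOpen 𝒜 (φ g))
              (basicOpen_le_preimage 𝒜 ℬ d hd φ hφ hdeg e he hkm hg)
              (Proj.awayToSection ℬ g z)) := by
          have h5 := Scheme.Hom.appLE_map e.hom
            (basicOpen_le_preimage 𝒜 ℬ d hd φ hφ hdeg e he hkm hg) (homOfLE hU''g).op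
          exact (ConcreteCategory.congr_hom h5 (Proj.awayToSection ℬ g z)).symm
      _ = _ := by
          rw [← CommRingCat.comp_apply (Proj.awayToSection ℬ g),
            chart_sections 𝒜 ℬ d hd φ hφ hdeg e he hkm hg]
          rfl
  have h3 := congrArg (fun s => (ev s x hxU'').val) key2
  change (ev (e.hom.appLE W U hUW r) x hx).val =
    (ev (Proj.awayToSection 𝒜 (φ g) (theta 𝒜 ℬ d φ hdeg hg z)) x (hU''g hxU'')).val at h3
  have h4 := congrArg (fun s => (ev s (e.hom x) hyW'').val) key1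
  change (ev r (e.hom x) (hUW hx)).val =
    (ev (Proj.awayToSection ℬ g z) (e.hom x) (hW''g hyW'')).val at h4
  rw [h3, h4]
  refine (ev_awayToSection (φ g) _ x (hU''g hxU'')).trans ?_
  rw [val_theta, thetaAux, RingHom.comp_apply,
    locMap_comp_awayMap (compat_hom d hd hφ hdeg e he x) g hgy hgx]
  congr 1
  exact (ev_awayToSection g z (e.hom x) (hW''g hyW'')).symm

end

end Groth.Agent.Lib.Helper14.VerE
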