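import Mathlib
import Groth.Prelude.Def_Twist2
import Groth.Agent.Lib.Helper14.VerE

set_option linter.unusedSectionVars false

universe u
open CategoryTheory AlgebraicGeometry HomogeneousLocalization Opposite

namespace Groth.Agent.Lib.Helper14.VerF

open Groth.Agent.Lib.Helper14.VerA Groth.Agent.Lib.Helper14.VerB Groth.Agent.Lib.Helper14.VerC
  Groth.Agent.Lib.Helper14.VerD Groth.Agent.Lib.Helper14.VerE

section

variable {R A : Type u} [CommRing R] [CommRing A] [Algebra R A] {𝒜 : ℕ → Submodule R A} [GradedAlgebra 𝒜]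

theorem one_notMem (x : ProjectiveSpectrum 𝒜) : (1 : A) ∉ x.asHomogeneousIdeal := fun hmem =>
  x.isPrime.ne_top ((Ideal.eq_top_iff_one _).mpr hmem)

theorem mem_twistAt_iff (N : ℤ) (x : ProjectiveSpectrum 𝒜) (q : Twist.Loc 𝒜 x) :
    q ∈ Twist.twistAt 𝒜 N x ↔ ∃ (i j : ℕ) (a : 𝒜 i) (s : 𝒜 j) (hs : s.1 ∉ x.asHomogeneousIdeal),
      ((i : ℤ) = j + N ∨ a.1 = 0) ∧ q = Localization.mk a.1 ⟨s.1, hs⟩ := by
  constructor
  · intro hq
    induction hq using Submodule.span_induction with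
    | mem q hq =>
      obtain ⟨i, j, a, s, hs, hdeg, rfl⟩ := hq
      exact ⟨i, j, a, s, hs, Or.inl hdeg, rfl⟩
    | zero =>
      exact ⟨0, 0, 0, ⟨1, SetLike.GradedOne.one_mem⟩, one_notMem x, Or.inr rfl, by
        simp [Localization.mk_zero]⟩
    | add q₁ q₂ _ _ h₁ h₂ =>
      obtain ⟨i, j, a, s, hs, hd1, rfl⟩ := h₁
      obtain ⟨i', j', a', s', hs', hd2, rfl⟩ := h₂
      rcases hd1 with hd1 | ha
      · rcases hd2 with hd2 | ha'
        · have e : j + i' = j' + i := by omega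
          refine ⟨j' + i, j + j', ⟨s.1 * a'.1 + s'.1 * a.1, add_mem ?_ ?_⟩,
            ⟨s.1 * s'.1, SetLike.mul_mem_graded s.2 s'.2⟩,
            fun hmem => (x.isPrime.mem_or_mem hmem).elim hs hs', Or.inl (by push_cast; omega), ?_⟩
          · exact e ▸ SetLike.mul_mem_graded s.2 a'.2
          · exact SetLike.mul_mem_graded s'.2 a.2
          · rw [Localization.add_mk]
            rfl
        · refine ⟨i, j, a, s, hs, Or.inl hd1, ?_⟩
          rw [ha', Localization.mk_zero, add_zero]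
      · refine ⟨i', j', a', s', hs', hd2, ?_⟩
        rw [ha, Localization.mk_zero, zero_add]
    | smul c q _ hq =>
      obtain ⟨i, j, a, s, hs, hd1, rfl⟩ := hq
      obtain ⟨⟨k, r, t, ht⟩, rfl⟩ := HomogeneousLocalization.mk_surjective c
      refine ⟨k + i, k + j, ⟨r.1 * a.1, SetLike.mul_mem_graded r.2 a.2⟩,
        ⟨t.1 * s.1, SetLike.mul_mem_graded t.2 s.2⟩,
        fun hmem => (x.isPrime.mem_or_mem hmem).elim ht hs, ?_, ?_⟩
      · rcases hd1 with hd1 | ha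
        · exact Or.inl (by push_cast; omega)
        · exact Or.inr (show r.1 * a.1 = 0 by rw [ha, mul_zero])
      · rw [Algebra.smul_def, HomogeneousLocalization.algebraMap_apply,
          HomogeneousLocalization.val_mk, Localization.mk_mul]
        rfl
  · rintro ⟨i, j, a, s, hs, hd1 | ha, rfl⟩
    · exact Submodule.subset_span ⟨i, j, a, s, hs, hd1, rfl⟩
    · rw [ha, Localization.mk_zero]
      exact zero_mem _

end

section

variable {R A : Type u} [CommRing R] [CommRing A] [Algebra R A] {𝒜 : ℕ → Submodule R A} [GradedAlgebra 𝒜]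
  {B : Type u} [CommRing B] [Algebra R B] {ℬ : ℕ → Submodule R B} [GradedAlgebra ℬ]
  (d : ℕ) (hd : 0 < d) {φ : B →ₐ[R] A} (hφ : Function.Injective φ)
  (hdeg : ∀ n : ℕ, Submodule.map φ.toLinearMap (ℬ n) = 𝒜 (n * d))
  {x : ProjectiveSpectrum 𝒜} {y : ProjectiveSpectrum ℬ} (h : Compat 𝒜 ℬ φ x y)

include hdeg in
theorem locMap_mem (n : ℤ) {q : Twist.Loc ℬ y} (hq : q ∈ Twist.twistAt ℬ n y) :
    locMap h q ∈ Twist.twistAt 𝒜 (n * d) x := by
  rw [mem_twistAt_iff] at hq ⊢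
  obtain ⟨i, j, b, s, hs, hd1, rfl⟩ := hq
  refine ⟨i * d, j * d, ⟨φ b.1, phi_mem 𝒜 ℬ d φ hdeg b.2⟩, ⟨φ s.1, phi_mem 𝒜 ℬ d φ hdeg s.2⟩,
    h.le_comap hs, ?_, locMap_mk h _ _⟩
  rcases hd1 with hd1 | hb
  · left
    push_cast
    rw [hd1]
    ring
  · right
    change φ b.1 = 0
    rw [hb, map_zero]

theorem exists_homogeneous_notMem (u : A) (hu : u ∉ x.asHomogeneousIdeal) :
    ∃ i₀ : ℕ, (DirectSum.decompose 𝒜 u i₀ : A) ∉ x.asHomogeneousIdeal := by
  classical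
  by_contra hcon
  push Not at hcon
  apply hu
  rw [← DirectSum.sum_support_decompose 𝒜 u]
  exact Ideal.sum_mem _ fun i _ => hcon i

include hd hφ hdeg in
theorem locMap_eq_zero (n : ℤ) {q : Twist.Loc ℬ y} (hq : q ∈ Twist.twistAt ℬ n y)
    (h0 : locMap h q = 0) : q = 0 := by
  rw [mem_twistAt_iff] at hq
  obtain ⟨i, j, b, s, hs, -, rfl⟩ := hq
  rw [locMap_mk, Localization.mk_eq_mk', IsLocalization.mk'_eq_zero_iff] at h0
  obtain ⟨⟨u, hu⟩, hub⟩ := h0
  obtain ⟨i₀, hi₀⟩ := exists_homogeneous_notMem (x := x) u hu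
  have hb' : φ b.1 ∈ 𝒜 (i * d) := phi_mem 𝒜 ℬ d φ hdeg b.2
  have h1 : (DirectSum.decompose 𝒜 u i₀ : A) * φ b.1 = 0 := by
    rw [← DirectSum.coe_decompose_mul_add_of_right_mem 𝒜 (i := i₀) (j := i * d) hb']
    rw [hub, DirectSum.decompose_zero]
    rfl
  set u₀ : A := (DirectSum.decompose 𝒜 u i₀ : A) with hu₀
  have hu₀mem : u₀ ^ d ∈ 𝒜 (i₀ * d) := by
    have := SetLike.pow_mem_graded d (SetLike.coe_mem (DirectSum.decompose 𝒜 u i₀))
    rwa [smul_eq_mul, mul_comm] at this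
  obtain ⟨v, hv, hvu⟩ := exists_preimage 𝒜 ℬ d φ hdeg hu₀mem
  have hvy : v ∉ y.asHomogeneousIdeal := by
    rw [h v, hvu]
    exact fun hmem => hi₀ (x.isPrime.mem_of_pow_mem d hmem)
  have h2 : φ (v * b.1) = 0 := by
    obtain ⟨d', rfl⟩ := Nat.exists_eq_succ_of_ne_zero hd.ne'
    rw [map_mul, hvu, pow_succ, mul_assoc, h1, mul_zero]
  have h3 : v * b.1 = 0 := hφ (h2.trans (map_zero φ).symm)
  rw [Localization.mk_eq_mk', IsLocalization.mk'_eq_zero_iff]
  exact ⟨⟨v, hvy⟩, h3⟩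

include hd hdeg in
theorem locMap_surj (n : ℤ) {q' : Twist.Loc 𝒜 x} (hq' : q' ∈ Twist.twistAt 𝒜 (n * d) x) :
    ∃ q ∈ Twist.twistAt ℬ n y, locMap h q = q' := by
  rw [mem_twistAt_iff] at hq'
  obtain ⟨i, j, a, s, hs, hd1 | ha, rfl⟩ := hq'
  · obtain ⟨d', rfl⟩ := Nat.exists_eq_succ_of_ne_zero hd.ne'
    have hjn : 0 ≤ (j : ℤ) + n := by
      by_contra hneg
      push Not at hneg
      have : ((j : ℤ) + n) * ((d' : ℤ) + 1) < 0 :=
        mul_neg_of_neg_of_pos hneg (by positivity)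
      have hi0 : (0 : ℤ) ≤ i := Int.natCast_nonneg i
      push_cast at hd1
      nlinarith
    obtain ⟨k, hk⟩ := Int.eq_ofNat_of_zero_le hjn
    have h1 : a.1 * s.1 ^ d' ∈ 𝒜 (k * (d' + 1)) := by
      have h2 := SetLike.mul_mem_graded a.2 (SetLike.pow_mem_graded d' s.2)
      have h3 : i + d' • j = k * (d' + 1) := by
        have : ((i + d' • j : ℕ) : ℤ) = ((k * (d' + 1) : ℕ) : ℤ) := by
          rw [smul_eq_mul]
          push_cast
          push_cast at hd1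
          rw [hd1, ← hk]
          ring
        exact_mod_cast this
      rwa [h3] at h2
    have h4 : s.1 ^ (d' + 1) ∈ 𝒜 (j * (d' + 1)) := by
      have := SetLike.pow_mem_graded (d' + 1) s.2
      rwa [smul_eq_mul, mul_comm] at this
    obtain ⟨b, hb, hba⟩ := exists_preimage 𝒜 ℬ (d' + 1) φ hdeg h1
    obtain ⟨c, hc, hcs⟩ := exists_preimage 𝒜 ℬ (d' + 1) φ hdeg h4
    have hcy : c ∉ y.asHomogeneousIdeal := by
      rw [h c, hcs]
      exact fun hmem => hs (x.isPrime.mem_of_pow_mem _ hmem)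
    refine ⟨Localization.mk b ⟨c, hcy⟩, ?_, ?_⟩
    · exact Submodule.subset_span ⟨k, j, ⟨b, hb⟩, ⟨c, hc⟩, hcy, by rw [← hk], rfl⟩
    · rw [locMap_mk, Localization.mk_eq_mk_iff, Localization.r_iff_exists]
      refine ⟨1, ?_⟩
      simp only [OneMemClass.coe_one, one_mul, hba, hcs]
      ring
  · refine ⟨0, zero_mem _, ?_⟩
    rw [map_zero, ha, Localization.mk_zero]

end

end Groth.Agent.Lib.Helper14.VerF
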