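import Mathlib
import Groth.Prelude.Def_Twist2
import Groth.Agent.Lib.Helper14.VerF

set_option linter.unusedSectionVars false

universe u
open CategoryTheory AlgebraicGeometry HomogeneousLocalization Opposite

namespace Groth.Agent.Lib.Helper14.VerG

section abstract

variable {X Y : Scheme.{u}} (f : X ⟶ Y) [IsOpenImmersion f] (M : X.Modules) (N : Y.Modules)

theorem smul_restrict (V : X.Opens) (r : Γ(X, V)) (t : Γ(N.restrict f, V)) :
    r • t = ((f.appIso V).inv r • (show Γ(N, f ''ᵁ V) from t) : Γ(N, f ''ᵁ V)) := rfl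

theorem nonempty_iso_of_sections
    (Ψ : ∀ V : X.Opens, Γ(N, f ''ᵁ V) → Γ(M, V))
    (hadd : ∀ V a b, Ψ V (a + b) = Ψ V a + Ψ V b)
    (hsmul : ∀ (V : X.Opens) (r : Γ(X, V)) (t : Γ(N, f ''ᵁ V)),
      Ψ V ((f.appIso V).inv r • t) = r • Ψ V t)
    (hbij : ∀ V, Function.Bijective (Ψ V))
    (hnat : ∀ (V V' : X.Opens) (i : V' ⟶ V) (t : Γ(N, f ''ᵁ V)),
      M.presheaf.map i.op (Ψ V t) = Ψ V' (N.presheaf.map ((f.opensFunctor.map i).op) t)) :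
    Nonempty (N.restrict f ≅ M) := by
  let L : ∀ V : X.Opens, Γ(N.restrict f, V) →ₗ[Γ(X, V)] Γ(M, V) := fun V =>
    { toFun := fun t => Ψ V t
      map_add' := fun a b => hadd V a b
      map_smul' := fun r t => hsmul V r t }
  refine ⟨(SheafOfModules.fullyFaithfulForget _).preimageIso <|
    PresheafOfModules.isoMk (fun V ↦ ?_) ?_⟩
  · exact LinearEquiv.toModuleIso (LinearEquiv.ofBijective (L V.unop) (hbij V.unop))
  · intro V W i
    ext t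
    exact (hnat V.unop W.unop i.unop t).symm

end abstract

section tw

open Groth.Agent.Lib.Helper14.VerA Groth.Agent.Lib.Helper14.VerB Groth.Agent.Lib.Helper14.VerC
  Groth.Agent.Lib.Helper14.VerD Groth.Agent.Lib.Helper14.VerE Groth.Agent.Lib.Helper14.VerF

variable {R A : Type u} [CommRing R] [CommRing A] [Algebra R A] {𝒜 : ℕ → Submodule R A} [GradedAlgebra 𝒜]
  {B : Type u} [CommRing B] [Algebra R B] {ℬ : ℕ → Submodule R B} [GradedAlgebra ℬ]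
  (d : ℕ) (hd : 0 < d) {φ : B →ₐ[R] A} (hφ : Function.Injective φ)
  (hdeg : ∀ n : ℕ, Submodule.map φ.toLinearMap (ℬ n) = 𝒜 (n * d))
  (e : Proj 𝒜 ≅ Proj ℬ)
  (hc : ∀ x : Proj 𝒜, Compat 𝒜 ℬ φ x (e.hom x))

theorem mem_image {V : (Proj 𝒜).Opens} {x : Proj 𝒜} (hx : x ∈ V) : e.hom x ∈ e.hom ''ᵁ V :=
  ⟨x, hx, rfl⟩

theorem smul_sect_val (m : ℤ) (W : TopologicalSpace.Opens (ProjectiveSpectrum.top 𝒜))
    (r : Twist.O (𝒜 := 𝒜) (op W))
    (s : Twist.sectN (𝒜 := 𝒜) m (op W)) (x : W) :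
    (((r • s).1 x : Twist.twistAt 𝒜 m x.1) : Twist.Loc 𝒜 x.1) =
      (r.1 x).val * ((s.1 x : Twist.twistAt 𝒜 m x.1) : Twist.Loc 𝒜 x.1) := by
  rw [Submodule.coe_smul, Twist.smul_apply, Twist.coe_smul_val]

include hdeg hc in
theorem psi_pred (n : ℤ) (V : (Proj 𝒜).Opens)
    (t : Twist.sectN (𝒜 := ℬ) n (op (e.hom ''ᵁ V))) :
    (Twist.isLocFracN 𝒜 (n * d)).pred (fun x : V =>
      (⟨locMap (hc x.1) (t.1 ⟨e.hom x.1, mem_image e x.2⟩).1,
        locMap_mem d hdeg (hc x.1) n (t.1 ⟨e.hom x.1, mem_image e x.2⟩).2⟩ :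
        Twist.twistAt 𝒜 (n * d) x.1)) := by
  intro x
  obtain ⟨V', hyV', i, i', j', b, s, hs, hd1, hfrac⟩ := t.2 ⟨e.hom x.1, mem_image e x.2⟩
  refine ⟨V ⊓ e.hom ⁻¹ᵁ V', ⟨x.2, hyV'⟩, homOfLE inf_le_left, i' * d, j' * d,
    ⟨φ b.1, phi_mem 𝒜 ℬ d φ hdeg b.2⟩, ⟨φ s.1, phi_mem 𝒜 ℬ d φ hdeg s.2⟩,
    fun z => (hc z.1).le_comap (hs ⟨e.hom z.1, z.2.2⟩), ?_, fun z => ?_⟩
  · rcases hd1 with hd1 | hb
    · left
      push_cast
      rw [hd1]
      ring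
    · right
      change φ b.1 = 0
      rw [hb, map_zero]
  · have h1 := hfrac ⟨e.hom z.1, z.2.2⟩
    change locMap (hc z.1) (t.1 ⟨e.hom z.1, _⟩).1 = _
    have h2 : (t.1 ⟨e.hom z.1, mem_image e z.2.1⟩).1 =
        Localization.mk b.1 ⟨s.1, hs ⟨e.hom z.1, z.2.2⟩⟩ := h1
    rw [h2, locMap_mk]

noncomputable def psi (n : ℤ) (V : (Proj 𝒜).Opens)
    (t : Twist.sectN (𝒜 := ℬ) n (op (e.hom ''ᵁ V))) : Twist.sectN (𝒜 := 𝒜) (n * d) (op V) :=
  ⟨fun x : V => ⟨locMap (hc x.1) (t.1 ⟨e.hom x.1, mem_image e x.2⟩).1,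
      locMap_mem d hdeg (hc x.1) n (t.1 ⟨e.hom x.1, mem_image e x.2⟩).2⟩,
    psi_pred d hdeg e hc n V t⟩

theorem psi_val (n : ℤ) (V : (Proj 𝒜).Opens)
    (t : Twist.sectN (𝒜 := ℬ) n (op (e.hom ''ᵁ V))) (x : Proj 𝒜) (hx : x ∈ V) :
    ((psi d hdeg e hc n V t).1 ⟨x, hx⟩).1 = locMap (hc x) (t.1 ⟨e.hom x, mem_image e hx⟩).1 := rfl

theorem sect_ext' {m : ℤ} {W : TopologicalSpace.Opens (ProjectiveSpectrum.top 𝒜)}
    (s s' : Twist.sectN (𝒜 := 𝒜) m (op W))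
    (hss : ∀ (x : ProjectiveSpectrum 𝒜) (hx : x ∈ W), (s.1 ⟨x, hx⟩).1 = (s'.1 ⟨x, hx⟩).1) : s = s' := by
  apply Subtype.ext
  funext x
  apply Subtype.ext
  exact hss x.1 x.2

theorem psi_add (n : ℤ) (V : (Proj 𝒜).Opens)
    (a b : Twist.sectN (𝒜 := ℬ) n (op (e.hom ''ᵁ V))) :
    psi d hdeg e hc n V (a + b) = psi d hdeg e hc n V a + psi d hdeg e hc n V b := by
  apply sect_ext'
  intro x hx
  rw [psi_val]
  change _ = ((psi d hdeg e hc n V a).1 ⟨x, hx⟩).1 + ((psi d hdeg e hc n V b).1 ⟨x, hx⟩).1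
  rw [psi_val, psi_val, ← map_add]
  rfl

include hφ hd in
theorem psi_injective (n : ℤ) (V : (Proj 𝒜).Opens) :
    Function.Injective (psi d hdeg e hc n V) := by
  intro a b hab
  apply sect_ext'
  rintro y ⟨x, hx, rfl⟩
  have h1 := congrArg (fun s : Twist.sectN (𝒜 := 𝒜) (n * d) (op V) => (s.1 ⟨x, hx⟩).1) hab
  simp only [psi_val] at h1
  have h2 : locMap (hc x) ((a.1 ⟨e.hom x, mem_image e hx⟩).1 - (b.1 ⟨e.hom x, mem_image e hx⟩).1) = 0 := by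
    rw [map_sub, h1, sub_self]
  have h3 := locMap_eq_zero d hd hφ hdeg (hc x) n
    (Submodule.sub_mem _ (a.1 ⟨e.hom x, mem_image e hx⟩).2 (b.1 ⟨e.hom x, mem_image e hx⟩).2) h2
  exact sub_eq_zero.mp h3

include hd hdeg in
theorem exists_frac (n : ℤ) {i j : ℕ} (a : 𝒜 i) (f : 𝒜 j) (hd1 : (i : ℤ) = j + n * d) :
    ∃ (k : ℕ) (b : ℬ k) (c : ℬ j), (k : ℤ) = j + n ∧ φ c.1 = f.1 ^ d ∧
      φ b.1 * f.1 = a.1 * f.1 ^ d := by
  obtain ⟨d', rfl⟩ := Nat.exists_eq_succ_of_ne_zero hd.ne'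
  have hjn : 0 ≤ (j : ℤ) + n := by
    by_contra hneg
    push Not at hneg
    have : ((j : ℤ) + n) * ((d' : ℤ) + 1) < 0 :=
      mul_neg_of_neg_of_pos hneg (by positivity)
    have hi0 : (0 : ℤ) ≤ i := Int.natCast_nonneg i
    push_cast at hd1
    nlinarith
  obtain ⟨k, hk⟩ := Int.eq_ofNat_of_zero_le hjn
  have h1 : a.1 * f.1 ^ d' ∈ 𝒜 (k * (d' + 1)) := by
    have h2 := SetLike.mul_mem_graded a.2 (SetLike.pow_mem_graded d' f.2)
    have h3 : i + d' • j = k * (d' + 1) := by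
      have : ((i + d' • j : ℕ) : ℤ) = ((k * (d' + 1) : ℕ) : ℤ) := by
        rw [smul_eq_mul]
        push_cast
        push_cast at hd1
        rw [hd1, ← hk]
        ring
      exact_mod_cast this
    rwa [h3] at h2
  have h4 : f.1 ^ (d' + 1) ∈ 𝒜 (j * (d' + 1)) := by
    have := SetLike.pow_mem_graded (d' + 1) f.2
    rwa [smul_eq_mul, mul_comm] at this
  obtain ⟨b, hb, hba⟩ := exists_preimage 𝒜 ℬ (d' + 1) φ hdeg h1
  obtain ⟨c, hc', hcs⟩ := exists_preimage 𝒜 ℬ (d' + 1) φ hdeg h4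
  refine ⟨k, ⟨b, hb⟩, ⟨c, hc'⟩, hk.symm, hcs, ?_⟩
  change φ b * f.1 = _
  rw [hba, pow_succ, mul_assoc]

include hφ hd in
theorem psi_surjective (n : ℤ) (V : (Proj 𝒜).Opens) :
    Function.Surjective (psi d hdeg e hc n V) := by
  intro s
  have hinj : Function.Injective e.hom := e.hom.isOpenEmbedding.injective
  have hex : ∀ y : (e.hom ''ᵁ V : (Proj ℬ).Opens), ∃ q : Twist.twistAt ℬ n y.1,
      ∀ (x : Proj 𝒜) (hx : x ∈ V) (hxy : e.hom x = y.1),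
        locMap (hxy ▸ hc x : Compat 𝒜 ℬ φ x y.1) q.1 = (s.1 ⟨x, hx⟩).1 := by
    rintro ⟨y, x₀, hx₀, rfl⟩
    obtain ⟨q, hq, hq'⟩ := locMap_surj d hd hdeg (hc x₀) n (s.1 ⟨x₀, hx₀⟩).2
    refine ⟨⟨q, hq⟩, fun x hx hxy => ?_⟩
    have hxx : x = x₀ := hinj hxy
    subst hxx
    exact hq'
  choose q hq using hex
  have hpred : (Twist.isLocFracN ℬ n).pred (fun y : (e.hom ''ᵁ V : (Proj ℬ).Opens) => q y) := by
    rintro ⟨y, x₀, hx₀, rfl⟩
    obtain ⟨V', hxV', i, i', j', a, f, hf, hd1, hfrac⟩ := s.2 ⟨x₀, hx₀⟩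
    have hV'V : V' ≤ V := i.le
    have himg : e.hom ''ᵁ V' ≤ e.hom ''ᵁ V := by
      rintro _ ⟨x, hx, rfl⟩
      exact ⟨x, hV'V hx, rfl⟩
    rcases hd1 with hd1 | ha
    · obtain ⟨k, b, c, hk, hc1, hb1⟩ := exists_frac d hd hdeg n a f hd1
      have hcy : ∀ z : (e.hom ''ᵁ V' : (Proj ℬ).Opens), c.1 ∉ z.1.asHomogeneousIdeal := by
        rintro ⟨_, x, hx, rfl⟩
        intro hmem
        have h7 := (hc x c.1).mp hmem
        rw [hc1] at h7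
        exact hf ⟨x, hx⟩ (x.isPrime.mem_of_pow_mem _ h7)
      refine ⟨e.hom ''ᵁ V', ⟨x₀, hxV', rfl⟩, homOfLE himg, k, j', b, c, hcy, Or.inl hk, ?_⟩
      rintro ⟨_, x, hx, rfl⟩
      have h1 := hq ⟨e.hom x, mem_image e (hV'V hx)⟩ x (hV'V hx) rfl
      have h2 : (s.1 ⟨x, hV'V hx⟩).1 = Localization.mk a.1 ⟨f.1, hf ⟨x, hx⟩⟩ := hfrac ⟨x, hx⟩
      have h3 : locMap (hc x) (Localization.mk b.1 ⟨c.1, hcy ⟨e.hom x, mem_image e hx⟩⟩) =
          Localization.mk a.1 ⟨f.1, hf ⟨x, hx⟩⟩ := by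
        rw [locMap_mk, Localization.mk_eq_mk_iff, Localization.r_iff_exists]
        refine ⟨1, ?_⟩
        simp only [OneMemClass.coe_one, one_mul, hc1]
        rw [mul_comm, hb1, mul_comm]
      have h4 : locMap (hc x) ((q ⟨e.hom x, mem_image e (hV'V hx)⟩).1 -
          Localization.mk b.1 ⟨c.1, hcy ⟨e.hom x, mem_image e hx⟩⟩) = 0 := by
        rw [map_sub, h3, ← h2, ← h1, sub_self]
      have h5 := locMap_eq_zero d hd hφ hdeg (hc x) n (Submodule.sub_mem _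
        (q ⟨e.hom x, mem_image e (hV'V hx)⟩).2
        (Submodule.subset_span ⟨k, j', b, c, hcy ⟨e.hom x, mem_image e hx⟩, hk, rfl⟩)) h4
      exact sub_eq_zero.mp h5
    · refine ⟨e.hom ''ᵁ V', ⟨x₀, hxV', rfl⟩, homOfLE himg, 0, 0, 0,
        ⟨1, SetLike.GradedOne.one_mem⟩, fun z => one_notMem z.1, Or.inr rfl, ?_⟩
      rintro ⟨_, x, hx, rfl⟩
      have h1 := hq ⟨e.hom x, mem_image e (hV'V hx)⟩ x (hV'V hx) rfl
      have h2 : (s.1 ⟨x, hV'V hx⟩).1 = Localization.mk a.1 ⟨f.1, hf ⟨x, hx⟩⟩ := hfrac ⟨x, hx⟩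
      rw [h2, ha, Localization.mk_zero] at h1
      have h5 := locMap_eq_zero d hd hφ hdeg (hc x) n (q ⟨e.hom x, mem_image e (hV'V hx)⟩).2 h1
      change (q ⟨e.hom x, _⟩).1 = Localization.mk 0 _
      rw [Localization.mk_zero]
      exact h5
  refine ⟨⟨fun y => q y, hpred⟩, ?_⟩
  apply sect_ext'
  intro x hx
  rw [psi_val]
  exact hq ⟨e.hom x, mem_image e hx⟩ x hx rfl

theorem psi_smul (n : ℤ) (V : (Proj 𝒜).Opens)
    (r' : Twist.O (𝒜 := ℬ) (op (e.hom ''ᵁ V))) (t : Twist.sectN (𝒜 := ℬ) n (op (e.hom ''ᵁ V)))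
    (r : Twist.O (𝒜 := 𝒜) (op V))
    (hrr : ∀ (x : Proj 𝒜) (hx : x ∈ V),
      (r.1 ⟨x, hx⟩).val = locMap (hc x) (r'.1 ⟨e.hom x, mem_image e hx⟩).val) :
    psi d hdeg e hc n V (r' • t) = r • psi d hdeg e hc n V t := by
  apply sect_ext'
  intro x hx
  rw [psi_val, smul_sect_val, smul_sect_val, map_mul, hrr x hx]
  rfl

end tw

section main

open Groth.Agent.Lib.Helper14.VerA Groth.Agent.Lib.Helper14.VerB Groth.Agent.Lib.Helper14.VerC
  Groth.Agent.Lib.Helper14.VerD Groth.Agent.Lib.Helper14.VerE Groth.Agent.Lib.Helper14.VerF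

theorem nonempty_twist_iso {R A : Type u} [CommRing R] [CommRing A] [Algebra R A] (𝒜 : ℕ → Submodule R A) [GradedAlgebra 𝒜]
    {B : Type u} [CommRing B] [Algebra R B] (ℬ : ℕ → Submodule R B) [GradedAlgebra ℬ]
    (d : ℕ) (hd : 0 < d) (φ : B →ₐ[R] A) (hφ : Function.Injective φ)
    (hdeg : ∀ n : ℕ, Submodule.map φ.toLinearMap (ℬ n) = 𝒜 (n * d))
    (e : Proj 𝒜 ≅ Proj ℬ)
    (he : ∀ (n : ℕ) (g : B) (hn : 0 < n) (hg : g ∈ ℬ n)
        (θ : CommRingCat.of (HomogeneousLocalization.Away ℬ g) ⟶ CommRingCat.of (HomogeneousLocalization.Away 𝒜 (φ g))),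
        (algebraMap (HomogeneousLocalization.Away 𝒜 (φ g)) (Localization.Away (φ g))).comp θ.hom =
          (Localization.awayMap φ.toRingHom g).comp
            (algebraMap (HomogeneousLocalization.Away ℬ g) (Localization.Away g)) →
        Proj.awayι 𝒜 (φ g) ((hdeg n).le (Submodule.mem_map_of_mem hg)) (Nat.mul_pos hn hd) ≫ e.hom =
          Spec.map θ ≫ Proj.awayι ℬ g hg hn)
    (n : ℤ) :
    Nonempty (Twist.twist 𝒜 (n * d) ≅ (Scheme.Modules.pullback e.hom).obj (Twist.twist ℬ n)) := by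
  have hc : ∀ x : Proj 𝒜, Compat 𝒜 ℬ φ x (e.hom x) := compat_hom d hd hφ hdeg e he
  obtain ⟨iso1⟩ := nonempty_iso_of_sections e.hom (Twist.twist 𝒜 (n * d)) (Twist.twist ℬ n)
    (fun V t => psi d hdeg e hc n V t)
    (fun V a b => psi_add d hdeg e hc n V a b)
    (fun V r t => by
      refine psi_smul d hdeg e hc n V _ t r ?_
      intro x hx
      have h1 := appLE_ev d hd hφ hdeg e he (e.hom ''ᵁ V) V (e.hom.preimage_image_eq V).ge
        ((e.hom.appIso V).inv r) x hx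
      rw [← Scheme.Hom.appIso_hom', Iso.inv_hom_id_apply] at h1
      exact h1)
    (fun V => ⟨psi_injective d hd hφ hdeg e hc n V, psi_surjective d hd hφ hdeg e hc n V⟩)
    (fun V V' i t => rfl)
  exact ⟨iso1.symm ≪≫ (Scheme.Modules.restrictFunctorIsoPullback e.hom).app _⟩

end main

end Groth.Agent.Lib.Helper14.VerG
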