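import Mathlib
import Groth.Prelude.Def_GrMod2
import Groth.Agent.Lib.Helper14.VerG

set_option linter.unusedSectionVars false

universe u
open CategoryTheory AlgebraicGeometry HomogeneousLocalization Opposite

namespace Groth.Agent.Lib.Helper14.VerH

open Groth.Agent.Lib.Helper14.VerA Groth.Agent.Lib.Helper14.VerB Groth.Agent.Lib.Helper14.VerC
  Groth.Agent.Lib.Helper14.VerD Groth.Agent.Lib.Helper14.VerE Groth.Agent.Lib.Helper14.VerF

section

variable {R A : Type u} [CommRing R] [CommRing A] [Algebra R A] {𝒜 : ℕ → Submodule R A} [GradedAlgebra 𝒜]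
  {B : Type u} [CommRing B] [Algebra R B] {ℬ : ℕ → Submodule R B} [GradedAlgebra ℬ]
  {φ : B →ₐ[R] A}
  {M : Type u} [AddCommGroup M] [Module R M] [Module A M]
  {N : Type u} [AddCommGroup N] [Module R N] [Module B N]
  (v : N →ₛₗ[φ.toRingHom] M)
  {x : ProjectiveSpectrum 𝒜} {y : ProjectiveSpectrum ℬ} (h : Compat 𝒜 ℬ φ x y)

theorem v_smul (b : B) (m : N) : v (b • m) = φ b • v m := map_smulₛₗ v b m

noncomputable def locModFun (q : GrTilde.LocMod ℬ (M := N) y) : GrTilde.LocMod 𝒜 (M := M) x :=
  LocalizedModule.liftOn q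
    (fun p => LocalizedModule.mk (v p.1) ⟨φ p.2.1, h.le_comap p.2.2⟩)
    (by
      rintro ⟨m₁, s₁⟩ ⟨m₂, s₂⟩ ⟨u, hu⟩
      refine LocalizedModule.mk_eq.mpr ⟨⟨φ u.1, h.le_comap u.2⟩, ?_⟩
      have h1 := congrArg v hu
      simp only [Submonoid.smul_def, v_smul] at h1
      exact h1)

theorem locModFun_mk (m : N) (s : y.asHomogeneousIdeal.toIdeal.primeCompl) :
    locModFun v h (LocalizedModule.mk m s) = LocalizedModule.mk (v m) ⟨φ s.1, h.le_comap s.2⟩ :=
  rfl

theorem locModFun_add (q q' : GrTilde.LocMod ℬ (M := N) y) :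
    locModFun v h (q + q') = locModFun v h q + locModFun v h q' := by
  induction q, q' using LocalizedModule.induction_on₂ with
  | h m m' s s' =>
    rw [LocalizedModule.mk_add_mk, locModFun_mk, locModFun_mk, locModFun_mk,
      LocalizedModule.mk_add_mk]
    congr 1
    · simp only [Submonoid.smul_def, map_add, v_smul]
    · ext
      simp

theorem locModFun_zero : locModFun v h (0 : GrTilde.LocMod ℬ (M := N) y) = 0 := by
  rw [← LocalizedModule.zero_mk (1 : y.asHomogeneousIdeal.toIdeal.primeCompl), locModFun_mk,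
    map_zero, LocalizedModule.zero_mk]

noncomputable def locModMap : GrTilde.LocMod ℬ (M := N) y →+ GrTilde.LocMod 𝒜 (M := M) x where
  toFun := locModFun v h
  map_zero' := locModFun_zero v h
  map_add' := locModFun_add v h

theorem locModMap_mk (m : N) (s : y.asHomogeneousIdeal.toIdeal.primeCompl) :
    locModMap v h (LocalizedModule.mk m s) = LocalizedModule.mk (v m) ⟨φ s.1, h.le_comap s.2⟩ :=
  rfl

theorem locModMap_smul (c : Twist.Loc ℬ y) (q : GrTilde.LocMod ℬ (M := N) y) :
    locModMap v h (c • q) = locMap h c • locModMap v h q := by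
  induction c using Localization.induction_on with
  | H p =>
    obtain ⟨r, s⟩ := p
    induction q using LocalizedModule.induction_on with
    | h m t =>
      rw [LocalizedModule.mk_smul_mk, locModMap_mk, locModMap_mk, locMap_mk,
        LocalizedModule.mk_smul_mk, v_smul]
      congr 1
      ext
      simp

end

end Groth.Agent.Lib.Helper14.VerH
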