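import Mathlib
import Groth.Prelude.Def_GrMod2
import Groth.Agent.Lib.Helper14.VerH

set_option linter.unusedSectionVars false

universe u
open CategoryTheory AlgebraicGeometry HomogeneousLocalization Opposite

namespace Groth.Agent.Lib.Helper14.VerI

open Groth.Agent.Lib.Helper14.VerA Groth.Agent.Lib.Helper14.VerB Groth.Agent.Lib.Helper14.VerC
  Groth.Agent.Lib.Helper14.VerD Groth.Agent.Lib.Helper14.VerE Groth.Agent.Lib.Helper14.VerF
  Groth.Agent.Lib.Helper14.VerG Groth.Agent.Lib.Helper14.VerH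

section

variable {R A : Type u} [CommRing R] [CommRing A] [Algebra R A] {𝒜 : ℕ → Submodule R A} [GradedAlgebra 𝒜]
  {M : Type u} [AddCommGroup M] [Module R M] [Module A M] (ℳ : ℕ → Submodule R M)
  [SetLike.GradedSMul 𝒜 ℳ]

theorem mk_eq_zero_iff {x : ProjectiveSpectrum 𝒜} (m : M)
    (s : x.asHomogeneousIdeal.toIdeal.primeCompl) :
    (LocalizedModule.mk m s : GrTilde.LocMod 𝒜 (M := M) x) = 0 ↔
      ∃ u : A, u ∉ x.asHomogeneousIdeal ∧ u • m = 0 := by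
  rw [← LocalizedModule.zero_mk s, LocalizedModule.mk_eq]
  constructor
  · rintro ⟨u, hu⟩
    refine ⟨u.1 * s.1, fun hmem => (x.isPrime.mem_or_mem hmem).elim u.2 s.2, ?_⟩
    simp only [smul_zero, Submonoid.smul_def] at hu
    rw [mul_smul]
    exact hu
  · rintro ⟨u, hu, hum⟩
    refine ⟨⟨u, hu⟩, ?_⟩
    simp only [smul_zero, Submonoid.smul_def]
    rw [smul_comm, hum, smul_zero]

theorem mem_tildeAt_iff (n : ℤ) (x : ProjectiveSpectrum 𝒜) (q : GrTilde.LocMod 𝒜 (M := M) x) :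
    q ∈ GrTilde.tildeAt 𝒜 ℳ n x ↔ ∃ (i j : ℕ) (m : ℳ i) (s : 𝒜 j) (hs : s.1 ∉ x.asHomogeneousIdeal),
      ((i : ℤ) = j + n ∨ m.1 = 0) ∧ q = LocalizedModule.mk m.1 ⟨s.1, hs⟩ := by
  constructor
  · intro hq
    induction hq using Submodule.span_induction with
    | mem q hq =>
      obtain ⟨i, j, a, s, hs, hdeg, rfl⟩ := hq
      exact ⟨i, j, a, s, hs, Or.inl hdeg, rfl⟩
    | zero =>
      exact ⟨0, 0, 0, ⟨1, SetLike.GradedOne.one_mem⟩, one_notMem x, Or.inr rfl, by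
        simp⟩
    | add q₁ q₂ _ _ h₁ h₂ =>
      obtain ⟨i, j, a, s, hs, hd1, rfl⟩ := h₁
      obtain ⟨i', j', a', s', hs', hd2, rfl⟩ := h₂
      rcases hd1 with hd1 | ha
      · rcases hd2 with hd2 | ha'
        · have e : j + i' = j' + i := by omega
          refine ⟨j' + i, j + j', ⟨s'.1 • a.1 + s.1 • a'.1, add_mem ?_ ?_⟩,
            ⟨s.1 * s'.1, SetLike.mul_mem_graded s.2 s'.2⟩,
            fun hmem => (x.isPrime.mem_or_mem hmem).elim hs hs', Or.inl (by push_cast; omega), ?_⟩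
          · exact SetLike.GradedSMul.smul_mem s'.2 a.2
          · exact e ▸ SetLike.GradedSMul.smul_mem s.2 a'.2
          · rw [LocalizedModule.mk_add_mk]
            rfl
        · refine ⟨i, j, a, s, hs, Or.inl hd1, ?_⟩
          rw [ha', LocalizedModule.zero_mk, add_zero]
      · refine ⟨i', j', a', s', hs', hd2, ?_⟩
        rw [ha, LocalizedModule.zero_mk, zero_add]
    | smul c q _ hq =>
      obtain ⟨i, j, a, s, hs, hd1, rfl⟩ := hq
      obtain ⟨⟨k, r, t, ht⟩, rfl⟩ := HomogeneousLocalization.mk_surjective c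
      refine ⟨k + i, k + j, ⟨r.1 • a.1, SetLike.GradedSMul.smul_mem r.2 a.2⟩,
        ⟨t.1 * s.1, SetLike.mul_mem_graded t.2 s.2⟩,
        fun hmem => (x.isPrime.mem_or_mem hmem).elim ht hs, ?_, ?_⟩
      · rcases hd1 with hd1 | ha
        · exact Or.inl (by push_cast; omega)
        · exact Or.inr (show r.1 • a.1 = 0 by rw [ha, smul_zero])
      · rw [GrTilde.a0_smul_def, HomogeneousLocalization.val_mk, LocalizedModule.mk_smul_mk]
        rfl
  · rintro ⟨i, j, a, s, hs, hd1 | ha, rfl⟩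
    · exact Submodule.subset_span ⟨i, j, a, s, hs, hd1, rfl⟩
    · rw [ha, LocalizedModule.zero_mk]
      exact zero_mem _

end

section

variable {R A : Type u} [CommRing R] [CommRing A] [Algebra R A] {𝒜 : ℕ → Submodule R A} [GradedAlgebra 𝒜]
  {B : Type u} [CommRing B] [Algebra R B] {ℬ : ℕ → Submodule R B} [GradedAlgebra ℬ]
  (d : ℕ) (hd : 0 < d) {φ : B →ₐ[R] A} (hφ : Function.Injective φ)
  (hdeg : ∀ n : ℕ, Submodule.map φ.toLinearMap (ℬ n) = 𝒜 (n * d))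
  {M : Type u} [AddCommGroup M] [Module R M] [Module A M] [IsScalarTower R A M] (ℳ : ℕ → Submodule R M)
  [DirectSum.Decomposition ℳ] [SetLike.GradedSMul 𝒜 ℳ]
  {N : Type u} [AddCommGroup N] [Module R N] [Module B N] [IsScalarTower R B N] (𝒩 : ℕ → Submodule R N)
  [DirectSum.Decomposition 𝒩] [SetLike.GradedSMul ℬ 𝒩]
  (v : N →ₛₗ[φ.toRingHom] M) (hv : Function.Injective v)
  (hvdeg : ∀ n : ℕ, (𝒩 n : Set N).image v = (ℳ (n * d) : Set M))
  {x : ProjectiveSpectrum 𝒜} {y : ProjectiveSpectrum ℬ} (h : Compat 𝒜 ℬ φ x y)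

include hvdeg in
theorem v_mem {n : ℕ} {m : N} (hm : m ∈ 𝒩 n) : v m ∈ ℳ (n * d) :=
  (hvdeg n).le ⟨m, hm, rfl⟩

include hvdeg in
theorem exists_v_preimage {n : ℕ} {m : M} (hm : m ∈ ℳ (n * d)) : ∃ m' ∈ 𝒩 n, v m' = m := by
  obtain ⟨m', hm', h1⟩ := (hvdeg n).ge hm
  exact ⟨m', hm', h1⟩

include hdeg hvdeg in
theorem locModMap_mem (n k : ℤ) (hk : k = n * d) {q : GrTilde.LocMod ℬ (M := N) y}
    (hq : q ∈ GrTilde.tildeAt ℬ 𝒩 n y) :
    locModMap v h q ∈ GrTilde.tildeAt 𝒜 ℳ k x := by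
  rw [mem_tildeAt_iff] at hq ⊢
  obtain ⟨i, j, m, s, hs, hd1, rfl⟩ := hq
  refine ⟨i * d, j * d, ⟨v m.1, v_mem d ℳ 𝒩 v hvdeg m.2⟩, ⟨φ s.1, phi_mem 𝒜 ℬ d φ hdeg s.2⟩,
    h.le_comap hs, ?_, locModMap_mk v h _ _⟩
  rcases hd1 with hd1 | hb
  · left
    push_cast
    rw [hd1, hk]
    ring
  · right
    change v m.1 = 0
    rw [hb, map_zero]

theorem smul_homogeneous_eq_zero {u : A} {m : M} {k : ℕ} (hm : m ∈ ℳ k) (hum : u • m = 0) (i₀ : ℕ) :
    (DirectSum.decompose 𝒜 u i₀ : A) • m = 0 := by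
  classical
  have h1 : u • m = ∑ i ∈ (DirectSum.decompose 𝒜 u).support, (DirectSum.decompose 𝒜 u i : A) • m := by
    conv_lhs => rw [← DirectSum.sum_support_decompose 𝒜 u]
    rw [Finset.sum_smul]
  have h2 : ∀ i, (DirectSum.decompose 𝒜 u i : A) • m ∈ ℳ (i + k) := fun i =>
    SetLike.GradedSMul.smul_mem (SetLike.coe_mem (DirectSum.decompose 𝒜 u i)) hm
  have h3 : (DirectSum.decompose ℳ (u • m) (i₀ + k) : M) = (DirectSum.decompose 𝒜 u i₀ : A) • m := by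
    rw [h1, DirectSum.decompose_sum, DFinsupp.finsetSum_apply, AddSubmonoidClass.coe_finsetSum]
    by_cases hi₀ : i₀ ∈ (DirectSum.decompose 𝒜 u).support
    · rw [Finset.sum_eq_single i₀]
      · exact DirectSum.decompose_of_mem_same ℳ (h2 i₀)
      · intro i _ hne
        exact DirectSum.decompose_of_mem_ne ℳ (h2 i) (fun heq => hne (by omega))
      · intro hcon
        exact absurd hi₀ hcon
    · have h5 : (DirectSum.decompose 𝒜 u i₀ : A) = 0 := by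
        have := DFinsupp.notMem_support_iff.mp hi₀
        rw [this]
        rfl
      rw [h5, zero_smul]
      apply Finset.sum_eq_zero
      intro i hi
      exact DirectSum.decompose_of_mem_ne ℳ (h2 i) (fun heq => hi₀ (by
        have : i = i₀ := by omega
        exact this ▸ hi))
  rw [← h3, hum, DirectSum.decompose_zero]
  rfl

include hd hdeg hv hvdeg in
theorem locModMap_eq_zero (n : ℤ) {q : GrTilde.LocMod ℬ (M := N) y}
    (hq : q ∈ GrTilde.tildeAt ℬ 𝒩 n y)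
    (h0 : locModMap v h q = 0) : q = 0 := by
  rw [mem_tildeAt_iff] at hq
  obtain ⟨i, j, m, s, hs, -, rfl⟩ := hq
  rw [locModMap_mk, mk_eq_zero_iff] at h0
  obtain ⟨u, hu, hum⟩ := h0
  obtain ⟨i₀, hi₀⟩ := exists_homogeneous_notMem (x := x) u hu
  have hm' : v m.1 ∈ ℳ (i * d) := v_mem d ℳ 𝒩 v hvdeg m.2
  have h1 : (DirectSum.decompose 𝒜 u i₀ : A) • v m.1 = 0 :=
    smul_homogeneous_eq_zero ℳ hm' hum i₀
  set u₀ : A := (DirectSum.decompose 𝒜 u i₀ : A) with hu₀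
  have hu₀mem : u₀ ^ d ∈ 𝒜 (i₀ * d) := by
    have := SetLike.pow_mem_graded d (SetLike.coe_mem (DirectSum.decompose 𝒜 u i₀))
    rwa [smul_eq_mul, mul_comm] at this
  obtain ⟨w, hw, hwu⟩ := exists_preimage 𝒜 ℬ d φ hdeg hu₀mem
  have hwy : w ∉ y.asHomogeneousIdeal := by
    rw [h w, hwu]
    exact fun hmem => hi₀ (x.isPrime.mem_of_pow_mem d hmem)
  have h2 : v (w • m.1) = 0 := by
    obtain ⟨d', rfl⟩ := Nat.exists_eq_succ_of_ne_zero hd.ne'
    rw [v_smul, hwu, pow_succ, mul_smul, h1, smul_zero]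
  have h3 : w • m.1 = 0 := hv (h2.trans (map_zero v).symm)
  rw [mk_eq_zero_iff]
  exact ⟨w, hwy, h3⟩

include hd hdeg hvdeg in
theorem exists_frac_mod (n : ℤ) {i j : ℕ} (a : ℳ i) (f : 𝒜 j) (hd1 : (i : ℤ) = j + n * d) :
    ∃ (k : ℕ) (b : 𝒩 k) (c : ℬ j), (k : ℤ) = j + n ∧ φ c.1 = f.1 ^ d ∧
      f.1 • v b.1 = f.1 ^ d • a.1 := by
  obtain ⟨d', rfl⟩ := Nat.exists_eq_succ_of_ne_zero hd.ne'
  have hjn : 0 ≤ (j : ℤ) + n := by
    by_contra hneg
    push Not at hneg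
    have : ((j : ℤ) + n) * ((d' : ℤ) + 1) < 0 :=
      mul_neg_of_neg_of_pos hneg (by positivity)
    have hi0 : (0 : ℤ) ≤ i := Int.natCast_nonneg i
    push_cast at hd1
    nlinarith
  obtain ⟨k, hk⟩ := Int.eq_ofNat_of_zero_le hjn
  have h1 : f.1 ^ d' • a.1 ∈ ℳ (k * (d' + 1)) := by
    have h2 := SetLike.GradedSMul.smul_mem (SetLike.pow_mem_graded d' f.2) a.2
    have h3 : d' • j +ᵥ i = k * (d' + 1) := by
      have : ((d' • j + i : ℕ) : ℤ) = ((k * (d' + 1) : ℕ) : ℤ) := by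
        rw [smul_eq_mul]
        push_cast
        push_cast at hd1
        rw [hd1, ← hk]
        ring
      exact_mod_cast this
    rwa [h3] at h2
  have h4 : f.1 ^ (d' + 1) ∈ 𝒜 (j * (d' + 1)) := by
    have := SetLike.pow_mem_graded (d' + 1) f.2
    rwa [smul_eq_mul, mul_comm] at this
  obtain ⟨b, hb, hba⟩ := exists_v_preimage (d' + 1) ℳ 𝒩 v hvdeg h1
  obtain ⟨c, hc', hcs⟩ := exists_preimage 𝒜 ℬ (d' + 1) φ hdeg h4
  refine ⟨k, ⟨b, hb⟩, ⟨c, hc'⟩, hk.symm, hcs, ?_⟩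
  change f.1 • v b = _
  rw [hba, pow_succ, mul_comm, mul_smul]

include hd hdeg hvdeg in
theorem locModMap_surj (n k : ℤ) (hk : k = n * d) {q' : GrTilde.LocMod 𝒜 (M := M) x}
    (hq' : q' ∈ GrTilde.tildeAt 𝒜 ℳ k x) :
    ∃ q ∈ GrTilde.tildeAt ℬ 𝒩 n y, locModMap v h q = q' := by
  rw [mem_tildeAt_iff] at hq'
  obtain ⟨i, j, a, s, hs, hd1 | ha, rfl⟩ := hq'
  · rw [hk] at hd1
    obtain ⟨k', b, c, hk', hc1, hb1⟩ := exists_frac_mod d hd hdeg ℳ 𝒩 v hvdeg n a s hd1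
    have hcy : c.1 ∉ y.asHomogeneousIdeal := by
      rw [h c.1, hc1]
      exact fun hmem => hs (x.isPrime.mem_of_pow_mem _ hmem)
    refine ⟨LocalizedModule.mk b.1 ⟨c.1, hcy⟩, ?_, ?_⟩
    · exact Submodule.subset_span ⟨k', j, b, c, hcy, hk', rfl⟩
    · rw [locModMap_mk, LocalizedModule.mk_eq]
      refine ⟨1, ?_⟩
      simp only [Submonoid.smul_def, one_smul, hc1]
      exact hb1
  · refine ⟨0, zero_mem _, ?_⟩
    rw [map_zero, ha, LocalizedModule.zero_mk]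

end

end Groth.Agent.Lib.Helper14.VerI
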