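import Mathlib
import Groth.Prelude.Def_GrMod2
import Groth.Agent.Lib.Helper14.VerI

set_option linter.unusedSectionVars false

universe u
open CategoryTheory AlgebraicGeometry HomogeneousLocalization Opposite

namespace Groth.Agent.Lib.Helper14.VerJ

open Groth.Agent.Lib.Helper14.VerA Groth.Agent.Lib.Helper14.VerB Groth.Agent.Lib.Helper14.VerC
  Groth.Agent.Lib.Helper14.VerD Groth.Agent.Lib.Helper14.VerE Groth.Agent.Lib.Helper14.VerF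
  Groth.Agent.Lib.Helper14.VerG Groth.Agent.Lib.Helper14.VerH Groth.Agent.Lib.Helper14.VerI

section tw

variable {R A : Type u} [CommRing R] [CommRing A] [Algebra R A] {𝒜 : ℕ → Submodule R A} [GradedAlgebra 𝒜]
  {B : Type u} [CommRing B] [Algebra R B] {ℬ : ℕ → Submodule R B} [GradedAlgebra ℬ]
  (d : ℕ) (hd : 0 < d) {φ : B →ₐ[R] A} (hφ : Function.Injective φ)
  (hdeg : ∀ n : ℕ, Submodule.map φ.toLinearMap (ℬ n) = 𝒜 (n * d))
  (e : Proj 𝒜 ≅ Proj ℬ)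
  (hc : ∀ x : Proj 𝒜, Compat 𝒜 ℬ φ x (e.hom x))
  {M : Type u} [AddCommGroup M] [Module R M] [Module A M] [IsScalarTower R A M] (ℳ : ℕ → Submodule R M)
  [DirectSum.Decomposition ℳ] [SetLike.GradedSMul 𝒜 ℳ]
  {N : Type u} [AddCommGroup N] [Module R N] [Module B N] [IsScalarTower R B N] (𝒩 : ℕ → Submodule R N)
  [DirectSum.Decomposition 𝒩] [SetLike.GradedSMul ℬ 𝒩]
  (v : N →ₛₗ[φ.toRingHom] M) (hv : Function.Injective v)
  (hvdeg : ∀ n : ℕ, (𝒩 n : Set N).image v = (ℳ (n * d) : Set M))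

theorem smul_tsect_val (m : ℤ) (W : TopologicalSpace.Opens (ProjectiveSpectrum.top 𝒜))
    (r : Twist.O (𝒜 := 𝒜) (op W))
    (s : GrTilde.sect 𝒜 ℳ m (op W)) (x : W) :
    (((r • s).1 x : GrTilde.tildeAt 𝒜 ℳ m x.1) : GrTilde.LocMod 𝒜 (M := M) x.1) =
      (r.1 x).val • ((s.1 x : GrTilde.tildeAt 𝒜 ℳ m x.1) : GrTilde.LocMod 𝒜 (M := M) x.1) := by
  rw [Submodule.coe_smul, GrTilde.smul_apply, GrTilde.coe_smul_val]

include hdeg hc hvdeg in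
theorem psiM_pred (n k : ℤ) (hk : k = n * d) (V : (Proj 𝒜).Opens)
    (t : GrTilde.sect ℬ 𝒩 n (op (e.hom ''ᵁ V))) :
    (GrTilde.isLocFrac 𝒜 ℳ k).pred (fun x : V =>
      (⟨locModMap v (hc x.1) (t.1 ⟨e.hom x.1, mem_image e x.2⟩).1,
        locModMap_mem d hdeg ℳ 𝒩 v hvdeg (hc x.1) n k hk (t.1 ⟨e.hom x.1, mem_image e x.2⟩).2⟩ :
        GrTilde.tildeAt 𝒜 ℳ k x.1)) := by
  intro x
  obtain ⟨V', hyV', i, i', j', b, s, hs, hd1, hfrac⟩ := t.2 ⟨e.hom x.1, mem_image e x.2⟩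
  refine ⟨V ⊓ e.hom ⁻¹ᵁ V', ⟨x.2, hyV'⟩, homOfLE inf_le_left, i' * d, j' * d,
    ⟨v b.1, v_mem d ℳ 𝒩 v hvdeg b.2⟩, ⟨φ s.1, phi_mem 𝒜 ℬ d φ hdeg s.2⟩,
    fun z => (hc z.1).le_comap (hs ⟨e.hom z.1, z.2.2⟩), ?_, fun z => ?_⟩
  · rcases hd1 with hd1 | hb
    · left
      push_cast
      rw [hd1, hk]
      ring
    · right
      change v b.1 = 0
      rw [hb, map_zero]
  · have h1 := hfrac ⟨e.hom z.1, z.2.2⟩
    change locModMap v (hc z.1) (t.1 ⟨e.hom z.1, _⟩).1 = _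
    have h2 : (t.1 ⟨e.hom z.1, mem_image e z.2.1⟩).1 =
        LocalizedModule.mk b.1 ⟨s.1, hs ⟨e.hom z.1, z.2.2⟩⟩ := h1
    rw [h2, locModMap_mk]

noncomputable def psiM (n k : ℤ) (hk : k = n * d) (V : (Proj 𝒜).Opens)
    (t : GrTilde.sect ℬ 𝒩 n (op (e.hom ''ᵁ V))) : GrTilde.sect 𝒜 ℳ k (op V) :=
  ⟨fun x : V => ⟨locModMap v (hc x.1) (t.1 ⟨e.hom x.1, mem_image e x.2⟩).1,
      locModMap_mem d hdeg ℳ 𝒩 v hvdeg (hc x.1) n k hk (t.1 ⟨e.hom x.1, mem_image e x.2⟩).2⟩,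
    psiM_pred d hdeg e hc ℳ 𝒩 v hvdeg n k hk V t⟩

theorem psiM_val (n k : ℤ) (hk : k = n * d) (V : (Proj 𝒜).Opens)
    (t : GrTilde.sect ℬ 𝒩 n (op (e.hom ''ᵁ V))) (x : Proj 𝒜) (hx : x ∈ V) :
    ((psiM d hdeg e hc ℳ 𝒩 v hvdeg n k hk V t).1 ⟨x, hx⟩).1 =
      locModMap v (hc x) (t.1 ⟨e.hom x, mem_image e hx⟩).1 := rfl

theorem tsect_ext {m : ℤ} {W : TopologicalSpace.Opens (ProjectiveSpectrum.top 𝒜)}
    (s s' : GrTilde.sect 𝒜 ℳ m (op W))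
    (hss : ∀ (x : ProjectiveSpectrum 𝒜) (hx : x ∈ W), (s.1 ⟨x, hx⟩).1 = (s'.1 ⟨x, hx⟩).1) : s = s' := by
  apply Subtype.ext
  funext x
  apply Subtype.ext
  exact hss x.1 x.2

theorem psiM_add (n k : ℤ) (hk : k = n * d) (V : (Proj 𝒜).Opens)
    (a b : GrTilde.sect ℬ 𝒩 n (op (e.hom ''ᵁ V))) :
    psiM d hdeg e hc ℳ 𝒩 v hvdeg n k hk V (a + b) =
      psiM d hdeg e hc ℳ 𝒩 v hvdeg n k hk V a + psiM d hdeg e hc ℳ 𝒩 v hvdeg n k hk V b := by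
  apply tsect_ext
  intro x hx
  rw [psiM_val]
  change _ = ((psiM d hdeg e hc ℳ 𝒩 v hvdeg n k hk V a).1 ⟨x, hx⟩).1 +
    ((psiM d hdeg e hc ℳ 𝒩 v hvdeg n k hk V b).1 ⟨x, hx⟩).1
  rw [psiM_val, psiM_val, ← map_add]
  rfl

include hv hd in
theorem psiM_injective (n k : ℤ) (hk : k = n * d) (V : (Proj 𝒜).Opens) :
    Function.Injective (psiM d hdeg e hc ℳ 𝒩 v hvdeg n k hk V) := by
  intro a b hab
  apply tsect_ext
  rintro y ⟨x, hx, rfl⟩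
  have h1 := congrArg (fun s : GrTilde.sect 𝒜 ℳ k (op V) => (s.1 ⟨x, hx⟩).1) hab
  simp only [psiM_val] at h1
  have h2 : locModMap v (hc x)
      ((a.1 ⟨e.hom x, mem_image e hx⟩).1 - (b.1 ⟨e.hom x, mem_image e hx⟩).1) = 0 := by
    rw [map_sub, h1, sub_self]
  have h3 := locModMap_eq_zero d hd hdeg ℳ 𝒩 v hv hvdeg (hc x) n
    (Submodule.sub_mem _ (a.1 ⟨e.hom x, mem_image e hx⟩).2 (b.1 ⟨e.hom x, mem_image e hx⟩).2) h2
  exact sub_eq_zero.mp h3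

include hv hd in
theorem psiM_surjective (n k : ℤ) (hk : k = n * d) (V : (Proj 𝒜).Opens) :
    Function.Surjective (psiM d hdeg e hc ℳ 𝒩 v hvdeg n k hk V) := by
  intro s
  have hinj : Function.Injective e.hom := e.hom.isOpenEmbedding.injective
  have hex : ∀ y : (e.hom ''ᵁ V : (Proj ℬ).Opens), ∃ q : GrTilde.tildeAt ℬ 𝒩 n y.1,
      ∀ (x : Proj 𝒜) (hx : x ∈ V) (hxy : e.hom x = y.1),
        locModMap v (hxy ▸ hc x : Compat 𝒜 ℬ φ x y.1) q.1 = (s.1 ⟨x, hx⟩).1 := by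
    rintro ⟨y, x₀, hx₀, rfl⟩
    obtain ⟨q, hq, hq'⟩ := locModMap_surj d hd hdeg ℳ 𝒩 v hvdeg (hc x₀) n k hk (s.1 ⟨x₀, hx₀⟩).2
    refine ⟨⟨q, hq⟩, fun x hx hxy => ?_⟩
    have hxx : x = x₀ := hinj hxy
    subst hxx
    exact hq'
  choose q hq using hex
  have hpred : (GrTilde.isLocFrac ℬ 𝒩 n).pred (fun y : (e.hom ''ᵁ V : (Proj ℬ).Opens) => q y) := by
    rintro ⟨y, x₀, hx₀, rfl⟩
    obtain ⟨V', hxV', i, i', j', a, f, hf, hd1, hfrac⟩ := s.2 ⟨x₀, hx₀⟩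
    have hV'V : V' ≤ V := i.le
    have himg : e.hom ''ᵁ V' ≤ e.hom ''ᵁ V := by
      rintro _ ⟨x, hx, rfl⟩
      exact ⟨x, hV'V hx, rfl⟩
    rcases hd1 with hd1 | ha
    · rw [hk] at hd1
      obtain ⟨k', b, c, hk', hc1, hb1⟩ := exists_frac_mod d hd hdeg ℳ 𝒩 v hvdeg n a f hd1
      have hcy : ∀ z : (e.hom ''ᵁ V' : (Proj ℬ).Opens), c.1 ∉ z.1.asHomogeneousIdeal := by
        rintro ⟨_, x, hx, rfl⟩
        intro hmem
        have h7 := (hc x c.1).mp hmem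
        rw [hc1] at h7
        exact hf ⟨x, hx⟩ (x.isPrime.mem_of_pow_mem _ h7)
      refine ⟨e.hom ''ᵁ V', ⟨x₀, hxV', rfl⟩, homOfLE himg, k', j', b, c, hcy, Or.inl hk', ?_⟩
      rintro ⟨_, x, hx, rfl⟩
      have h1 := hq ⟨e.hom x, mem_image e (hV'V hx)⟩ x (hV'V hx) rfl
      have h2 : (s.1 ⟨x, hV'V hx⟩).1 = LocalizedModule.mk a.1 ⟨f.1, hf ⟨x, hx⟩⟩ := hfrac ⟨x, hx⟩
      have h3 : locModMap v (hc x) (LocalizedModule.mk b.1 ⟨c.1, hcy ⟨e.hom x, mem_image e hx⟩⟩) =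
          LocalizedModule.mk a.1 ⟨f.1, hf ⟨x, hx⟩⟩ := by
        rw [locModMap_mk, LocalizedModule.mk_eq]
        refine ⟨1, ?_⟩
        simp only [Submonoid.smul_def, one_smul, hc1]
        exact hb1
      have h4 : locModMap v (hc x) ((q ⟨e.hom x, mem_image e (hV'V hx)⟩).1 -
          LocalizedModule.mk b.1 ⟨c.1, hcy ⟨e.hom x, mem_image e hx⟩⟩) = 0 := by
        rw [map_sub, h3, ← h2, ← h1, sub_self]
      have h5 := locModMap_eq_zero d hd hdeg ℳ 𝒩 v hv hvdeg (hc x) n (Submodule.sub_mem _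
        (q ⟨e.hom x, mem_image e (hV'V hx)⟩).2
        (Submodule.subset_span ⟨k', j', b, c, hcy ⟨e.hom x, mem_image e hx⟩, hk', rfl⟩)) h4
      exact sub_eq_zero.mp h5
    · refine ⟨e.hom ''ᵁ V', ⟨x₀, hxV', rfl⟩, homOfLE himg, 0, 0, 0,
        ⟨1, SetLike.GradedOne.one_mem⟩, fun z => one_notMem z.1, Or.inr rfl, ?_⟩
      rintro ⟨_, x, hx, rfl⟩
      have h1 := hq ⟨e.hom x, mem_image e (hV'V hx)⟩ x (hV'V hx) rfl
      have h2 : (s.1 ⟨x, hV'V hx⟩).1 = LocalizedModule.mk a.1 ⟨f.1, hf ⟨x, hx⟩⟩ := hfrac ⟨x, hx⟩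
      rw [h2, ha, LocalizedModule.zero_mk] at h1
      have h5 := locModMap_eq_zero d hd hdeg ℳ 𝒩 v hv hvdeg (hc x) n
        (q ⟨e.hom x, mem_image e (hV'V hx)⟩).2 h1
      change (q ⟨e.hom x, _⟩).1 = LocalizedModule.mk 0 _
      rw [LocalizedModule.zero_mk]
      exact h5
  refine ⟨⟨fun y => q y, hpred⟩, ?_⟩
  apply tsect_ext
  intro x hx
  rw [psiM_val]
  exact hq ⟨e.hom x, mem_image e hx⟩ x hx rfl

theorem psiM_smul (n k : ℤ) (hk : k = n * d) (V : (Proj 𝒜).Opens)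
    (r' : Twist.O (𝒜 := ℬ) (op (e.hom ''ᵁ V))) (t : GrTilde.sect ℬ 𝒩 n (op (e.hom ''ᵁ V)))
    (r : Twist.O (𝒜 := 𝒜) (op V))
    (hrr : ∀ (x : Proj 𝒜) (hx : x ∈ V),
      (r.1 ⟨x, hx⟩).val = locMap (hc x) (r'.1 ⟨e.hom x, mem_image e hx⟩).val) :
    psiM d hdeg e hc ℳ 𝒩 v hvdeg n k hk V (r' • t) =
      r • psiM d hdeg e hc ℳ 𝒩 v hvdeg n k hk V t := by
  apply tsect_ext
  intro x hx
  rw [psiM_val, smul_tsect_val, smul_tsect_val, locModMap_smul, hrr x hx]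
  rfl

end tw

section main

theorem nonempty_tilde_iso {R A : Type u} [CommRing R] [CommRing A] [Algebra R A] (𝒜 : ℕ → Submodule R A) [GradedAlgebra 𝒜]
    {B : Type u} [CommRing B] [Algebra R B] (ℬ : ℕ → Submodule R B) [GradedAlgebra ℬ]
    (d : ℕ) (hd : 0 < d) (φ : B →ₐ[R] A) (hφ : Function.Injective φ)
    (hdeg : ∀ n : ℕ, Submodule.map φ.toLinearMap (ℬ n) = 𝒜 (n * d))
    (e : Proj 𝒜 ≅ Proj ℬ)
    (he : ∀ (n : ℕ) (g : B) (hn : 0 < n) (hg : g ∈ ℬ n)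
        (θ : CommRingCat.of (HomogeneousLocalization.Away ℬ g) ⟶ CommRingCat.of (HomogeneousLocalization.Away 𝒜 (φ g))),
        (algebraMap (HomogeneousLocalization.Away 𝒜 (φ g)) (Localization.Away (φ g))).comp θ.hom =
          (Localization.awayMap φ.toRingHom g).comp
            (algebraMap (HomogeneousLocalization.Away ℬ g) (Localization.Away g)) →
        Proj.awayι 𝒜 (φ g) ((hdeg n).le (Submodule.mem_map_of_mem hg)) (Nat.mul_pos hn hd) ≫ e.hom =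
          Spec.map θ ≫ Proj.awayι ℬ g hg hn)
    {M : Type u} [AddCommGroup M] [Module R M] [Module A M] [IsScalarTower R A M] (ℳ : ℕ → Submodule R M)
    [DirectSum.Decomposition ℳ] [SetLike.GradedSMul 𝒜 ℳ]
    {N : Type u} [AddCommGroup N] [Module R N] [Module B N] [IsScalarTower R B N] (𝒩 : ℕ → Submodule R N)
    [DirectSum.Decomposition 𝒩] [SetLike.GradedSMul ℬ 𝒩]
    (v : N →ₛₗ[φ.toRingHom] M) (hv : Function.Injective v)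
    (hvdeg : ∀ n : ℕ, (𝒩 n : Set N).image v = (ℳ (n * d) : Set M))
    (n k : ℤ) (hk : k = n * d) :
    Nonempty (GrTilde.tilde 𝒜 ℳ k ≅ (Scheme.Modules.pullback e.hom).obj (GrTilde.tilde ℬ 𝒩 n)) := by
  have hc : ∀ x : Proj 𝒜, Compat 𝒜 ℬ φ x (e.hom x) := compat_hom d hd hφ hdeg e he
  obtain ⟨iso1⟩ := nonempty_iso_of_sections e.hom (GrTilde.tilde 𝒜 ℳ k) (GrTilde.tilde ℬ 𝒩 n)
    (fun V t => psiM d hdeg e hc ℳ 𝒩 v hvdeg n k hk V t)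
    (fun V a b => psiM_add d hdeg e hc ℳ 𝒩 v hvdeg n k hk V a b)
    (fun V r t => by
      refine psiM_smul d hdeg e hc ℳ 𝒩 v hvdeg n k hk V _ t r ?_
      intro x hx
      have h1 := appLE_ev d hd hφ hdeg e he (e.hom ''ᵁ V) V (e.hom.preimage_image_eq V).ge
        ((e.hom.appIso V).inv r) x hx
      rw [← Scheme.Hom.appIso_hom', Iso.inv_hom_id_apply] at h1
      exact h1)
    (fun V => ⟨psiM_injective d hd hdeg e hc ℳ 𝒩 v hv hvdeg n k hk V,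
      psiM_surjective d hd hdeg e hc ℳ 𝒩 v hv hvdeg n k hk V⟩)
    (fun V V' i t => rfl)
  exact ⟨iso1.symm ≪≫ (Scheme.Modules.restrictFunctorIsoPullback e.hom).app _⟩

end main

end Groth.Agent.Lib.Helper14.VerJ
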