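import Mathlib
import Groth.Prelude.Def_CohB1
import Groth.Prelude.Def_Flat
import Groth.Agent.Lib.Helper5.WidePB
import Groth.Agent.Lib.Helper73.DimFormula.FieldExtScheme
import Groth.Agent.Lib.Helper73.DimFormula.FiberDimAdd
import Groth.Agent.Lib.Helper73.DimFormula.Chevalley

set_option autoImplicit false
universe u
open CategoryTheory CategoryTheory.Limits AlgebraicGeometry

namespace Groth.Agent.Lib.Helper14.WidePBWP2

open Groth.Agent.Lib.Helper5.WidePB

theorem isIso_base_zero {B : Scheme.{u}} (objs : Fin 0 → Scheme.{u}) (arrows : ∀ k, objs k ⟶ B) :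
    IsIso (WidePullback.base arrows) := by
  refine ⟨WidePullback.lift (𝟙 B) (fun k => k.elim0) (fun k => k.elim0), ?_, ?_⟩
  · apply WidePullback.hom_ext
    · intro k
      exact k.elim0
    · rw [Category.assoc, WidePullback.lift_base, Category.comp_id, Category.id_comp]
  · exact WidePullback.lift_base _ _ _ _

theorem fibreDimAt_iso_comp {X X' S : Scheme.{u}} (e : X' ⟶ X) [IsIso e] (φ : X ⟶ S)
    [LocallyOfFiniteType φ] (p : X') :
    FlatMor.fibreDimAt (e ≫ φ) p = FlatMor.fibreDimAt φ (e p) := by
  have sq : IsPullback e (e ≫ φ) φ (𝟙 S) := IsPullback.of_horiz_isIso ⟨by simp⟩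
  exact Groth.Agent.Lib.Helper73.fibreDimAt_eq_of_isPullback φ (𝟙 S) e (e ≫ φ) sq p

theorem fibreDimAt_id_le {B : Scheme.{u}} (y : B) : FlatMor.fibreDimAt (𝟙 B) y ≤ 0 := by
  rw [← Groth.Agent.Lib.Helper73.quasiFiniteAt_iff_fibreDimAt_le_zero]
  exact Scheme.Hom.quasiFiniteAt (𝟙 B) y

theorem isWidePB_widePullback {n : ℕ} {B : Scheme.{u}} (objs : Fin n → Scheme.{u})
    (arrows : ∀ k, objs k ⟶ B) :
    IsWidePB arrows (WidePullback.base arrows) (WidePullback.π arrows) := by
  refine ⟨fun k => WidePullback.π_arrow arrows k, ?_, ?_⟩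
  · intro Z z zk hz
    exact ⟨WidePullback.lift z zk hz, WidePullback.lift_base _ _ _ _,
      fun k => WidePullback.lift_π _ _ _ _ _⟩
  · intro Z l l' h1 h2
    exact WidePullback.hom_ext _ _ _ h2 h1

theorem main : ∀ (n : ℕ) {B : Scheme.{u}} (objs : Fin n → Scheme.{u})
    (arrows : ∀ k, objs k ⟶ B) [∀ k, LocallyOfFiniteType (arrows k)] (d : ℕ)
    (_ : ∀ k (p : objs k), FlatMor.fibreDimAt (arrows k) p ≤ ((d : ℕ) : WithBot ℕ∞)),
    LocallyOfFiniteType (WidePullback.base arrows) ∧
      ∀ p : ↥(widePullback B objs arrows),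
        FlatMor.fibreDimAt (WidePullback.base arrows) p ≤ ((n * d : ℕ) : WithBot ℕ∞) := by
  intro n
  induction n with
  | zero =>
    intro B objs arrows _ d h
    have hiso := isIso_base_zero objs arrows
    refine ⟨inferInstance, fun p => ?_⟩
    have h1 := fibreDimAt_iso_comp (WidePullback.base arrows) (𝟙 B) p
    rw [Category.comp_id] at h1
    rw [h1]
    simpa using fibreDimAt_id_le (WidePullback.base arrows p)
  | succ n ih =>
    intro B objs arrows _ d h
    let objs' : Fin n → Scheme.{u} := fun k => objs k.castSucc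
    let arrows' : ∀ k : Fin n, objs' k ⟶ B := fun k => arrows k.castSucc
    have hlft' : ∀ k, LocallyOfFiniteType (arrows' k) := fun k => inferInstance
    obtain ⟨hb', hdim'⟩ := ih objs' arrows' d (fun k p => h k.castSucc p)
    let b' := WidePullback.base arrows'
    have sq : IsPullback (pullback.fst (arrows (Fin.last n)) b')
        (pullback.snd (arrows (Fin.last n)) b') (arrows (Fin.last n)) b' :=
      IsPullback.of_hasPullback _ _
    have hW := isWidePB_succ arrows b' (WidePullback.π arrows') (isWidePB_widePullback objs' arrows')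
      (pullback.snd (arrows (Fin.last n)) b') (pullback.fst (arrows (Fin.last n)) b') sq
    obtain ⟨e, he, -⟩ := hW.exists_iso
    have hlftp : LocallyOfFiniteType (pullback.snd (arrows (Fin.last n)) b') := inferInstance
    have hlftc : LocallyOfFiniteType (pullback.snd (arrows (Fin.last n)) b' ≫ b') := inferInstance
    have hbase : LocallyOfFiniteType (WidePullback.base arrows) := by
      rw [← he]
      infer_instance
    refine ⟨hbase, fun p => ?_⟩
    have h1 : FlatMor.fibreDimAt (WidePullback.base arrows) p =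
        FlatMor.fibreDimAt (pullback.snd (arrows (Fin.last n)) b' ≫ b') (e.hom p) := by
      rw [← fibreDimAt_iso_comp e.hom (pullback.snd (arrows (Fin.last n)) b' ≫ b') p]
      congr 1
      exact he.symm
    have h2 := Groth.Agent.Lib.Helper73.fibreDimAt_comp_le_add
      (pullback.snd (arrows (Fin.last n)) b') b' (e.hom p)
    have h3 : FlatMor.fibreDimAt (pullback.snd (arrows (Fin.last n)) b') (e.hom p) =
        FlatMor.fibreDimAt (arrows (Fin.last n))
          (pullback.fst (arrows (Fin.last n)) b' (e.hom p)) :=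
      Groth.Agent.Lib.Helper73.fibreDimAt_eq_of_isPullback (arrows (Fin.last n)) b'
        (pullback.fst (arrows (Fin.last n)) b') (pullback.snd (arrows (Fin.last n)) b') sq (e.hom p)
    have h4 := h (Fin.last n) (pullback.fst (arrows (Fin.last n)) b' (e.hom p))
    have h5 := hdim' (pullback.snd (arrows (Fin.last n)) b' (e.hom p))
    rw [h1]
    refine h2.trans ?_
    rw [h3]
    refine (add_le_add h4 h5).trans ?_
    rw [← Nat.cast_add]
    apply le_of_eq
    congr 1
    ring

theorem fibreDimAt_wideBase_le {n : ℕ} {B : Scheme.{u}} (objs : Fin n → Scheme.{u})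
    (arrows : ∀ k, objs k ⟶ B) [∀ k, LocallyOfFiniteType (arrows k)] (d : ℕ)
    (h : ∀ k (p : objs k), FlatMor.fibreDimAt (arrows k) p ≤ ((d : ℕ) : WithBot ℕ∞))
    (p : ↥(widePullback B objs arrows)) :
    FlatMor.fibreDimAt (WidePullback.base arrows) p ≤ ((n * d : ℕ) : WithBot ℕ∞) :=
  (main n objs arrows d h).2 p

end Groth.Agent.Lib.Helper14.WidePBWP2
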