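import Groth.Agent.Lib.Helper14.WittDecomp
import Mathlib.FieldTheory.Finite.Basic
import Mathlib.Data.ZMod.Basic
import Mathlib.LinearAlgebra.Span.Basic

set_option autoImplicit false

namespace Groth.Agent.Lib.Helper14

open WittVector Function

section Arith

theorem exists_pow_totient_eq (p ℓ n : ℕ) (hp : p.Prime) (hℓ : 0 < ℓ) (hpℓ : ¬ p ∣ ℓ) :
    ∃ u v : ℕ, u * p ^ n = 1 + ℓ * v := by
  have hcop : Nat.Coprime (p ^ n) ℓ :=
    Nat.Coprime.pow_left n ((Nat.Prime.coprime_iff_not_dvd hp).2 hpℓ)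
  have h1 := Nat.ModEq.pow_totient hcop
  have hpos : 1 ≤ (p ^ n) ^ Nat.totient ℓ := Nat.one_le_pow _ _ (pow_pos hp.pos n)
  have h2 : ℓ ∣ (p ^ n) ^ Nat.totient ℓ - 1 := (Nat.modEq_iff_dvd' hpos).mp h1.symm
  obtain ⟨v, hv⟩ := h2
  have hφ : 0 < Nat.totient ℓ := Nat.totient_pos.2 hℓ
  refine ⟨(p ^ n) ^ (Nat.totient ℓ - 1), v, ?_⟩
  rw [← pow_succ, Nat.sub_add_cancel hφ]
  omega

end Arith

section Mono

variable {A B : Type*} [CommRing A] [CommRing B] [Algebra A B]

theorem mono_single (ℓ : ℕ) (y : B) (a : A) (hya : algebraMap A B a = y ^ ℓ) (e P : ℕ)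
    (he : e ≤ ℓ) :
    algebraMap A B a ^ P * y ^ ((P * e) % ℓ) =
      algebraMap A B (a ^ (P - P * e / ℓ)) * (y ^ e) ^ P := by
  have hq : P * e / ℓ ≤ P := by
    rcases Nat.eq_zero_or_pos ℓ with h0 | hpos
    · subst h0; simp
    · exact Nat.div_le_of_le_mul (by rw [mul_comm ℓ P]; exact Nat.mul_le_mul_left P he)
  have h1 : (y ^ e) ^ P = algebraMap A B a ^ (P * e / ℓ) * y ^ ((P * e) % ℓ) := by
    rw [← pow_mul, hya, ← pow_mul, ← pow_add, mul_comm e P, Nat.div_add_mod]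
  rw [h1, map_pow, ← mul_assoc, ← pow_add, Nat.sub_add_cancel hq]

variable {J : Type*} [Fintype J] [DecidableEq J] (ℓ : ℕ) [NeZero ℓ] (yv : J → B) (av : J → A)

noncomputable def zmon (k : J → ZMod ℓ) : B := ∏ j, yv j ^ (k j).val

theorem zmon_smul (hya : ∀ j, algebraMap A B (av j) = yv j ^ ℓ) (P : ℕ) (k' : J → ZMod ℓ) :
    algebraMap A B (∏ j, av j) ^ P * zmon ℓ yv (fun j => (P : ZMod ℓ) * k' j) =
      algebraMap A B (∏ j, av j ^ (P - P * (k' j).val / ℓ)) * (zmon ℓ yv k') ^ P := by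
  unfold zmon
  rw [map_prod, map_prod, ← Finset.prod_pow, ← Finset.prod_pow, ← Finset.prod_mul_distrib,
    ← Finset.prod_mul_distrib]
  apply Finset.prod_congr rfl
  intro j _
  have hval : ((P : ZMod ℓ) * k' j).val = (P * (k' j).val) % ℓ := by
    rw [ZMod.val_mul, ZMod.val_natCast, Nat.mod_mul_mod]
  rw [hval]
  exact mono_single ℓ (yv j) (av j) (hya j) (k' j).val P (ZMod.val_lt (k' j)).le

theorem yv_eq_smul_zmon (hya : ∀ j, algebraMap A B (av j) = yv j ^ ℓ) (j : J) :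
    yv j = algebraMap A B (av j ^ (1 / ℓ)) * zmon ℓ yv (Pi.single j 1) := by
  have hz : zmon ℓ yv (Pi.single j 1) = yv j ^ (1 % ℓ) := by
    unfold zmon
    rw [Finset.prod_eq_single j]
    · rw [Pi.single_eq_same, ZMod.val_one_eq_one_mod]
    · intro j' _ hj'
      rw [Pi.single_eq_of_ne hj', ZMod.val_zero, pow_zero]
    · intro h; exact absurd (Finset.mem_univ j) h
  rw [hz, map_pow, hya, ← pow_mul, ← pow_add, Nat.div_add_mod, pow_one]

theorem exists_eq_sum_zmon (hya : ∀ j, algebraMap A B (av j) = yv j ^ ℓ)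
    (hspan : Submodule.span A (Set.range yv) = ⊤) (b : B) :
    ∃ β : (J → ZMod ℓ) → A, b = ∑ k, algebraMap A B (β k) * zmon ℓ yv k := by
  have h1 : Submodule.span A (Set.range (zmon ℓ yv)) = ⊤ := by
    rw [eq_top_iff, ← hspan, Submodule.span_le]
    rintro _ ⟨j, rfl⟩
    rw [yv_eq_smul_zmon ℓ yv av hya j, ← Algebra.smul_def]
    exact Submodule.smul_mem _ _ (Submodule.subset_span ⟨_, rfl⟩)
  have h2 : b ∈ Submodule.span A (Set.range (zmon ℓ yv)) := by rw [h1]; trivial
  rw [← Fintype.range_linearCombination A] at h2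
  obtain ⟨β, hβ⟩ := h2
  refine ⟨β, ?_⟩
  rw [← hβ, Fintype.linearCombination_apply]
  simp [Algebra.smul_def]

theorem exists_decomp_level (hya : ∀ j, algebraMap A B (av j) = yv j ^ ℓ)
    (hspan : Submodule.span A (Set.range yv) = ⊤) (P : ℕ) (hcop : Nat.Coprime P ℓ) (b : B) :
    ∃ c : (J → ZMod ℓ) → B,
      (∀ k, ∃ α : A, algebraMap A B (∏ j, av j) ^ P * c k =
        algebraMap A B α * (zmon ℓ yv k) ^ P) ∧ ∑ k, c k = b := by
  obtain ⟨β, hβ⟩ := exists_eq_sum_zmon ℓ yv av hya hspan b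
  have hunit : IsUnit ((P : ℕ) : ZMod ℓ) := (ZMod.isUnit_iff_coprime P ℓ).2 hcop
  let π : (J → ZMod ℓ) → (J → ZMod ℓ) := fun k' j => (P : ZMod ℓ) * k' j
  have hπinj : Function.Injective π := by
    intro k1 k2 h
    funext j
    have := congrFun h j
    exact hunit.mul_right_injective this
  have hπ : Function.Bijective π := Finite.injective_iff_bijective.mp hπinj
  refine ⟨fun k' => algebraMap A B (β (π k')) * zmon ℓ yv (π k'), ?_, ?_⟩
  · intro k'
    refine ⟨β (π k') * ∏ j, av j ^ (P - P * (k' j).val / ℓ), ?_⟩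
    have := zmon_smul ℓ yv av hya P k'
    rw [map_mul, mul_assoc, ← this]
    ring
  · rw [hβ]
    exact hπ.sum_comp (fun k => algebraMap A B (β k) * zmon ℓ yv k)

omit [DecidableEq J] in
theorem zmon_mul_eq_pow (hya : ∀ j, algebraMap A B (av j) = yv j ^ ℓ) (u v N : ℕ)
    (huv : u * N = 1 + ℓ * v) (k : J → ZMod ℓ) :
    algebraMap A B (∏ j, av j ^ (v * (k j).val)) * zmon ℓ yv k =
      (∏ j, yv j ^ (u * (k j).val)) ^ N := by
  unfold zmon
  rw [map_prod, ← Finset.prod_pow, ← Finset.prod_mul_distrib]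
  apply Finset.prod_congr rfl
  intro j _
  rw [map_pow, hya, ← pow_mul, ← pow_mul, ← pow_add]
  congr 1
  have : u * (k j).val * N = (u * N) * (k j).val := by ring
  rw [this, huv]
  ring

end Mono

section WittPart

variable (p : ℕ) [hp : Fact p.Prime] {A B : Type*} [CommRing A] [CommRing B] [Algebra A B]

local notation "𝕎" => WittVector p

noncomputable def Sgen (n : ℕ) : Set (𝕎 B) :=
  {s | ∃ (x : 𝕎 A) (w : 𝕎 B), s = WittVector.map (algebraMap A B) x * frobenius^[n] w}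

noncomputable def Sset (n : ℕ) : AddSubgroup (𝕎 B) := AddSubgroup.closure (Sgen (A := A) p n)

variable {p}

theorem map_mul_mem_Sset (n : ℕ) (x : 𝕎 A) {s : 𝕎 B} (hs : s ∈ Sset (A := A) p n) :
    WittVector.map (algebraMap A B) x * s ∈ Sset (A := A) p n := by
  unfold Sset at hs ⊢
  induction hs using AddSubgroup.closure_induction with
  | mem s hs =>
    obtain ⟨x', w, rfl⟩ := hs
    apply AddSubgroup.subset_closure
    exact ⟨x * x', w, by rw [map_mul, mul_assoc]⟩
  | zero => rw [mul_zero]; exact AddSubgroup.zero_mem _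
  | add s t _ _ hs ht => rw [mul_add]; exact AddSubgroup.add_mem _ hs ht
  | neg s _ hs => rw [mul_neg]; exact AddSubgroup.neg_mem _ hs

theorem map_iterate_verschiebung (n : ℕ) (x : 𝕎 A) :
    WittVector.map (algebraMap A B) ((verschiebung : 𝕎 A →+ 𝕎 A)^[n] x) =
      (verschiebung : 𝕎 B →+ 𝕎 B)^[n] (WittVector.map (algebraMap A B) x) := by
  induction n with
  | zero => rfl
  | succ n ih => rw [iterate_succ_apply', iterate_succ_apply', map_verschiebung, ih]

theorem iterate_verschiebung_mem_span (n : ℕ) {s : 𝕎 B} (hs : s ∈ Sset (A := A) p n) :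
    (verschiebung : 𝕎 B →+ 𝕎 B)^[n] s ∈ Ideal.span (Set.range (fun x : 𝕎 A =>
      WittVector.map (algebraMap A B) ((verschiebung : 𝕎 A →+ 𝕎 A)^[n] x))) := by
  unfold Sset at hs
  rw [← iterV_apply]
  induction hs using AddSubgroup.closure_induction with
  | mem s hs =>
    obtain ⟨x, w, rfl⟩ := hs
    rw [iterV_apply, ← iterate_verschiebung_mul_left, ← map_iterate_verschiebung]
    exact Ideal.mul_mem_right _ _ (Ideal.subset_span ⟨x, rfl⟩)
  | zero => rw [map_zero]; exact Ideal.zero_mem _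
  | add s t _ _ hs ht => rw [map_add]; exact Ideal.add_mem _ hs ht
  | neg s _ hs => rw [map_neg]; exact (Submodule.neg_mem_iff _).mpr hs

variable [CharP B p]

theorem iterate_frobenius_teichmuller (n : ℕ) (r : B) :
    frobenius^[n] (teichmuller p r) = teichmuller p (r ^ p ^ n) := by
  induction n generalizing r with
  | zero => simp
  | succ n ih => rw [iterate_succ_apply, frobenius_teichmuller, ih, ← pow_mul, pow_succ' p n]

theorem teichmuller_mul_coeff (r : B) (w : 𝕎 B) (i : ℕ) :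
    (teichmuller p r * w).coeff i = r ^ p ^ i * w.coeff i := by
  rw [mul_comm, mul_teichmuller_coeff, mul_comm]

end WittPart

section Main

variable {p : ℕ} [hp : Fact p.Prime] {A B : Type*} [CommRing A] [CommRing B] [Algebra A B]
  [IsDomain A] [IsDomain B] [CharP B p]

local notation "𝕎" => WittVector p

theorem exists_common_mul_mem_Sset (n : ℕ) {K : Type*} (s : Finset K) (w : K → 𝕎 B)
    (h : ∀ k ∈ s, ∃ a : A, a ≠ 0 ∧ teichmuller p (algebraMap A B a) * w k ∈ Sset (A := A) p n) :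
    ∃ a : A, a ≠ 0 ∧ teichmuller p (algebraMap A B a) * ∑ k ∈ s, w k ∈ Sset (A := A) p n := by
  classical
  induction s using Finset.induction with
  | empty => exact ⟨1, one_ne_zero, by simp [AddSubgroup.zero_mem]⟩
  | insert k0 s hk0 ih =>
    obtain ⟨a1, ha1, h1⟩ := h k0 (Finset.mem_insert_self _ _)
    obtain ⟨a2, ha2, h2⟩ := ih (fun k hk => h k (Finset.mem_insert_of_mem hk))
    refine ⟨a2 * a1, mul_ne_zero ha2 ha1, ?_⟩
    rw [Finset.sum_insert hk0, mul_add, map_mul, map_mul]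
    apply AddSubgroup.add_mem
    · rw [mul_assoc, ← map_teichmuller]
      exact map_mul_mem_Sset n _ h1
    · rw [mul_comm (teichmuller p (algebraMap A B a2)), mul_assoc, ← map_teichmuller]
      exact map_mul_mem_Sset n _ h2

theorem exists_teichmuller_mul_mem_Sset (ℓ : ℕ) (hℓ : 0 < ℓ) (hpℓ : ¬ p ∣ ℓ)
    (y : Finset B) (hspan : Submodule.span A (y : Set B) = ⊤)
    (hpow : ∀ b ∈ y, b ^ ℓ ∈ Set.range (algebraMap A B)) (n : ℕ) (η : 𝕎 B) :
    ∃ a : A, a ≠ 0 ∧ teichmuller p (algebraMap A B a) * η ∈ Sset (A := A) p n := by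
  classical
  haveI : NeZero ℓ := ⟨hℓ.ne'⟩
  let y' : Finset B := y.filter (· ≠ 0)
  let J := {b // b ∈ y'}
  let yv : J → B := Subtype.val
  have hy'mem : ∀ j : J, (j : B) ∈ y ∧ (j : B) ≠ 0 := fun j => Finset.mem_filter.mp j.2
  have hrange : Set.range yv = (y : Set B) \ {0} := by
    ext b
    constructor
    · rintro ⟨j, rfl⟩
      exact ⟨(hy'mem j).1, (hy'mem j).2⟩
    · rintro ⟨hb, hb0⟩
      exact ⟨⟨b, Finset.mem_filter.mpr ⟨hb, hb0⟩⟩, rfl⟩
  have hspan' : Submodule.span A (Set.range yv) = ⊤ := by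
    rw [hrange, Submodule.span_sdiff_singleton_zero, hspan]
  have hex : ∀ j : J, ∃ a : A, algebraMap A B a = yv j ^ ℓ := fun j => hpow _ (hy'mem j).1
  choose av hav using hex
  have hav0 : ∀ j, av j ≠ 0 := by
    intro j h0
    have := hav j
    rw [h0, map_zero] at this
    exact (hy'mem j).2 (pow_eq_zero_iff hℓ.ne' |>.mp this.symm)
  set a : A := ∏ j, av j with ha
  have ha0 : a ≠ 0 := Finset.prod_ne_zero_iff.mpr (fun j _ => hav0 j)
  have hcop : ∀ i, Nat.Coprime (p ^ i) ℓ := fun i =>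
    Nat.Coprime.pow_left i ((Nat.Prime.coprime_iff_not_dvd hp.out).2 hpℓ)
  obtain ⟨w, hw1, hw2⟩ := exists_decomp (p := p) (K := J → ZMod ℓ)
    (fun i k => {c : B | ∃ α : A, algebraMap A B a ^ (p ^ i) * c =
      algebraMap A B α * (zmon ℓ yv k) ^ (p ^ i)})
    (fun i b => exists_decomp_level ℓ yv av hav hspan' (p ^ i) (hcop i) b) η
  obtain ⟨u, v, huv⟩ := exists_pow_totient_eq p ℓ n hp.out hℓ hpℓ
  rw [← hw2]
  apply exists_common_mul_mem_Sset
  intro k _
  choose α hα using hw1 k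
  have hx : teichmuller p (algebraMap A B a) * w k =
      WittVector.map (algebraMap A B) (mk p α) * teichmuller p (zmon ℓ yv k) := by
    ext i
    rw [teichmuller_mul_coeff, mul_teichmuller_coeff, map_coeff, coeff_mk]
    exact hα i
  refine ⟨(∏ j, av j ^ (v * (k j).val)) * a, mul_ne_zero
    (Finset.prod_ne_zero_iff.mpr (fun j _ => pow_ne_zero _ (hav0 j))) ha0, ?_⟩
  rw [map_mul, map_mul, mul_assoc, hx, mul_left_comm, ← map_mul,
    zmon_mul_eq_pow ℓ yv av hav u v (p ^ n) huv k, ← iterate_frobenius_teichmuller]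
  apply AddSubgroup.subset_closure
  exact ⟨_, _, rfl⟩

theorem teichmuller_mul_iterate_verschiebung_mem_span (ℓ : ℕ) (hℓ : 0 < ℓ) (hpℓ : ¬ p ∣ ℓ)
    (y : Finset B) (hspan : Submodule.span A (y : Set B) = ⊤)
    (hpow : ∀ b ∈ y, b ^ ℓ ∈ Set.range (algebraMap A B)) (n : ℕ) (η : 𝕎 B) :
    ∃ a : A, a ≠ 0 ∧ teichmuller p (algebraMap A B a) *
        (verschiebung : 𝕎 B →+ 𝕎 B)^[n] η ∈ Ideal.span (Set.range (fun x : 𝕎 A =>
      WittVector.map (algebraMap A B) ((verschiebung : 𝕎 A →+ 𝕎 A)^[n] x))) := by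
  obtain ⟨a, ha0, ha⟩ := exists_teichmuller_mul_mem_Sset ℓ hℓ hpℓ y hspan hpow n η
  refine ⟨a, ha0, ?_⟩
  have hpos : 1 ≤ p ^ n := Nat.one_le_pow _ _ hp.out.pos
  have h1 : teichmuller p (algebraMap A B a) * (verschiebung : 𝕎 B →+ 𝕎 B)^[n] η =
      (verschiebung : 𝕎 B →+ 𝕎 B)^[n]
        (WittVector.map (algebraMap A B) (teichmuller p (a ^ (p ^ n - 1))) *
          (teichmuller p (algebraMap A B a) * η)) := by
    have h2 : teichmuller p ((algebraMap A B a) ^ (p ^ n)) =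
        WittVector.map (algebraMap A B) (teichmuller p (a ^ (p ^ n - 1))) *
          teichmuller p (algebraMap A B a) := by
      rw [map_teichmuller, ← map_mul (teichmuller p), ← map_mul (algebraMap A B), ← pow_succ,
        Nat.sub_add_cancel hpos, map_pow (algebraMap A B)]
    rw [mul_comm, iterate_verschiebung_mul_left, iterate_frobenius_teichmuller, h2]
    congr 1
    ring
  rw [h1]
  exact iterate_verschiebung_mem_span n (map_mul_mem_Sset n _ ha)

end Main

end Groth.Agent.Lib.Helper14
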