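import Mathlib.RingTheory.WittVector.Domain
import Mathlib.RingTheory.WittVector.Identities
import Mathlib.RingTheory.WittVector.TeichmullerSeries
import Mathlib.Tactic

set_option autoImplicit false

namespace Groth.Agent.Lib.Helper14

open WittVector Function

variable {p : ℕ} [hp : Fact p.Prime] {R : Type*} [CommRing R]

local notation "𝕎" => WittVector p

theorem eq_teichmuller_add_verschiebung_shift (x : 𝕎 R) :
    x = teichmuller p (x.coeff 0) + verschiebung (x.shift 1) := by
  ext n
  rw [coeff_add_of_disjoint]
  · cases n with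
    | zero => simp [teichmuller_coeff_zero, verschiebung_coeff_zero]
    | succ n =>
      rw [teichmuller_coeff_pos p _ _ (Nat.succ_pos n), verschiebung_coeff_succ, shift_coeff,
        zero_add, add_comm]
  · intro k
    cases k with
    | zero => right; exact verschiebung_coeff_zero _
    | succ k => left; exact teichmuller_coeff_pos p _ _ (Nat.succ_pos k)

omit hp [CommRing R] in
theorem shift_shift (x : 𝕎 R) (a b : ℕ) : (x.shift a).shift b = x.shift (a + b) := by
  ext n
  simp [shift_coeff, add_assoc]

omit hp [CommRing R] in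
theorem shift_zero (x : 𝕎 R) : x.shift 0 = x := by
  ext n
  simp [shift_coeff]

theorem eq_sum_add_iterate_verschiebung_shift (x : 𝕎 R) (N : ℕ) :
    x = ∑ j ∈ Finset.range N, (verschiebung : 𝕎 R →+ 𝕎 R)^[j] (teichmuller p (x.coeff j)) +
      (verschiebung : 𝕎 R →+ 𝕎 R)^[N] (x.shift N) := by
  induction N with
  | zero => simp [shift_zero]
  | succ N ih =>
    rw [Finset.sum_range_succ, add_assoc]
    have h1 := eq_teichmuller_add_verschiebung_shift (x.shift N)
    rw [shift_shift, shift_coeff, add_zero] at h1
    have h2 : (verschiebung : 𝕎 R →+ 𝕎 R)^[N] (x.shift N) =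
        (verschiebung : 𝕎 R →+ 𝕎 R)^[N] (teichmuller p (x.coeff N)) +
          (verschiebung : 𝕎 R →+ 𝕎 R)^[N + 1] (x.shift (N + 1)) := by
      conv_lhs => rw [h1]
      rw [iterate_map_add, iterate_succ_apply']
      congr 1
      rw [← iterate_succ_apply' (verschiebung : 𝕎 R →+ 𝕎 R), iterate_succ_apply]
    rw [← h2]
    exact ih

theorem eq_zero_of_forall_mem_range_iterate_verschiebung (x : 𝕎 R)
    (h : ∀ N : ℕ, ∃ y : 𝕎 R, (verschiebung : 𝕎 R →+ 𝕎 R)^[N] y = x) : x = 0 := by
  ext n
  obtain ⟨y, rfl⟩ := h (n + 1)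
  rw [iterate_verschiebung_coeff_eq_zero _ (Nat.lt_succ_self n), zero_coeff]

theorem teichmuller_add_verschiebung_coeff_succ (r : R) (y : 𝕎 R) (n : ℕ) :
    (teichmuller p r + verschiebung y).coeff (n + 1) = y.coeff n := by
  rw [coeff_add_of_disjoint]
  · rw [teichmuller_coeff_pos p _ _ (Nat.succ_pos n), verschiebung_coeff_succ, zero_add]
  · intro k
    cases k with
    | zero => right; exact verschiebung_coeff_zero _
    | succ k => left; exact teichmuller_coeff_pos p _ _ (Nat.succ_pos k)

theorem frobenius_teichmuller [CharP R p] (r : R) :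
    frobenius (teichmuller p r) = teichmuller p (r ^ p) := by
  rw [frobenius_eq_map_frobenius, map_teichmuller]
  rfl

theorem mul_teichmuller_coeff [CharP R p] (n : ℕ) : ∀ (x : 𝕎 R) (r : R),
    (x * teichmuller p r).coeff n = x.coeff n * r ^ p ^ n := by
  induction n with
  | zero =>
    intro x r
    rw [mul_coeff_zero, teichmuller_coeff_zero, pow_zero, pow_one]
  | succ n ih =>
    intro x r
    have h1 := eq_teichmuller_add_verschiebung_shift x
    have h2 : x * teichmuller p r = teichmuller p (x.coeff 0 * r) +
        verschiebung (x.shift 1 * teichmuller p (r ^ p)) := by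
      conv_lhs => rw [h1]
      rw [add_mul, ← map_mul, ← frobenius_teichmuller, verschiebung_mul_frobenius]
    rw [h2, teichmuller_add_verschiebung_coeff_succ, ih, shift_coeff, add_comm 1 n,
      ← pow_mul, pow_succ' p n]

noncomputable def iterV (N : ℕ) : 𝕎 R →+ 𝕎 R where
  toFun := (verschiebung : 𝕎 R →+ 𝕎 R)^[N]
  map_zero' := iterate_map_zero _ _
  map_add' := iterate_map_add _ _

theorem iterV_apply (N : ℕ) (x : 𝕎 R) :
    iterV N x = (verschiebung : 𝕎 R →+ 𝕎 R)^[N] x := rfl

theorem coeff_zero_eq_zero_imp (D : 𝕎 R) (h : D.coeff 0 = 0) :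
    D = verschiebung (D.shift 1) := by
  have := eq_iterate_verschiebung (p := p) (x := D) (n := 1) (by
    intro i hi
    have : i = 0 := by omega
    rw [this, h])
  simpa using this

section Decomp

variable {K : Type*} [Fintype K]

theorem exists_decomp (P : ℕ → K → Set R)
    (hP : ∀ (i : ℕ) (b : R), ∃ c : K → R, (∀ k, c k ∈ P i k) ∧ ∑ k, c k = b) (η : 𝕎 R) :
    ∃ w : K → 𝕎 R, (∀ k i, (w k).coeff i ∈ P i k) ∧ ∑ k, w k = η := by
  classical
  choose dec hdec1 hdec2 using hP
  let e : ℕ → 𝕎 R := fun N =>
    Nat.rec η (fun i ei => (ei - ∑ k, teichmuller p (dec i (ei.coeff 0) k)).shift 1) N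
  let c : ℕ → K → R := fun i k => dec i ((e i).coeff 0) k
  have hesucc : ∀ i, e (i + 1) = (e i - ∑ k, teichmuller p (c i k)).shift 1 := fun i => rfl
  have he : ∀ i, e i = ∑ k, teichmuller p (c i k) + verschiebung (e (i + 1)) := by
    intro i
    have h0 : (e i - ∑ k, teichmuller p (c i k)).coeff 0 = 0 := by
      have h1 : ∀ x : 𝕎 R, x.coeff 0 = constantCoeff x := fun x => rfl
      rw [h1, map_sub, map_sum]
      simp only [← h1, teichmuller_coeff_zero]
      rw [hdec2, sub_self]
    have h2 := coeff_zero_eq_zero_imp _ h0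
    rw [← hesucc] at h2
    rw [← h2]
    abel
  have claim1 : ∀ N, η = ∑ k, ∑ j ∈ Finset.range N, iterV j (teichmuller p (c j k)) +
      iterV N (e N) := by
    intro N
    induction N with
    | zero => simp [iterV_apply, e]
    | succ N ih =>
      have h3 : iterV N (e N) = ∑ k, iterV N (teichmuller p (c N k)) + iterV (N + 1) (e (N + 1)) := by
        conv_lhs => rw [he N]
        rw [map_add, map_sum]
        congr 1
      conv_lhs => rw [ih]
      rw [h3, ← add_assoc, ← Finset.sum_add_distrib]
      congr 1
      apply Finset.sum_congr rfl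
      intro k _
      rw [Finset.sum_range_succ]
  refine ⟨fun k => mk p (fun j => c j k), ?_, ?_⟩
  · intro k i
    rw [coeff_mk]
    exact hdec1 i _ k
  · have hzero : η - ∑ k, mk p (fun j => c j k) = 0 := by
      apply eq_zero_of_forall_mem_range_iterate_verschiebung
      intro N
      refine ⟨e N - ∑ k, (mk p (fun j => c j k)).shift N, ?_⟩
      rw [← iterV_apply, map_sub, map_sum]
      have h4 : ∀ k, mk p (fun j => c j k) =
          ∑ j ∈ Finset.range N, iterV j (teichmuller p (c j k)) +
            iterV N ((mk p (fun j => c j k)).shift N) := by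
        intro k
        have := eq_sum_add_iterate_verschiebung_shift (mk p (fun j => c j k)) N
        simp only [coeff_mk, ← iterV_apply] at this
        exact this
      conv_rhs => rw [claim1 N]
      conv_rhs => 
        enter [2, 2, k]
        rw [h4 k]
      rw [Finset.sum_add_distrib]
      abel
    exact (sub_eq_zero.mp hzero).symm

end Decomp

end Groth.Agent.Lib.Helper14
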