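import Mathlib.RingTheory.WittVector.StructurePolynomial
import Mathlib.RingTheory.MvPolynomial.WeightedHomogeneous

set_option autoImplicit false

namespace Groth.Agent.Lib.Helper14

open MvPolynomial Finset

variable {σ τ R S : Type*} [CommSemiring R] [CommSemiring S]

theorem isWeightedHomogeneous_X_pow (w : σ → ℕ) (i : σ) (k : ℕ) :
    IsWeightedHomogeneous w (X i ^ k : MvPolynomial σ R) (k * w i) := by
  have h := (isWeightedHomogeneous_X R w i).pow k
  simpa [smul_eq_mul] using h

theorem isWeightedHomogeneous_bind₁ (c : τ → ℕ) (w : σ → ℕ) (N : ℕ)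
    (G : τ → MvPolynomial σ R) (hG : ∀ b, IsWeightedHomogeneous w (G b) (c b * N))
    (Φ : MvPolynomial τ R) (d : ℕ) (hΦ : IsWeightedHomogeneous c Φ d) :
    IsWeightedHomogeneous w (bind₁ G Φ) (d * N) := by
  rw [bind₁, aeval_def, eval₂_eq]
  apply IsWeightedHomogeneous.sum
  intro m hm
  rw [algebraMap_eq]
  apply IsWeightedHomogeneous.C_mul
  have hm' : coeff m Φ ≠ 0 := by simpa [mem_support_iff] using hm
  have hwt : Finsupp.weight c m = d := hΦ hm'
  have hprod := IsWeightedHomogeneous.prod m.support (fun i => G i ^ m i)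
    (fun i => m i * (c i * N)) (w := w) (fun i _ => by
      have := (hG i).pow (m i)
      simpa [smul_eq_mul] using this)
  convert hprod using 1
  rw [← hwt, Finsupp.weight_apply, Finsupp.sum, Finset.sum_mul]
  apply Finset.sum_congr rfl
  intro i _
  simp [smul_eq_mul, mul_assoc]

theorem isWeightedHomogeneous_of_map (f : R →+* S) (hf : Function.Injective f) (w : σ → ℕ)
    (φ : MvPolynomial σ R) (n : ℕ) (h : IsWeightedHomogeneous w (map f φ) n) :
    IsWeightedHomogeneous w φ n := by
  intro d hd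
  apply h
  rw [coeff_map]
  exact fun h0 => hd (hf (by rw [h0, map_zero]))

theorem isWeightedHomogeneous_map (f : R →+* S) (w : σ → ℕ)
    (φ : MvPolynomial σ R) (n : ℕ) (h : IsWeightedHomogeneous w φ n) :
    IsWeightedHomogeneous w (map f φ) n := by
  intro d hd
  apply h
  rw [coeff_map] at hd
  exact fun h0 => hd (by rw [h0, map_zero])

section Witt

variable (p : ℕ) [hp : Fact p.Prime] {idx : Type*}

omit hp in
theorem wittPolynomial_rename_isWeightedHomogeneous (c : idx → ℕ) (b : idx) (n : ℕ) :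
    IsWeightedHomogeneous (fun x : idx × ℕ => c x.1 * p ^ x.2)
      (rename (fun i => (b, i)) (wittPolynomial p ℚ n)) (c b * p ^ n) := by
  rw [wittPolynomial_eq_sum_C_mul_X_pow, map_sum]
  apply IsWeightedHomogeneous.sum
  intro i hi
  have hX : rename (fun i => (b, i)) (X i ^ p ^ (n - i) : MvPolynomial ℕ ℚ) =
      X (b, i) ^ p ^ (n - i) := by rw [map_pow, rename_X]
  rw [map_mul, rename_C, hX]
  apply IsWeightedHomogeneous.C_mul
  have h := isWeightedHomogeneous_X_pow (R := ℚ) (fun x : idx × ℕ => c x.1 * p ^ x.2) (b, i)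
    (p ^ (n - i))
  have hin : i ≤ n := Nat.lt_succ_iff.mp (Finset.mem_range.mp hi)
  have hdeg : c b * p ^ n = p ^ (n - i) * (c b * p ^ i) := by
    rw [mul_left_comm, ← pow_add, Nat.sub_add_cancel hin]
  rw [hdeg]
  exact h

theorem wittStructureRat_isWeightedHomogeneous (c : idx → ℕ) (Φ : MvPolynomial idx ℚ) (d : ℕ)
    (hΦ : IsWeightedHomogeneous c Φ d) (n : ℕ) :
    IsWeightedHomogeneous (fun x : idx × ℕ => c x.1 * p ^ x.2) (wittStructureRat p Φ n)
      (d * p ^ n) := by
  induction n using Nat.strong_induction_on with | h n IH => ?_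
  rw [wittStructureRat_rec]
  apply IsWeightedHomogeneous.C_mul
  apply IsWeightedHomogeneous.sub
  · exact isWeightedHomogeneous_bind₁ c _ (p ^ n) _
      (fun b => wittPolynomial_rename_isWeightedHomogeneous p c b n) Φ d hΦ
  · apply IsWeightedHomogeneous.sum
    intro i hi
    apply IsWeightedHomogeneous.C_mul
    have h := (IH i (Finset.mem_range.mp hi)).pow (p ^ (n - i))
    have hin : i ≤ n := (Finset.mem_range.mp hi).le
    have hdeg : d * p ^ n = p ^ (n - i) • (d * p ^ i) := by
      rw [smul_eq_mul, mul_left_comm, ← pow_add, Nat.sub_add_cancel hin]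
    rw [hdeg]
    exact h

theorem wittStructureInt_isWeightedHomogeneous (c : idx → ℕ) (Φ : MvPolynomial idx ℤ) (d : ℕ)
    (hΦ : IsWeightedHomogeneous c Φ d) (n : ℕ) :
    IsWeightedHomogeneous (fun x : idx × ℕ => c x.1 * p ^ x.2) (wittStructureInt p Φ n)
      (d * p ^ n) := by
  apply isWeightedHomogeneous_of_map (Int.castRingHom ℚ) Int.cast_injective
  rw [map_wittStructureInt]
  exact wittStructureRat_isWeightedHomogeneous p c _ d
    (isWeightedHomogeneous_map (Int.castRingHom ℚ) c Φ d hΦ) n

end Witt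

end Groth.Agent.Lib.Helper14
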